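import Groth.Agent.FBlowLib.SpfAdic
import Mathlib.RingTheory.IntegralClosure.IsIntegral.Basic
import Mathlib.Algebra.Algebra.Subalgebra.Basic

/-!
# Sections divisible by the denominator of integral elements
-/

set_option autoImplicit false

universe u

open CategoryTheory TopologicalSpace Opposite AlgebraicGeometry FBlow FSch

noncomputable section

namespace FBlowLib

theorem mem_gen_pull_span {𝔜 : Sys.{u}} (h : 𝔜.IsFormal) {A : Type u} [CommRing A]
    (q : ∀ n, 𝔜.X n ⟶ Spec (CommRingCat.of A)) (hq : ∀ n, 𝔜.ι n ≫ q (n + 1) = q n) (S : Set A) :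
    schIdealMap 𝔜 h q hq (IdealSh.ofData (idealSpec A (Ideal.span S))) ≤
      IdealSh.gen fun W => pull h q hq W '' S := by
  refine schIdealMap_le h q hq fun a ha W => ?_
  exact ((Ideal.map_span (pull h q hq W) S).symm ▸
    (Ideal.span_le.2 (IdealSh.subset_gen (fun W => pull h q hq W '' S) W) :
      Ideal.span (pull h q hq W '' S) ≤ _)) (Ideal.mem_map_of_mem _ ha)

/-- An element is invertible if powers of the others lie in its ideal and together they generate the unit ideal. -/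
theorem isUnit_of_pow_mem {B : Type u} [CommRing B] (u₀ : B) (S : Set B)
    (hS : Ideal.span S = ⊤) (hpow : ∀ v ∈ S, ∃ m : ℕ, v ^ m ∈ Ideal.span {u₀}) : IsUnit u₀ := by
  rw [← Ideal.span_singleton_eq_top, ← Ideal.radical_eq_top, eq_top_iff, ← hS, Ideal.span_le]
  exact hpow

theorem pow_mem_of_eval {A B : Type u} [CommRing A] [CommRing B] (φ : A →+* B) (P : Polynomial A)
    (hP : P.Monic) (c g : A) (hPg : ∑ j ∈ Finset.range (P.natDegree + 1), P.coeff j * g ^ j * c ^ (P.natDegree - j) = 0)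
    (e u₀ v : B) (he : ∀ t, t * e = 0 → t = 0) (hu : φ c = u₀ * e) (hv : φ g = v * e) :
    v ^ P.natDegree ∈ Ideal.span {u₀} := by
  set m := P.natDegree
  have h0 := congrArg φ hPg
  rw [map_sum, map_zero] at h0
  have h1 : (∑ j ∈ Finset.range (m + 1), φ (P.coeff j) * v ^ j * u₀ ^ (m - j)) * e ^ m = 0 := by
    rw [Finset.sum_mul, ← h0]
    refine Finset.sum_congr rfl fun j hj => ?_
    have : j + (m - j) = m := Nat.add_sub_cancel' (Nat.lt_succ_iff.1 (Finset.mem_range.1 hj))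
    rw [map_mul, map_mul, map_pow, map_pow, hu, hv, mul_pow, mul_pow]
    conv_lhs => rw [← this, pow_add]
    rw [this]
    ring
  have hem : ∀ k, ∀ t : B, t * e ^ k = 0 → t = 0 := fun k => by
    induction k with
    | zero => intro t ht; simpa using ht
    | succ k ih => intro t ht; exact ih t (he _ (by rw [mul_assoc, ← pow_succ]; exact ht))
  have h2 := hem m _ h1
  rw [Finset.sum_range_succ, Polynomial.Monic.coeff_natDegree hP, map_one, one_mul, Nat.sub_self, pow_zero, mul_one,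
    add_eq_zero_iff_eq_neg'] at h2
  rw [h2, neg_mem_iff]
  refine Ideal.sum_mem _ fun j hj => Ideal.mul_mem_left _ _ ?_
  exact Ideal.pow_mem_of_mem _ (Ideal.mem_span_singleton_self u₀) _ (by
    have := Finset.mem_range.1 hj
    omega)

theorem homogenize {A L : Type u} [CommRing A] [CommRing L] [Algebra A L]
    (hinj : Function.Injective (algebraMap A L)) (c g : A) (f : L)
    (hgf : algebraMap A L g = algebraMap A L c * f) (P : Polynomial A) (hf : Polynomial.aeval f P = 0) :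
    ∑ j ∈ Finset.range (P.natDegree + 1), P.coeff j * g ^ j * c ^ (P.natDegree - j) = 0 := by
  apply hinj
  rw [map_sum, map_zero]
  have h := congrArg (fun z => algebraMap A L c ^ P.natDegree * z) hf
  simp only [mul_zero, Polynomial.aeval_eq_sum_range, Finset.mul_sum] at h
  refine Eq.trans (Finset.sum_congr rfl fun j hj => ?_) h
  have : j + (P.natDegree - j) = P.natDegree := Nat.add_sub_cancel' (Nat.lt_succ_iff.1 (Finset.mem_range.1 hj))
  rw [map_mul, map_mul, map_pow, map_pow, hgf, mul_pow, Algebra.smul_def]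
  conv_rhs => rw [← this, pow_add]
  ring

/-- Elements of `A[f]` become fractions `a / c ^ k` whose images are divisible. -/
def FracRel {A L B : Type u} [CommRing A] [CommRing L] [CommRing B] [Algebra A L] (φ : A →+* B) (c : A)
    (x : L) (b : B) : Prop :=
  ∃ (k : ℕ) (a : A), algebraMap A L a = algebraMap A L c ^ k * x ∧ φ a = φ c ^ k * b

variable {A L B : Type u} [CommRing A] [CommRing L] [CommRing B] [Algebra A L] (φ : A →+* B) (c : A)

theorem FracRel.unique (hinj : ∀ a : A, algebraMap A L a = 0 → φ a = 0) (hc : ∀ t : B, t * φ c = 0 → t = 0)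
    {x : L} {b b' : B} (h : FracRel φ c x b) (h' : FracRel φ c x b') : b = b' := by
  obtain ⟨k, a, ha, hb⟩ := h
  obtain ⟨k', a', ha', hb'⟩ := h'
  have e2 : φ (c ^ k' * a) = φ (c ^ k * a') := sub_eq_zero.1 ((map_sub φ _ _).symm.trans
    (hinj _ (by rw [map_sub, map_mul, map_mul, map_pow, map_pow, ha, ha']; ring)))
  rw [map_mul, map_mul, map_pow, map_pow, hb, hb'] at e2
  have hck : ∀ k, ∀ t : B, t * φ c ^ k = 0 → t = 0 := fun k => by
    induction k with
    | zero => intro t ht; simpa using ht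
    | succ k ih => intro t ht; exact ih t (hc _ (by rw [mul_assoc, ← pow_succ]; exact ht))
  refine sub_eq_zero.1 (hck (k + k') _ ?_)
  linear_combination e2

theorem FracRel.of_algebraMap (a : A) : FracRel φ c (algebraMap A L a) (φ a) :=
  ⟨0, a, by simp, by simp⟩

theorem FracRel.add {x y : L} {b b' : B} (h : FracRel φ c x b) (h' : FracRel φ c y b') :
    FracRel φ c (x + y) (b + b') := by
  obtain ⟨k, a, ha, hb⟩ := h
  obtain ⟨k', a', ha', hb'⟩ := h'
  exact ⟨k + k', c ^ k' * a + c ^ k * a', by simp only [map_add, map_mul, map_pow, ha, ha']; ring,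
    by simp only [map_add, map_mul, map_pow, hb, hb']; ring⟩

theorem FracRel.mul {x y : L} {b b' : B} (h : FracRel φ c x b) (h' : FracRel φ c y b') :
    FracRel φ c (x * y) (b * b') := by
  obtain ⟨k, a, ha, hb⟩ := h
  obtain ⟨k', a', ha', hb'⟩ := h'
  exact ⟨k + k', a * a', by simp only [map_mul, ha, ha']; ring, by simp only [map_mul, hb, hb']; ring⟩

theorem exists_fracHom (hinj : ∀ a : A, algebraMap A L a = 0 → φ a = 0) (hc : ∀ t : B, t * φ c = 0 → t = 0)
    (S : Set L) (hS : ∀ s ∈ S, ∃ b, FracRel φ c s b) :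
    ∃ ψ : ↥(Algebra.adjoin A S) →+* B, ∀ x : ↥(Algebra.adjoin A S), FracRel φ c (x : L) (ψ x) := by
  have key : ∀ x : ↥(Algebra.adjoin A S), ∃ b, FracRel φ c (x : L) b := fun ⟨x, hx⟩ => by
    induction hx using Algebra.adjoin_induction with
    | mem s hs => exact hS s hs
    | algebraMap a => exact ⟨φ a, FracRel.of_algebraMap φ c a⟩
    | add x y _ _ h h' => exact ⟨_, h.choose_spec.add φ c h'.choose_spec⟩
    | mul x y _ _ h h' => exact ⟨_, h.choose_spec.mul φ c h'.choose_spec⟩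
  choose ψ hψ using key
  exact ⟨{
    toFun := ψ
    map_one' := (hψ 1).unique φ c hinj hc (by simpa using FracRel.of_algebraMap (L := L) φ c 1)
    map_zero' := (hψ 0).unique φ c hinj hc (by simpa using FracRel.of_algebraMap (L := L) φ c 0)
    map_add' := fun x y => (hψ (x + y)).unique φ c hinj hc ((hψ x).add φ c (hψ y))
    map_mul' := fun x y => (hψ (x * y)).unique φ c hinj hc ((hψ x).mul φ c (hψ y)) }, hψ⟩

theorem exists_pow_mem_span {R : Type u} [CommRing R] [IsDomain R] [ValuationRing R] [Ring.KrullDimLE 1 R]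
    (t : R) [IsAdicComplete (Ideal.span {t}) R] {c : R} (hc : c ≠ 0) : ∃ k, t ^ k ∈ Ideal.span {c} := by
  show t ∈ (Ideal.span {c}).radical
  rw [Ideal.radical_eq_sInf, Submodule.mem_sInf]
  rintro P ⟨hle, hP⟩
  have hne : P ≠ ⊥ := fun e => hc ((Ideal.mem_bot).1 (e ▸ hle (Ideal.mem_span_singleton_self c)))
  have hmax := hP.isMaximal_of_ne_bot hne
  exact (Ideal.mem_sInf.1 ((IsAdicComplete.le_jacobson_bot (Ideal.span {t}))
    (Ideal.mem_span_singleton_self t))) ⟨bot_le, hmax⟩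

section Chart

variable {A C : Type u} [CommRing A] [CommRing C] {K : Ideal A} {J : Ideal C} (φ : A →+* C)
  (hle : K ≤ J.comap φ)

/-- An element generating the image of a finite family gives an invertible ideal on a formal spectrum. -/
theorem isInvertible_idealMap_spfMap (hX : (spf A K).IsFormal) (h' : (spf C J).IsFormal) (S : Set A) (c : A)
    (hcS : c ∈ S) (hgen : ∀ a ∈ S, φ a ∈ Ideal.span {φ c}) (hc : ∀ x : C, x * φ c = 0 → x = 0) (N : ℕ)
    (hN : J ^ N ≤ Ideal.span {φ c}) :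
    (idealMap (spfMap J K φ hle) h' hX (schIdealMap (spf A K) hX (spfToSpec A K) (spfToSpec_comm A K)
      (IdealSh.ofData (idealSpec A (Ideal.span S))))).IsInvertible := by
  have hcomp : ∀ n, (spfMap J K φ hle : Hom _ _).app n ≫ spfToSpec A K n =
      toSpecOf (𝟙 (spf C J) ≫ spfMap J K φ hle) n := fun n => by rw [Category.id_comp]
  rw [idealMap_schIdealMap h' hX (spfToSpec A K) (spfToSpec_comm A K) (spfMap J K φ hle)
    (toSpecOf (𝟙 (spf C J) ≫ spfMap J K φ hle)) (toSpecOf_comm _) hcomp]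
  rw [isInvertible_iff]
  intro x
  refine ⟨⊤, trivial, pull h' (toSpecOf (𝟙 (spf C J))) (toSpecOf_comm _) ⊤ (φ c), ?_⟩
  refine isGen_of_le _ ?_ (fun V i s hs => ?_) (schIdealMap_le h' _ _ fun a ha W => ?_)
  · rw [← pull_spfMap h' φ hle]
    exact pull_mem_schIdealMap h' _ _ (Ideal.subset_span hcS) ⊤
  · rw [res_pull] at hs
    exact pull_nzd h' _ (toSpecOf_comm _) (isSpfLike_id C J) hc hN V s hs
  · rw [pull_spfMap h' φ hle]
    have hS : Ideal.map φ (Ideal.span S) ≤ Ideal.span {φ c} := by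
      rw [Ideal.map_le_iff_le_comap, Ideal.span_le]
      exact hgen
    obtain ⟨d, hd⟩ := Ideal.mem_span_singleton'.1 (hS (Ideal.mem_map_of_mem φ ha))
    refine mem_divSh_of_eq _ fun W' i j => ⟨pull h' (toSpecOf (𝟙 (spf C J))) (toSpecOf_comm _) W' d, ?_⟩
    rw [res_pull, res_pull, ← hd, _root_.map_mul]

/-- On an adic test object the denominator of integral fractions generates the invertible ideal. -/
theorem nzd_and_dvd_of_integral {𝔜 : Sys.{u}} (h : 𝔜.IsFormal) (q : ∀ n, 𝔜.X n ⟶ Spec (CommRingCat.of A))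
    (hq : ∀ n, 𝔜.ι n ≫ q (n + 1) = q n) (c : A) {ι : Type} (g : ι → A)
    (hrel : ∀ i, ∃ P : Polynomial A, P.Monic ∧
      ∑ j ∈ Finset.range (P.natDegree + 1), P.coeff j * g i ^ j * c ^ (P.natDegree - j) = 0)
    (hinv : (schIdealMap 𝔜 h q hq (IdealSh.ofData (idealSpec A (Ideal.span (insert c (Set.range g)))))).IsInvertible) :
    (∀ (V : (𝔜.X 0).Opens) (s : (𝔜.Osh h).obj.obj (op V)), s * pull h q hq V c = 0 → s = 0) ∧
      ∀ i, ∃ v, pull h q hq ⊤ (g i) = v * pull h q hq ⊤ c := by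
  rw [isInvertible_iff] at hinv
  have hloc : ∀ y : 𝔜.X 0, ∃ U : (𝔜.X 0).Opens, y ∈ U ∧
      (∀ (V : (𝔜.X 0).Opens), V ≤ U → ∀ s, s * pull h q hq V c = 0 → s = 0) ∧
      ∀ i, ∃ v, pull h q hq U (g i) = v * pull h q hq U c := by
    intro y
    obtain ⟨U₀, hy, e, he⟩ := hinv y
    obtain ⟨U, i₀, hyU, hU⟩ := mem_gen_pull_span h q hq (insert c (Set.range g)) U₀ he.1 y hy
    replace he := he.mono i₀
    change res (𝔜.Osh h) i₀ e ∈ _ at hU
    generalize res (𝔜.Osh h) i₀ e = e at he hU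
    have hmem : ∀ a ∈ insert c (Set.range g), ∃ u, pull h q hq U a = u * e := fun a ha => by
      obtain ⟨u, hu⟩ := (he.2 U le_rfl).2 _ (pull_mem_schIdealMap h q hq (Ideal.subset_span ha) U)
      refine ⟨u, ?_⟩
      rw [res, IdealSh.map_id_apply] at hu
      exact hu
    have hne : ∀ s, s * e = 0 → s = 0 := fun s hs => by
      refine (he.2 U le_rfl).1 s ?_
      rw [res, IdealSh.map_id_apply]
      exact hs
    choose u hu using hmem
    let V' : Set ((𝔜.Osh h).obj.obj (op U)) := {z | ∃ a, ∃ ha : a ∈ insert c (Set.range g), z = u a ha}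
    have hle' : Ideal.span (IdealSh.seed (fun W => pull h q hq W '' insert c (Set.range g)) U) ≤
        Ideal.span V' * Ideal.span {e} := by
      rw [Ideal.span_le]
      rintro _ ⟨W, j, _, ⟨a, ha, rfl⟩, rfl⟩
      have : (𝔜.Osh h).obj.map (homOfLE j).op (pull h q hq W a) = u a ha * e :=
        (res_pull h q hq j a).trans (hu a ha)
      rw [SetLike.mem_coe, this]
      exact Ideal.mul_mem_mul (Ideal.subset_span ⟨a, ha, rfl⟩) (Ideal.mem_span_singleton_self e)
    obtain ⟨z, hz, hz'⟩ := Ideal.mem_mul_span_singleton.1 (hle' hU)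
    have htop : Ideal.span V' = ⊤ := (Ideal.eq_top_iff_one _).2 (sub_eq_zero.1 (hne (z - 1) (by
      rw [sub_mul, one_mul, hz', sub_self])) ▸ hz)
    have hcS : c ∈ insert c (Set.range g) := Set.mem_insert _ _
    have hunit : IsUnit (u c hcS) := by
      refine isUnit_of_pow_mem _ V' htop ?_
      rintro _ ⟨a, ha, rfl⟩
      rcases ha with rfl | ⟨i, rfl⟩
      · exact ⟨1, by rw [pow_one]; exact Ideal.mem_span_singleton_self _⟩
      · obtain ⟨P, hPm, hP⟩ := hrel i
        exact ⟨P.natDegree, pow_mem_of_eval (pull h q hq U) P hPm c (g i) hP e _ _ hne (hu _ hcS) (hu _ _)⟩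
    obtain ⟨w, hw⟩ := hunit
    refine ⟨U, hyU, fun V hV s hs => (he.2 V hV).1 s ?_, fun i => ?_⟩
    · have e1 : pull h q hq V c = res _ hV (w : (𝔜.Osh h).obj.obj (op U)) * res _ hV e := by
        rw [← res_pull h q hq hV, hu _ hcS, hw, res, _root_.map_mul]
      rw [e1, mul_left_comm] at hs
      exact (IsUnit.mul_right_eq_zero ((w.isUnit).map ((𝔜.Osh h).obj.map (homOfLE hV).op).hom)).1 hs
    · refine ⟨u (g i) (Or.inr ⟨i, rfl⟩) * ↑w⁻¹, ?_⟩
      rw [hu _ hcS, ← hw, mul_assoc, ← mul_assoc (↑w⁻¹ : (𝔜.Osh h).obj.obj (op U)), Units.inv_mul, one_mul]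
      exact hu _ _
  have hcY : ∀ (V : (𝔜.X 0).Opens) (s : (𝔜.Osh h).obj.obj (op V)), s * pull h q hq V c = 0 → s = 0 := by
    intro V s hs
    refine nzd_of_local (pull h q hq ⊤ c) (fun y _ => ?_) V le_top s ?_
    · obtain ⟨U, hy, hU, -⟩ := hloc y
      exact ⟨U, hy, fun V' i hV' s' hs' => hU V' hV' s' (by rwa [res_pull] at hs')⟩
    · rwa [res_pull]
  refine ⟨hcY, fun i => exists_eq_mul_of_local _ _ (fun W j s hs => hcY W s (by rwa [res_pull] at hs))
    fun y _ => ?_⟩
  obtain ⟨U, hy, -, hU⟩ := hloc y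
  obtain ⟨v, hv⟩ := hU i
  exact ⟨U, le_top, hy, v, by rw [res_pull, res_pull]; exact hv⟩

/-- Factorisation through a formal spectrum by a ring map to sections. -/
theorem existsUnique_lift {𝔜 : Sys.{u}} (h : 𝔜.IsFormal) (hK : K.map φ = J) (gY : 𝔜 ⟶ spf A K)
    (ψ : C →+* (𝔜.Osh h).obj.obj (op ⊤))
    (hψ : ∀ a, ψ (φ a) = pull h (toSpecOf gY) (toSpecOf_comm gY) ⊤ a)
    (huniq : ∀ ψ' : C →+* (𝔜.Osh h).obj.obj (op ⊤),
      (∀ a, ψ' (φ a) = pull h (toSpecOf gY) (toSpecOf_comm gY) ⊤ a) → ψ' = ψ) :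
    ∃! k : 𝔜 ⟶ spf C J, k ≫ spfMap J K φ hle = gY := by
  have hkill : ∀ m, ∀ j ∈ J ^ (m + 1), topLvl h m (ψ j) = 0 := by
    intro m j hj
    rw [← hK, ← Ideal.map_pow] at hj
    refine (Ideal.map_le_iff_le_comap.2 fun a ha => ?_ :
      Ideal.map φ (K ^ (m + 1)) ≤ RingHom.ker ((topLvl h m).comp ψ)) hj
    rw [Ideal.mem_comap, RingHom.mem_ker, RingHom.comp_apply, hψ]
    exact topLvl_pull_pow h gY m ha
  refine ⟨homSpf h J ψ hkill, homSpf_ext h fun a => ?_, fun k' hk' => homSpf_ext h fun x => ?_⟩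
  · rw [pull_spfMap h φ hle, pull_homSpf, hψ]
  · rw [pull_homSpf]
    subst hk'
    exact RingHom.congr_fun (huniq (pull h (toSpecOf k') (toSpecOf_comm k') ⊤)
      fun a => (pull_spfMap h φ hle k' ⊤ a).symm) x

end Chart

/-- The formal spectrum of `A[g i / c]`, when the fractions are integral, is the blowing-up in `(c, g)`. -/
theorem isAdmBlowUp_adjoin {A L : Type u} [CommRing A] [CommRing L] [Algebra A L]
    (hinj : Function.Injective (algebraMap A L)) (c : A) (hcu : IsUnit (algebraMap A L c)) {ι : Type}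
    (f : ι → L) (g : ι → A) (hg : ∀ i, algebraMap A L (g i) = algebraMap A L c * f i)
    (hf : ∀ i, IsIntegral A (f i)) (K : Ideal A) (N : ℕ) (hN : K ^ N ≤ Ideal.span {c})
    (J : Ideal ↥(Algebra.adjoin A (Set.range f))) (hJ : K.map (algebraMap A ↥(Algebra.adjoin A (Set.range f))) = J)
    (hX : (spf A K).IsFormal) (h' : (spf ↥(Algebra.adjoin A (Set.range f)) J).IsFormal)
    (hle : K ≤ J.comap (algebraMap A ↥(Algebra.adjoin A (Set.range f)))) :
    IsAdmBlowUp (spfMap J K (algebraMap A ↥(Algebra.adjoin A (Set.range f))) hle) h' hX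
      (schIdealMap (spf A K) hX (spfToSpec A K) (spfToSpec_comm A K)
        (IdealSh.ofData (idealSpec A (Ideal.span (insert c (Set.range g)))))) := by
  have hc' : ∀ x : ↥(Algebra.adjoin A (Set.range f)), x * algebraMap A _ c = 0 → x = 0 := fun x hx =>
    Subtype.ext (hcu.mul_left_eq_zero.1 (congrArg Subtype.val hx :))
  have hgen : ∀ a ∈ insert c (Set.range g), algebraMap A ↥(Algebra.adjoin A (Set.range f)) a ∈
      Ideal.span {algebraMap A ↥(Algebra.adjoin A (Set.range f)) c} := by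
    rintro a (rfl | ⟨i, rfl⟩)
    · exact Ideal.mem_span_singleton_self _
    · exact Ideal.mem_span_singleton.2 ⟨⟨f i, Algebra.subset_adjoin ⟨i, rfl⟩⟩, Subtype.ext (hg i)⟩
  have hN' : J ^ N ≤ Ideal.span {algebraMap A ↥(Algebra.adjoin A (Set.range f)) c} := by
    subst hJ
    rw [← Ideal.map_pow]
    refine (Ideal.map_mono hN).trans (le_of_eq ?_)
    rw [Ideal.map_span, Set.image_singleton]
  refine ⟨isAdicHom_spfMap J K _ hle hJ,
    isInvertible_idealMap_spfMap _ hle hX h' _ c (Set.mem_insert _ _) hgen hc' N hN',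
    fun 𝔜 h𝔜 gY _ hinvY => ?_⟩
  rw [idealMap_schIdealMap h𝔜 hX (spfToSpec A K) (spfToSpec_comm A K) gY
    (toSpecOf gY) (toSpecOf_comm gY) (fun _ => rfl)] at hinvY
  have hker : ∀ a : A, algebraMap A L a = 0 → pull h𝔜 (toSpecOf gY) (toSpecOf_comm gY) ⊤ a = 0 := fun a ha => by
    rw [hinj (ha.trans (map_zero _).symm), map_zero]
  obtain ⟨hcY, hex⟩ := nzd_and_dvd_of_integral h𝔜 _ (toSpecOf_comm gY) c g
    (fun i => by
      obtain ⟨P, hPm, hP⟩ := hf i
      exact ⟨P, hPm, homogenize hinj c (g i) (f i) (hg i) P hP⟩) hinvY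
  obtain ⟨ψ, hψ⟩ := exists_fracHom (pull h𝔜 (toSpecOf gY) (toSpecOf_comm gY) ⊤) c hker (hcY ⊤) (Set.range f) (by
    rintro _ ⟨i, rfl⟩
    obtain ⟨v, hv⟩ := hex i
    exact ⟨v, 1, g i, by rw [pow_one, hg], by rw [pow_one, hv, mul_comm]⟩)
  refine existsUnique_lift _ hle h𝔜 hJ gY ψ
    (fun a => (hψ _).unique _ _ hker (hcY ⊤) (FracRel.of_algebraMap _ _ a))
    fun ψ' hψ' => RingHom.ext fun x => ?_
  obtain ⟨k, a, ha, hb⟩ := hψ x
  refine FracRel.unique _ _ hker (hcY ⊤) ⟨k, a, ha, ?_⟩ (hψ x)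
  have hx : algebraMap A ↥(Algebra.adjoin A (Set.range f)) a =
      algebraMap A ↥(Algebra.adjoin A (Set.range f)) c ^ k * x := Subtype.ext ha
  rw [← hψ' a, ← hψ' c, ← map_pow, ← _root_.map_mul, hx]

end FBlowLib
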