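import Groth.Agent.FBlowLib.Sharp
import Groth.Agent.FComplLib.Spf
import Groth.Agent.FComplLib.Thicken
import Groth.Agent.CompleteLib.ModuleLimit

/-!
# Sections over affine opens of a formal system adic over a formal spectrum
-/

set_option autoImplicit false
set_option linter.style.haveILetI false

universe u

open CategoryTheory CategoryTheory.Limits AlgebraicGeometry TopologicalSpace Opposite FSch FBlow

noncomputable section

namespace FBlowLib

section Pull

variable {𝔛 : Sys.{u}} (h : 𝔛.IsFormal) {A : Type u} [CommRing A] (q : ∀ n, 𝔛.X n ⟶ Spec (CommRingCat.of A))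
  (hq : ∀ n, 𝔛.ι n ≫ q (n + 1) = q n)

/-- The image of a ring element in the sections of the structure sheaf. -/
def pull (W : (𝔛.X 0).Opens) : A →+* (𝔛.Osh h).obj.obj (op W) :=
  (((𝔛.Osh h).obj.map (homOfLE (show W ≤ (Opens.map (q 0).base).obj ⊤ from le_top)).op).hom.comp
    ((schSharp 𝔛 h q hq).hom.app (op ⊤)).hom).comp (Scheme.ΓSpecIso (CommRingCat.of A)).inv.hom

/-- The image of a ring element in the sections of a level. -/
def pullLvl (n : ℕ) (W : (𝔛.X n).Opens) : A →+* Γ(𝔛.X n, W) :=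
  ((q n).appLE ⊤ W le_top).hom.comp (Scheme.ΓSpecIso (CommRingCat.of A)).inv.hom

theorem oProj_pull (n : ℕ) (W : (𝔛.X 0).Opens) (a : A) :
    FModLib.oProj h W n (pull h q hq W a) = pullLvl q n (𝔛.lvU h n W) a := by
  refine (oProj_res h _ n _).trans ?_
  refine (congrArg ((𝔛.X n).presheaf.map _) (oProj_schSharp h q hq n ⊤ _)).trans ?_
  exact congr($((q n).appLE_map _ _) _)

theorem res_pull {W W' : (𝔛.X 0).Opens} (i : W' ≤ W) (a : A) :
    res (𝔛.Osh h) i (pull h q hq W a) = pull h q hq W' a :=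
  IdealSh.map_comp_apply _ i _

theorem pullLvl_map (n : ℕ) {W W' : (𝔛.X n).Opens} (i : W' ≤ W) (a : A) :
    (𝔛.X n).presheaf.map (homOfLE i).op (pullLvl q n W a) = pullLvl q n W' a :=
  congr($((q n).appLE_map (le_top : W ≤ q n ⁻¹ᵁ ⊤) (homOfLE i).op) ((Scheme.ΓSpecIso (CommRingCat.of A)).inv a))

end Pull

section Adic

variable {R : Type u} [CommRing R] (I : Ideal R) {𝔛 : Sys.{u}} (h : 𝔛.IsFormal) (p : 𝔛 ⟶ spf R I)

/-- The maps of the levels to the spectrum of the base ring. -/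
abbrev toBase (n : ℕ) : 𝔛.X n ⟶ Spec (CommRingCat.of R) := (p : Hom 𝔛 (spf R I)).app n ≫ spfToSpec R I n

theorem toBase_comm (n : ℕ) : 𝔛.ι n ≫ toBase I p (n + 1) = toBase I p n := by
  rw [toBase, toBase, ← Category.assoc, ← (p : Hom 𝔛 (spf R I)).comm n, Category.assoc]
  exact congrArg (_ ≫ ·) (spfToSpec_comm R I n)

/-- Global functions on a level of the formal spectrum. -/
def spfEl (n : ℕ) : R →+* Γ((spf R I).X n, ⊤) :=
  (Scheme.ΓSpecIso (CommRingCat.of (R ⧸ I ^ (n + 1)))).inv.hom.comp (Ideal.Quotient.mk (I ^ (n + 1)))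

theorem pullLvl_toBase (n : ℕ) (W : (𝔛.X n).Opens) (r : R) :
    pullLvl (toBase I p) n W r = ((p : Hom 𝔛 (spf R I)).app n).appLE ⊤ W le_top (spfEl I n r) := by
  have e : (spfToSpec R I n).appLE ⊤ ⊤ le_top ((Scheme.ΓSpecIso (CommRingCat.of R)).inv r) = spfEl I n r := by
    have h1 : (spfToSpec R I n).appLE ⊤ ⊤ le_top = (spfToSpec R I n).app ⊤ :=
      (Scheme.Hom.app_eq_appLE (spfToSpec R I n)).symm
    rw [h1]
    exact congr($((Scheme.ΓSpecIso_inv_naturality (CommRingCat.ofHom (Ideal.Quotient.mk (I ^ (n + 1))))).symm) r)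
  rw [← e]
  exact congr($((Scheme.Hom.appLE_comp_appLE ((p : Hom 𝔛 (spf R I)).app n) (spfToSpec R I n) ⊤ ⊤ W le_top
    le_top).symm) _)

variable {I} in
theorem ker_levelMap (hp : IsAdicHom p) {V : (𝔛.X 0).Opens} (hV : IsAffineOpen V) (n : ℕ) :
    RingHom.ker ((𝔛.levelMap h n).hom.app (op V)).hom =
      (I ^ (n + 1)).map (pullLvl (toBase I p) (n + 1) (𝔛.lvU h (n + 1) V)) := by
  have := ((FComplLib.spf_isFormal I) n).1
  have := (h n).1
  obtain ⟨-, hk, -⟩ := FComplLib.chart (hp n) (⟨⊤, isAffineOpen_top (Spec (CommRingCat.of (R ⧸ I ^ (n + 1 + 1))))⟩ : (Spec (CommRingCat.of (R ⧸ I ^ (n + 1 + 1)))).affineOpens)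
    ⟨_, FModLib.isAffineOpen_lvU h hV (n + 1)⟩ le_top
  rw [show RingHom.ker ((𝔛.levelMap h n).hom.app (op V)).hom =
    RingHom.ker ((𝔛.ι n).app (𝔛.lvU h (n + 1) V)).hom from
      FModLib.ker_appLE_of_eq _ _ _ _ (𝔛.lvU_succ h n V), hk]
  have e1 : (Spec.map (CommRingCat.ofHom (FComplLib.qmap I (Nat.le_succ n)))).ker.ideal
        ⟨⊤, isAffineOpen_top (Spec (CommRingCat.of (R ⧸ I ^ (n + 1 + 1))))⟩ = (I ^ (n + 1)).map (spfEl I (n + 1)) := by
    rw [FComplLib.ker_specMap, BlowUpLib.specIdeal_top, FComplLib.ker_qmap, Ideal.map_map]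
    rfl
  erw [e1, Ideal.map_map]
  refine congrArg (fun f => Ideal.map f _) (RingHom.ext fun r => ?_)
  exact (pullLvl_toBase I p (n + 1) _ r).symm

theorem levelMap_pullLvl (n : ℕ) (V : (𝔛.X 0).Opens) (r : R) :
    (𝔛.levelMap h n).hom.app (op V) (pullLvl (toBase I p) (n + 1) (𝔛.lvU h (n + 1) V) r) =
      pullLvl (toBase I p) n (𝔛.lvU h n V) r := by
  rw [← oProj_pull h _ (toBase_comm I p), ← oProj_pull h _ (toBase_comm I p)]
  exact FModLib.oProj_succ h V n _

variable {I} in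
theorem ker_oProj (hp : IsAdicHom p) (hI : I.FG) {V : (𝔛.X 0).Opens} (hV : IsAffineOpen V) (n : ℕ) :
    RingHom.ker (FModLib.oProj h V n).hom = (I ^ (n + 1)).map (pull h (toBase I p) (toBase_comm I p) V) ∧
      Function.Surjective (FModLib.oProj h V n) := by
  let q := toBase I p
  let ρ := pull h q (toBase_comm I p) V
  letI : Algebra R ((𝔛.Osh h).obj.obj (op V)) := ρ.toAlgebra
  letI : ∀ m, Algebra R ((𝔛.levelObj h m).obj.obj (op V)) := fun m => (pullLvl q m (𝔛.lvU h m V)).toAlgebra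
  let π : ∀ m, (𝔛.Osh h).obj.obj (op V) →ₗ[R] (𝔛.levelObj h m).obj.obj (op V) := fun m =>
    { toFun := FModLib.oProj h V m
      map_add' := map_add _
      map_smul' := fun r b => by
        rw [Algebra.smul_def, Algebra.smul_def, _root_.map_mul]
        exact congrArg (· * _) (oProj_pull h q (toBase_comm I p) m V r) }
  let f : ∀ m, (𝔛.levelObj h (m + 1)).obj.obj (op V) →ₗ[R] (𝔛.levelObj h m).obj.obj (op V) := fun m =>
    { toFun := (𝔛.levelMap h m).hom.app (op V)
      map_add' := map_add _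
      map_smul' := fun r b => by
        rw [Algebra.smul_def, Algebra.smul_def, _root_.map_mul]
        exact congrArg (· * _) (levelMap_pullLvl I h p m V r) }
  have hker : ∀ m, LinearMap.ker (f m) = I ^ (m + 1) • (⊤ : Submodule R _) := fun m => by
    rw [Ideal.smul_top_eq_map]
    ext z
    exact SetLike.ext_iff.1 (ker_levelMap h p hp hV m) z
  obtain ⟨-, hπ, -⟩ := CompleteLib.limit_of_fg I (fun m => (𝔛.levelObj h m).obj.obj (op V)) f
    (fun m => FModLib.levelMap_surjective h V m hV) hker _ π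
    (fun m => LinearMap.ext fun b => FModLib.oProj_succ h V m b)
    (fun b hb => FModLib.oSec_ext h V fun m => (hb m).trans (map_zero _).symm)
    (fun y hy => by
      obtain ⟨b, hb⟩ := (FModLib.toLim_bijective h V hV).2 ⟨y, hy⟩
      exact ⟨b, fun m => congrArg (fun x => x.1 m) hb⟩) hI
  refine ⟨Ideal.ext fun b => ?_, (hπ n).1⟩
  have := SetLike.ext_iff.1 (hπ n).2 b
  rw [Ideal.smul_top_eq_map] at this
  exact this

end Adic

end FBlowLib
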