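import Groth.Agent.FBlowLib.Units
import Groth.Agent.FBlowLib.AffSec
import Groth.Agent.AdicRingLib.Trunc
import Groth.Agent.AdicRingLib.Torsion

/-!
# Sections over affine opens of an admissible formal scheme
-/

set_option autoImplicit false

universe u

open CategoryTheory AlgebraicGeometry TopologicalSpace Opposite FSch

noncomputable section

namespace FBlowLib

variable {R : Type u} [CommRing R] {I : Ideal R} {𝔛 : Sys.{u}} (h : 𝔛.IsFormal) (p : 𝔛 ⟶ spf R I)
  {V : (𝔛.X 0).Opens}

theorem isAdicComplete_sections (hp : IsAdicHom p) (hI : I.FG) (hV : IsAffineOpen V) :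
    IsAdicComplete (I.map (pull h (toBase I p) (toBase_comm I p) V)) ((𝔛.Osh h).obj.obj (op V)) := by
  let q := toBase I p
  let ρ := pull h q (toBase_comm I p) V
  letI : Algebra R ((𝔛.Osh h).obj.obj (op V)) := ρ.toAlgebra
  letI : ∀ m, Algebra R ((𝔛.levelObj h m).obj.obj (op V)) := fun m => (pullLvl q m (𝔛.lvU h m V)).toAlgebra
  let π : ∀ m, (𝔛.Osh h).obj.obj (op V) →ₗ[R] (𝔛.levelObj h m).obj.obj (op V) := fun m =>
    { toFun := FModLib.oProj h V m
      map_add' := map_add _
      map_smul' := fun r b => by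
        rw [Algebra.smul_def, Algebra.smul_def, _root_.map_mul]
        exact congrArg (· * _) (oProj_pull h q (toBase_comm I p) m V r) }
  let f : ∀ m, (𝔛.levelObj h (m + 1)).obj.obj (op V) →ₗ[R] (𝔛.levelObj h m).obj.obj (op V) := fun m =>
    { toFun := (𝔛.levelMap h m).hom.app (op V)
      map_add' := map_add _
      map_smul' := fun r b => by
        rw [Algebra.smul_def, Algebra.smul_def, _root_.map_mul]
        exact congrArg (· * _) (levelMap_pullLvl I h p m V r) }
  have hker : ∀ m, LinearMap.ker (f m) = I ^ (m + 1) • (⊤ : Submodule R _) := fun m => by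
    rw [Ideal.smul_top_eq_map]
    ext z
    exact SetLike.ext_iff.1 (ker_levelMap h p hp hV m) z
  obtain ⟨hc, -, -⟩ := CompleteLib.limit_of_fg I (fun m => (𝔛.levelObj h m).obj.obj (op V)) f
    (fun m => FModLib.levelMap_surjective h V m hV) hker _ π
    (fun m => LinearMap.ext fun b => FModLib.oProj_succ h V m b)
    (fun b hb => FModLib.oSec_ext h V fun m => (hb m).trans (map_zero _).symm)
    (fun y hy => by
      obtain ⟨b, hb⟩ := (FModLib.toLim_bijective h V hV).2 ⟨y, hy⟩
      exact ⟨b, fun m => congrArg (fun x => x.1 m) hb⟩) hI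
  exact (IsAdicComplete.map_algebraMap_iff (R := R) (S := (𝔛.Osh h).obj.obj (op V)) I
    ((𝔛.Osh h).obj.obj (op V))).2 hc

theorem topFiniteType_sections (hp : IsAdicHom p) (hI : I.FG) (hV : IsAffineOpen V)
    (hfp : LocallyOfFinitePresentation ((p : Hom 𝔛 (spf R I)).app 0)) :
    letI := (pull h (toBase I p) (toBase_comm I p) V).toAlgebra
    AdicRing.TopFiniteType R I ((𝔛.Osh h).obj.obj (op V)) := by
  letI := (pull h (toBase I p) (toBase_comm I p) V).toAlgebra
  have : IsAdicComplete (I.map (algebraMap R ((𝔛.Osh h).obj.obj (op V)))) ((𝔛.Osh h).obj.obj (op V)) :=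
    isAdicComplete_sections h p hp hI hV
  refine AdicRingLib.topFiniteType_of_finiteType_quotient hI ?_
  obtain ⟨hk, hs⟩ := ker_oProj h p hp hI hV 0
  rw [zero_add, pow_one] at hk
  letI : Algebra R ((𝔛.levelObj h 0).obj.obj (op V)) := (pullLvl (toBase I p) 0 (𝔛.lvU h 0 V)).toAlgebra
  let π : ((𝔛.Osh h).obj.obj (op V)) →ₐ[R] ((𝔛.levelObj h 0).obj.obj (op V)) :=
    { (FModLib.oProj h V 0).hom with commutes' := fun r => oProj_pull h _ (toBase_comm I p) 0 V r }
  have hft : Algebra.FiniteType R ((𝔛.levelObj h 0).obj.obj (op V)) := by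
    have hV0 := FModLib.isAffineOpen_lvU h hV 0
    have : IsAffine ((spf R I).X 0) := inferInstanceAs (IsAffine (Spec (CommRingCat.of _)))
    have := (HasRingHomProperty.iff_appLE (P := @LocallyOfFiniteType)).1
      (inferInstance : LocallyOfFiniteType ((p : Hom 𝔛 (spf R I)).app 0))
      ⟨⊤, isAffineOpen_top _⟩ ⟨𝔛.lvU h 0 V, hV0⟩ le_top
    have hft : (pullLvl (toBase I p) 0 (𝔛.lvU h 0 V)).FiniteType := by
      rw [show pullLvl (toBase I p) 0 (𝔛.lvU h 0 V) =
          (((p : Hom 𝔛 (spf R I)).app 0).appLE ⊤ (𝔛.lvU h 0 V) le_top).hom.comp (spfEl I 0) from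
        RingHom.ext (pullLvl_toBase I p 0 _)]
      refine this.comp ?_
      exact RingHom.FiniteType.of_surjective _ ((ConcreteCategory.bijective_of_isIso
        (Scheme.ΓSpecIso (CommRingCat.of (R ⧸ I ^ (0 + 1)))).inv).2.comp Ideal.Quotient.mk_surjective)
    exact hft
  let e : (((𝔛.Osh h).obj.obj (op V)) ⧸ I.map (algebraMap R ((𝔛.Osh h).obj.obj (op V)))) ≃ₐ[R]
      ((𝔛.levelObj h 0).obj.obj (op V)) :=
    (Ideal.quotientEquivAlgOfEq R (show I.map (algebraMap R _) = RingHom.ker π.toRingHom from hk.symm)).trans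
      (Ideal.quotientKerAlgEquivOfSurjective (f := π) hs)
  exact hft.equiv e.symm

theorem noPowTorsion_sections (hp : IsAdicHom p) (hI : I.FG) (hV : IsAffineOpen V)
    (htf : ∀ (U : (𝔛.X 0).Opens) (s : (𝔛.Osh h).obj.obj (op U)),
      (∀ a ∈ (FBlow.IdealSh.ker (𝔛.OshProj h 0)).sect U, a * s = 0) → s = 0) :
    letI := (pull h (toBase I p) (toBase_comm I p) V).toAlgebra
    AdicRing.NoPowTorsion I ((𝔛.Osh h).obj.obj (op V)) := by
  letI := (pull h (toBase I p) (toBase_comm I p) V).toAlgebra
  intro x n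
  induction n generalizing x with
  | zero => exact fun hx => by simpa using hx 1 (by simp)
  | succ n ih =>
    intro hx
    refine ih x fun a ha => htf V (a • x) fun b hb => ?_
    have hb' : b ∈ I.map (algebraMap R ((𝔛.Osh h).obj.obj (op V))) := by
      have := (ker_oProj h p hp hI hV 0).1.le (RingHom.mem_ker.2 ((FBlow.IdealSh.mem_ker_iff _ _ _).1 hb))
      rwa [zero_add, pow_one] at this
    clear hb
    induction hb' using Submodule.span_induction with
    | mem y hy =>
      obtain ⟨r, hr, rfl⟩ := hy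
      rw [← Algebra.smul_def, smul_smul]
      exact hx (r * a) (by rw [pow_succ']; exact Ideal.mul_mem_mul hr ha)
    | zero => exact zero_mul _
    | add y z _ _ hy hz => rw [add_mul, hy, hz, add_zero]
    | smul c y _ hy => rw [smul_eq_mul, mul_assoc, hy, mul_zero]

end FBlowLib
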