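import Groth.Agent.FBlowLib.HomSpf
import Groth.Agent.S13342

/-!
# Morphisms into an affine open of a formal system; induced systems on opens
-/

set_option autoImplicit false
set_option linter.style.haveILetI false

universe u

open CategoryTheory CategoryTheory.Limits AlgebraicGeometry TopologicalSpace Opposite FSch

noncomputable section

namespace FBlowLib

section Comp

variable {𝔛 𝔜 ℨ : Sys.{u}} (f : 𝔛 ⟶ 𝔜) (g : 𝔜 ⟶ ℨ) (h𝔛 : 𝔛.IsFormal) (h𝔜 : 𝔜.IsFormal) (hℨ : ℨ.IsFormal)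

theorem sharp_comp (W : (ℨ.X 0).Opens) (a : (ℨ.Osh hℨ).obj.obj (op W)) :
    (Hom.sharp (f ≫ g) h𝔛 hℨ).hom.app (op W) a =
      (Hom.sharp f h𝔛 h𝔜).hom.app (op ((g : Hom 𝔜 ℨ).app 0 ⁻¹ᵁ W)) ((Hom.sharp g h𝔜 hℨ).hom.app (op W) a) := by
  refine FModLib.oSec_ext h𝔛 ((f : Hom 𝔛 𝔜).app 0 ⁻¹ᵁ ((g : Hom 𝔜 ℨ).app 0 ⁻¹ᵁ W)) fun n => ?_
  rw [oProj_sharp f h𝔛 h𝔜 n ((g : Hom 𝔜 ℨ).app 0 ⁻¹ᵁ W)]
  erw [oProj_sharp g h𝔜 hℨ n W a]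
  refine (oProj_sharp (f ≫ g) h𝔛 hℨ n W a).trans ?_
  rw [← CategoryTheory.comp_apply, Scheme.Hom.appLE_comp_appLE]
  rfl

theorem res_sharp {V W : (𝔜.X 0).Opens} (i : V ≤ W) (a : (𝔜.Osh h𝔜).obj.obj (op W)) :
    (Hom.sharp f h𝔛 h𝔜).hom.app (op V) (res (𝔜.Osh h𝔜) i a) =
      res (𝔛.Osh h𝔛) ((Opens.map ((f : Hom 𝔛 𝔜).app 0).base).monotone i) ((Hom.sharp f h𝔛 h𝔜).hom.app (op W) a) :=
  img_res ((f : Hom 𝔛 𝔜).app 0).base (Hom.sharp f h𝔛 h𝔜) i a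

theorem sharp_pull {C : Type u} [CommRing C] (q : ∀ n, 𝔜.X n ⟶ Spec (CommRingCat.of C))
    (hq : ∀ n, 𝔜.ι n ≫ q (n + 1) = q n) (q' : ∀ n, 𝔛.X n ⟶ Spec (CommRingCat.of C))
    (hq' : ∀ n, 𝔛.ι n ≫ q' (n + 1) = q' n) (hqq : ∀ n, (f : Hom 𝔛 𝔜).app n ≫ q n = q' n)
    (W : (𝔜.X 0).Opens) (c : C) :
    (Hom.sharp f h𝔛 h𝔜).hom.app (op W) (pull h𝔜 q hq W c) =
      pull h𝔛 q' hq' ((f : Hom 𝔛 𝔜).app 0 ⁻¹ᵁ W) c := by
  refine FModLib.oSec_ext h𝔛 ((f : Hom 𝔛 𝔜).app 0 ⁻¹ᵁ W) fun n => ?_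
  rw [oProj_pull, oProj_sharp f h𝔛 h𝔜 n W]
  erw [oProj_pull h𝔜 q hq n W c]
  obtain rfl : q' = fun n => (f : Hom 𝔛 𝔜).app n ≫ q n := (funext hqq).symm
  exact congr($(Scheme.Hom.appLE_comp_appLE ((f : Hom 𝔛 𝔜).app n) (q n) ⊤ _ _ _ _) _)

end Comp

theorem appLE_comp_fromSpec {Y X : Scheme.{u}} {V : X.Opens} (hV : IsAffineOpen V) (l : Y ⟶ Spec Γ(X, V))
    (e : ⊤ ≤ (l ≫ hV.fromSpec) ⁻¹ᵁ V) (a : Γ(X, V)) :
    (l ≫ hV.fromSpec).appLE V ⊤ e a = l.appLE ⊤ ⊤ le_top ((Scheme.ΓSpecIso Γ(X, V)).inv a) := by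
  rw [← Scheme.Hom.appLE_comp_appLE l hV.fromSpec V ⊤ ⊤ hV.fromSpec_preimage_self.ge le_top]
  refine congrArg (l.appLE ⊤ ⊤ le_top) ?_
  suffices hh : hV.fromSpec.appLE V ⊤ hV.fromSpec_preimage_self.ge = (Scheme.ΓSpecIso Γ(X, V)).inv from congr($hh a)
  rw [Scheme.Hom.appLE, IsAffineOpen.fromSpec_app_self, Category.assoc, ← Functor.map_comp]
  exact (congrArg (_ ≫ ·) ((congrArg (Spec Γ(X, V)).presheaf.map (Subsingleton.elim _ (𝟙 _))).trans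
    ((Spec Γ(X, V)).presheaf.map_id _))).trans (Category.comp_id _)

theorem hom_ext_affineOpen {Y X : Scheme.{u}} {V : X.Opens} (hV : IsAffineOpen V) {k k' : Y ⟶ X}
    (hk : ⊤ ≤ k ⁻¹ᵁ V) (hk' : ⊤ ≤ k' ⁻¹ᵁ V) (e : ∀ a, k.appLE V ⊤ hk a = k'.appLE V ⊤ hk' a) : k = k' := by
  have hr : ∀ {m : Y ⟶ X}, ⊤ ≤ m ⁻¹ᵁ V → Set.range m ⊆ Set.range hV.fromSpec := fun hm => by
    rw [IsAffineOpen.range_fromSpec]
    rintro _ ⟨y, rfl⟩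
    exact hm (Set.mem_univ y)
  obtain ⟨l, rfl⟩ : ∃ l, l ≫ hV.fromSpec = k := ⟨_, IsOpenImmersion.lift_fac hV.fromSpec k (hr hk)⟩
  obtain ⟨l', rfl⟩ : ∃ l', l' ≫ hV.fromSpec = k' := ⟨_, IsOpenImmersion.lift_fac hV.fromSpec k' (hr hk')⟩
  refine congrArg (· ≫ hV.fromSpec) (homSpec_ext (C := Γ(X, V)) fun a => ?_)
  exact (appLE_comp_fromSpec hV l hk a).symm.trans ((e a).trans (appLE_comp_fromSpec hV l' hk' a))

section FromAff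

variable {𝔛 : Sys.{u}} (h : 𝔛.IsFormal) {U : (𝔛.X 0).Opens} (hU : IsAffineOpen U) {𝔜 : Sys.{u}} (h𝔜 : 𝔜.IsFormal)

/-- The map on sections over `U` of a morphism landing in `U`. -/
def secMap (g : 𝔜 ⟶ 𝔛) (hg : ⊤ ≤ (g : Hom 𝔜 𝔛).app 0 ⁻¹ᵁ U) :
    (𝔛.Osh h).obj.obj (op U) →+* (𝔜.Osh h𝔜).obj.obj (op ⊤) :=
  ((𝔜.Osh h𝔜).obj.map (homOfLE hg).op).hom.comp ((Hom.sharp g h𝔜 h).hom.app (op U)).hom

variable {h h𝔜} in
theorem topLvl_secMap (g : 𝔜 ⟶ 𝔛) (hg : ⊤ ≤ (g : Hom 𝔜 𝔛).app 0 ⁻¹ᵁ U) (n : ℕ)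
    (hn : ⊤ ≤ (g : Hom 𝔜 𝔛).app n ⁻¹ᵁ 𝔛.lvU h n U) (a : (𝔛.Osh h).obj.obj (op U)) :
    topLvl h𝔜 n (secMap h h𝔜 g hg a) =
      ((g : Hom 𝔜 𝔛).app n).appLE (𝔛.lvU h n U) ⊤ hn (FModLib.oProj h U n a) := by
  refine (oProj_res h𝔜 hg n _).trans ?_
  refine (congrArg ((𝔜.X n).presheaf.map _) (oProj_sharp g h𝔜 h n U a)).trans ?_
  exact congr($(((g : Hom 𝔜 𝔛).app n).appLE_map (Hom.lvU_preimage g h𝔜 h n U).ge
    (homOfLE ((Opens.map (𝔜.gInv h𝔜 n)).monotone hg)).op) (FModLib.oProj h U n a))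

include h𝔜 in
theorem lvU_le_preimage (g : 𝔜 ⟶ 𝔛) (hg : ⊤ ≤ (g : Hom 𝔜 𝔛).app 0 ⁻¹ᵁ U) (n : ℕ) :
    ⊤ ≤ (g : Hom 𝔜 𝔛).app n ⁻¹ᵁ 𝔛.lvU h n U :=
  le_trans (le_of_eq rfl : (⊤ : (𝔜.X n).Opens) ≤ 𝔜.lvU h𝔜 n ⊤)
    (((Opens.map (𝔜.gInv h𝔜 n)).monotone hg).trans (Hom.lvU_preimage g h𝔜 h n U).ge)

variable {h h𝔜} in
include hU in
theorem hom_ext_aff {g g' : 𝔜 ⟶ 𝔛} (hg : ⊤ ≤ (g : Hom 𝔜 𝔛).app 0 ⁻¹ᵁ U) (hg' : ⊤ ≤ (g' : Hom 𝔜 𝔛).app 0 ⁻¹ᵁ U)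
    (hsurj : ∀ n, Function.Surjective (FModLib.oProj h U n))
    (e : ∀ a, secMap h h𝔜 g hg a = secMap h h𝔜 g' hg' a) : g = g' := by
  refine Hom.ext (funext fun n => ?_)
  refine hom_ext_affineOpen (FModLib.isAffineOpen_lvU h hU n) (lvU_le_preimage h h𝔜 g hg n)
    (lvU_le_preimage h h𝔜 g' hg' n) fun z => ?_
  obtain ⟨a, rfl⟩ := hsurj n z
  exact ((topLvl_secMap g hg n _ a).symm.trans (congrArg (topLvl h𝔜 n) (e a))).trans (topLvl_secMap g' hg' n _ a)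

variable (ψ : (𝔛.Osh h).obj.obj (op U) →+* (𝔜.Osh h𝔜).obj.obj (op ⊤))
  (hsurj : ∀ n, Function.Surjective (FModLib.oProj h U n))
  (hψ : ∀ n a, FModLib.oProj h U n a = 0 → topLvl h𝔜 n (ψ a) = 0)

/-- The ring map at a level. -/
def lvlHom (n : ℕ) : Γ(𝔛.X n, 𝔛.lvU h n U) →+* Γ(𝔜.X n, ⊤) :=
  (FModLib.oProj h U n).hom.liftOfSurjective (hsurj n) ⟨(topLvl h𝔜 n).comp ψ, fun a ha => hψ n a ha⟩

theorem lvlHom_apply (n : ℕ) (a : (𝔛.Osh h).obj.obj (op U)) :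
    lvlHom h h𝔜 ψ hsurj hψ n (FModLib.oProj h U n a) = topLvl h𝔜 n (ψ a) :=
  RingHom.liftOfRightInverse_comp_apply _ _ _ _ a

/-- The morphism given by a ring map on sections of an affine open. -/
def fromAff : 𝔜 ⟶ 𝔛 where
  app n := homSpec (lvlHom h h𝔜 ψ hsurj hψ n) ≫ (FModLib.isAffineOpen_lvU h hU n).fromSpec
  comm n := by
    have e1 := IsAffineOpen.SpecMap_appLE_fromSpec (𝔛.ι n) (FModLib.isAffineOpen_lvU h hU (n + 1))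
      (FModLib.isAffineOpen_lvU h hU n) (𝔛.lvU_le h n U)
    rw [Category.assoc, ← e1, ← Category.assoc, ← Category.assoc]
    refine congrArg (· ≫ _) (homSpec_ext fun z => ?_)
    obtain ⟨a, rfl⟩ := hsurj (n + 1) z
    refine (comp_specMap_top ((𝔛.ι n).appLE (𝔛.lvU h (n + 1) U) (𝔛.lvU h n U) (𝔛.lvU_le h n U)).hom _ ⊤ _).trans ?_
    refine (homSpec_top _ _).trans ?_
    refine Eq.trans ?_ (congr($(Scheme.Hom.appLE_comp_appLE (𝔜.ι n) (homSpec (lvlHom h h𝔜 ψ hsurj hψ (n + 1)))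
      ⊤ ⊤ ⊤ le_top le_top) _))
    refine Eq.trans ?_ (congrArg ((𝔜.ι n).appLE ⊤ ⊤ le_top) (homSpec_top _ _)).symm
    show lvlHom h h𝔜 ψ hsurj hψ n ((𝔛.levelMap h n).hom.app (op U) (FModLib.oProj h U (n + 1) a)) = _
    rw [FModLib.oProj_succ h U n a, lvlHom_apply, lvlHom_apply]
    exact (topLvl_succ h𝔜 n (ψ a)).symm

theorem top_le_fromAff (n : ℕ) :
    ⊤ ≤ (fromAff h hU h𝔜 ψ hsurj hψ : Hom 𝔜 𝔛).app n ⁻¹ᵁ 𝔛.lvU h n U := by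
  intro y _
  have : (fromAff h hU h𝔜 ψ hsurj hψ : Hom 𝔜 𝔛).app n y ∈ Set.range (FModLib.isAffineOpen_lvU h hU n).fromSpec :=
    ⟨_, rfl⟩
  rw [IsAffineOpen.range_fromSpec] at this
  exact this

theorem secMap_fromAff (hg : ⊤ ≤ (fromAff h hU h𝔜 ψ hsurj hψ : Hom 𝔜 𝔛).app 0 ⁻¹ᵁ U)
    (a : (𝔛.Osh h).obj.obj (op U)) : secMap h h𝔜 (fromAff h hU h𝔜 ψ hsurj hψ) hg a = ψ a := by
  refine FModLib.oSec_ext h𝔜 ⊤ fun n => ?_
  refine (topLvl_secMap _ hg n (top_le_fromAff h hU h𝔜 ψ hsurj hψ n) a).trans ?_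
  refine Eq.trans ?_ (lvlHom_apply h h𝔜 ψ hsurj hψ n a)
  exact (appLE_comp_fromSpec (FModLib.isAffineOpen_lvU h hU n) _ _ _).trans (homSpec_top _ _)

end FromAff

section Restrict

variable {𝔛 : Sys.{u}} (h : 𝔛.IsFormal) (W : (𝔛.X 0).Opens)

theorem isPullback_restrictOpen_ι (n : ℕ) :
    IsPullback ((𝔛.restrictOpen h W).ι n) (𝔛.lvU h n W).ι (𝔛.lvU h (n + 1) W).ι (𝔛.ι n) :=
  Groth.Agent.S13342.isPullback_resLE _ _ _ _ (𝔛.lvU_succ h n W).symm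

theorem isFormal_restrictOpen : (𝔛.restrictOpen h W).IsFormal := fun n => by
  have := (h n).1
  have : AlgebraicGeometry.Surjective (𝔛.ι n) := ⟨(h n).2⟩
  exact ⟨MorphismProperty.of_isPullback (isPullback_restrictOpen_ι h W n).flip (‹_› : IsClosedImmersion (𝔛.ι n)),
    (MorphismProperty.of_isPullback (isPullback_restrictOpen_ι h W n).flip
      (‹_› : AlgebraicGeometry.Surjective (𝔛.ι n))).surj⟩

theorem isAdicHom_restrictOpenι : IsAdicHom (𝔛.restrictOpenι h W) := isPullback_restrictOpen_ι h W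

theorem bijective_appLE_restrictOpenι (hW : (𝔛.restrictOpen h W).IsFormal) {V : (𝔛.X 0).Opens} (hV : V ≤ W)
    (n : ℕ) : Function.Bijective ((𝔛.lvU h n W).ι.appLE (𝔛.lvU h n V)
      ((𝔛.restrictOpen h W).lvU hW n ((𝔛.restrictOpenι h W : Hom _ _).app 0 ⁻¹ᵁ V))
      (Hom.lvU_preimage (𝔛.restrictOpenι h W) hW h n V).ge) := by
  let i := (Opens.map (𝔛.gInv h n)).monotone hV
  have : IsIso ((𝔛.lvU h n W).ι.appLE (𝔛.lvU h n V)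
      ((𝔛.restrictOpen h W).lvU hW n ((𝔛.restrictOpenι h W : Hom _ _).app 0 ⁻¹ᵁ V))
      (Hom.lvU_preimage (𝔛.restrictOpenι h W) hW h n V).ge) := by
    have hr : 𝔛.lvU h n V ≤ (𝔛.lvU h n W).ι.opensRange := by rwa [Scheme.Opens.opensRange_ι]
    rw [Scheme.Hom.appLE]
    have := Scheme.Hom.isIso_app (𝔛.lvU h n W).ι (𝔛.lvU h n V) hr
    have e' := Hom.lvU_preimage (𝔛.restrictOpenι h W) hW h n V
    have h2 : IsIso ((𝔛.lvU h n W : Scheme.{u}).presheaf.map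
        (homOfLE (Hom.lvU_preimage (𝔛.restrictOpenι h W) hW h n V).ge).op) := by
      have : IsIso (homOfLE (Hom.lvU_preimage (𝔛.restrictOpenι h W) hW h n V).ge).op :=
        (Iso.op (eqToIso e'.symm)).isIso_hom
      exact @Functor.map_isIso _ _ _ _ _ _ (𝔛.lvU h n W : Scheme.{u}).presheaf _ this
    exact IsIso.comp_isIso' this h2
  exact ConcreteCategory.bijective_of_isIso _

theorem injective_sharp_restrictOpenι (hW : (𝔛.restrictOpen h W).IsFormal) {V : (𝔛.X 0).Opens} (hV : V ≤ W)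
    {t : (𝔛.Osh h).obj.obj (op V)}
    (ht : (Hom.sharp (𝔛.restrictOpenι h W) hW h).hom.app (op V) t = 0) : t = 0 := by
  refine FModLib.oSec_ext h V fun n => ?_
  rw [map_zero]
  have e := ((congrArg (FModLib.oProj hW _ n) ht).symm.trans (oProj_sharp (𝔛.restrictOpenι h W) hW h n V t))
  exact (bijective_appLE_restrictOpenι h W hW hV n).1 (e.symm.trans ((map_zero (FModLib.oProj hW _ n).hom).trans (map_zero _).symm))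

theorem surjective_sharp_restrictOpenι (hW : (𝔛.restrictOpen h W).IsFormal) {V : (𝔛.X 0).Opens} (hV : V ≤ W)
    (hVaff : IsAffineOpen V) :
    Function.Surjective ((Hom.sharp (𝔛.restrictOpenι h W) hW h).hom.app (op V)) := by
  intro t
  choose y hy using fun n => (bijective_appLE_restrictOpenι h W hW hV n).2
    (FModLib.oProj hW ((𝔛.restrictOpenι h W : Hom _ _).app 0 ⁻¹ᵁ V) n t)
  have hc : ∀ n, (𝔛.levelMap h n).hom.app (op V) (y (n + 1)) = y n := fun n => by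
    refine (bijective_appLE_restrictOpenι h W hW hV n).1 ?_
    refine Eq.trans ?_ (hy n).symm
    refine Eq.trans ?_ (FModLib.oProj_succ hW ((𝔛.restrictOpenι h W : Hom _ _).app 0 ⁻¹ᵁ V) n t)
    rw [← hy (n + 1)]
    have e := congrArg (fun a => a.hom.app (op V)) (Hom.levelMap_levelPush (𝔛.restrictOpenι h W) hW h n)
    exact congr($e (y (n + 1)))
  obtain ⟨s, hs⟩ := (FModLib.toLim_bijective h V hVaff).2 ⟨y, hc⟩
  refine ⟨s, FModLib.oSec_ext hW ((𝔛.restrictOpenι h W : Hom _ _).app 0 ⁻¹ᵁ V) fun n => ?_⟩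
  rw [oProj_sharp (𝔛.restrictOpenι h W) hW h n V s]
  have e : FModLib.oProj h V n s = y n := congrArg (fun x => x.1 n) hs
  erw [e]
  exact hy n

end Restrict

end FBlowLib
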