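import Groth.Agent.FBlowLib.Nzd

/-!
# Sections annihilated by several elements
-/

set_option autoImplicit false

universe u

open CategoryTheory CategoryTheory.Limits AlgebraicGeometry TopologicalSpace Opposite FSch FBlow

noncomputable section

namespace FBlowLib

variable {𝔛 : Sys.{u}} (h : 𝔛.IsFormal) {C : Type u} [CommRing C] (q : ∀ n, 𝔛.X n ⟶ Spec (CommRingCat.of C))
  (hq : ∀ n, 𝔛.ι n ≫ q (n + 1) = q n) {J : Ideal C} (hS : IsSpfLike q J) {k : ℕ} {c : Fin k → C}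
  (hN : ∀ n : ℕ, ∃ m, n ≤ m ∧ ∀ y : C, (∀ i, y * c i ∈ J ^ (m + 1)) → y ∈ J ^ (n + 1))

include hS hN in
theorem pull_annih_basic (s : C) (t : (𝔛.Osh h).obj.obj (op (q 0 ⁻¹ᵁ (Spec (CommRingCat.of C)).basicOpen
      ((Scheme.ΓSpecIso (CommRingCat.of C)).inv s))))
    (ht : ∀ i, t * pull h q hq _ (c i) = 0) : t = 0 := by
  generalize hD : q 0 ⁻¹ᵁ (Spec (CommRingCat.of C)).basicOpen ((Scheme.ΓSpecIso (CommRingCat.of C)).inv s) = D at t ht
  have hl : ∀ n, 𝔛.lvU h n D = (𝔛.X n).basicOpen (pullLvl q n ⊤ s) := fun n =>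
    hD ▸ lvU_preimage_basicOpen h q hq s n
  refine FModLib.oSec_ext h D fun n => ?_
  rw [map_zero]
  show lvP h D n t = 0
  obtain ⟨m, hnm, hm⟩ := hN n
  have := hS.aff m
  have := hS.aff n
  have hu : IsUnit (pullLvl q n (𝔛.lvU h n D) s) := by
    have e := pullLvl_map q n (le_top : 𝔛.lvU h n D ≤ ⊤) s
    rw [← e]
    refine RingedSpace.isUnit_of_isUnit_germ (𝔛.X n).toLocallyRingedSpace.toRingedSpace _ _ fun y hy => ?_
    refine ((𝔛.X n).mem_basicOpen _ y hy).1 ?_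
    rw [Scheme.basicOpen_res]
    exact ⟨hy, (hl n).le hy⟩
  have inst := (isAffineOpen_top (𝔛.X m)).isLocalization_of_eq_basicOpen (pullLvl q m ⊤ s)
    (homOfLE (le_top : 𝔛.lvU h m D ≤ ⊤)) (hl m)
  letI := ((𝔛.X m).presheaf.map (homOfLE (le_top : 𝔛.lvU h m D ≤ ⊤)).op).hom.toAlgebra
  let tm : Γ(𝔛.X m, 𝔛.lvU h m D) := lvP h D m t
  obtain ⟨⟨y', ⟨_, k, rfl⟩⟩, hy⟩ := IsLocalization.surj (Submonoid.powers (pullLvl q m ⊤ s)) tm
  obtain ⟨y, rfl⟩ := hS.surj m y'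
  have halg : ∀ a : C, algebraMap Γ(𝔛.X m, ⊤) Γ(𝔛.X m, 𝔛.lvU h m D) (pullLvl q m ⊤ a) =
      pullLvl q m (𝔛.lvU h m D) a := fun a => pullLvl_map q m le_top a
  replace hy : lvP h D m t * pullLvl q m (𝔛.lvU h m D) s ^ k = pullLvl q m (𝔛.lvU h m D) y := by
    refine Eq.trans ?_ (halg y)
    rw [← halg, ← map_pow]
    exact hy
  have h0 : ∀ i, algebraMap Γ(𝔛.X m, ⊤) Γ(𝔛.X m, 𝔛.lvU h m D) (pullLvl q m ⊤ (y * c i)) = 0 := fun i => by
    rw [halg, map_mul, ← hy, mul_right_comm, ← lvP_pull h q hq m D (c i), ← map_mul, ht i, map_zero, zero_mul]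
  have hj0 : ∀ i, ∃ j : ℕ, s ^ j * (y * c i) ∈ J ^ (m + 1) := fun i => by
    obtain ⟨⟨_, j, rfl⟩, hj⟩ :=
      (IsLocalization.map_eq_zero_iff (Submonoid.powers (pullLvl q m ⊤ s)) _ _).1 (h0 i)
    change pullLvl q m ⊤ s ^ j * pullLvl q m ⊤ (y * c i) = 0 at hj
    rw [← map_pow, ← map_mul, ← RingHom.mem_ker, hS.ker m] at hj
    exact ⟨j, hj⟩
  choose j₀ hj₀ using hj0
  let j := Finset.univ.sup j₀
  have hmem : s ^ j * y ∈ J ^ (n + 1) := hm _ fun i => by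
    obtain ⟨d, hd⟩ := Nat.exists_eq_add_of_le (Finset.le_sup (f := j₀) (Finset.mem_univ i))
    rw [show s ^ j = s ^ d * s ^ j₀ i by rw [show j = j₀ i + d from hd, pow_add, mul_comm], mul_assoc, mul_assoc]
    exact Ideal.mul_mem_left _ _ (hj₀ i)
  have hlow : lvP h D n (t * pull h q hq D s ^ (k + j) - pull h q hq D (s ^ j * y)) = 0 := by
    refine oProj_eq_zero_of_le h hnm ?_
    show lvP h D m _ = 0
    rw [map_sub, map_mul, map_pow, lvP_pull, lvP_pull, map_mul, map_pow, pow_add, ← mul_assoc, hy,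
      mul_comm, sub_self]
  have hzero : pullLvl q n (𝔛.lvU h n D) (s ^ j * y) = 0 := by
    have : pullLvl q n ⊤ (s ^ j * y) = 0 := by rw [← RingHom.mem_ker, hS.ker n]; exact hmem
    rw [← pullLvl_map q n (le_top : 𝔛.lvU h n D ≤ ⊤), this, map_zero]
  rw [map_sub, map_mul, map_pow, lvP_pull, lvP_pull, hzero, sub_zero] at hlow
  exact (hu.pow _).mul_left_eq_zero.1 hlow

include hS hN in
theorem pull_annih (V : (𝔛.X 0).Opens) (t : (𝔛.Osh h).obj.obj (op V))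
    (ht : ∀ i, t * pull h q hq V (c i) = 0) : t = 0 := by
  have := hS.aff 0
  have key : ∀ y ∈ V, ∃ s : C, y ∈ q 0 ⁻¹ᵁ (Spec (CommRingCat.of C)).basicOpen ((Scheme.ΓSpecIso (CommRingCat.of C)).inv s) ∧
      q 0 ⁻¹ᵁ (Spec (CommRingCat.of C)).basicOpen ((Scheme.ΓSpecIso (CommRingCat.of C)).inv s) ≤ V := by
    intro y hy
    obtain ⟨f, hfV, hyf⟩ := (isAffineOpen_top (𝔛.X 0)).exists_basicOpen_le (⟨y, hy⟩ : V) trivial
    obtain ⟨s, rfl⟩ := hS.surj 0 f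
    have e := (lvU_zero h _).symm.trans (lvU_preimage_basicOpen h q hq s 0)
    exact ⟨s, e.ge hyf, e.le.trans hfV⟩
  choose s hys hsV using key
  refine TopCat.Sheaf.eq_of_locally_eq' (𝔛.Osh h) (fun y : V => q 0 ⁻¹ᵁ (Spec (CommRingCat.of C)).basicOpen
      ((Scheme.ΓSpecIso (CommRingCat.of C)).inv (s y.1 y.2))) V
    (fun y => homOfLE (hsV y.1 y.2)) (fun y hy => Opens.mem_iSup.mpr ⟨⟨y, hy⟩, hys y hy⟩) t 0 fun y => ?_
  rw [map_zero]
  refine pull_annih_basic h q hq hS hN (s y.1 y.2) _ ?_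
  intro i
  have := congrArg ((𝔛.Osh h).obj.map (homOfLE (hsV y.1 y.2)).op) (ht i)
  rw [map_mul, map_zero] at this
  exact (congrArg (_ * ·) (res_pull h q hq (hsV y.1 y.2) (c i)).symm).trans this



end FBlowLib
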