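import Groth.Agent.AdicRingLib.Trunc
import Groth.Agent.AdicRingLib.Torsion
import Groth.Agent.AdicRingLib.RigClosedCompletion
import Groth.Agent.AdicRingLib.RigFinite
import Groth.Agent.BlowUpLib.Chart

/-!
# Algebras of finite type over an admissible algebra without torsion; chart algebras
-/

set_option autoImplicit false
set_option linter.style.haveILetI false

universe u

noncomputable section

namespace FBlowLib

theorem finiteType_affineAlgebra {A : Type u} [CommRing A] {𝔞 : Ideal A} (h : 𝔞.FG) (a : A) :
    Algebra.FiniteType A (BlowUp.affineAlgebra A 𝔞 a) := by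
  classical
  obtain ⟨s, hs⟩ := h
  refine (Subalgebra.fg_iff_finiteType _).1 ⟨s.image fun x => BlowUpLib.frac a x 1, ?_⟩
  have hfrac : ∀ x : A, BlowUpLib.frac a x 1 =
      IsLocalization.mk' (Localization.Away a) x ⟨a, Submonoid.mem_powers a⟩ := fun x =>
    congrArg (IsLocalization.mk' (Localization.Away a) x) (Subtype.ext (pow_one a))
  refine le_antisymm (Algebra.adjoin_le ?_) (Algebra.adjoin_le ?_)
  · rintro z hz
    obtain ⟨x, hx, rfl⟩ := Finset.mem_image.1 (Finset.mem_coe.1 hz)
    exact Algebra.subset_adjoin ⟨x, hs.le (Submodule.subset_span hx), hfrac x⟩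
  · rintro _ ⟨x, hx, rfl⟩
    rw [← hs] at hx
    rw [SetLike.mem_coe, IsLocalization.mk'_eq_mul_mk'_one]
    induction hx using Submodule.span_induction with
    | mem y hy =>
      rw [← IsLocalization.mk'_eq_mul_mk'_one, ← hfrac]
      exact Algebra.subset_adjoin (Finset.mem_coe.2 (Finset.mem_image.2 ⟨y, hy, rfl⟩))
    | zero => rw [map_zero, zero_mul]; exact Subalgebra.zero_mem _
    | add y z _ _ hy hz => rw [map_add, add_mul]; exact Subalgebra.add_mem _ hy hz
    | smul c y _ hy => rw [smul_eq_mul, map_mul, mul_assoc]; exact Subalgebra.mul_mem _ (Subalgebra.algebraMap_mem _ c) hy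

variable {R : Type u} [CommRing R] {I : Ideal R} {A : Type u} [CommRing A] [Algebra R A]

theorem noPowTorsion_affineAlgebra (hI : I.FG) (hT : AdicRing.NoPowTorsion I A) (𝔞 : Ideal A) (a : A) :
    AdicRing.NoPowTorsion I (BlowUp.affineAlgebra A 𝔞 a) := fun x n hx => by
  have : Module.Flat A (Localization.Away a) := IsLocalization.flat _ (Submonoid.powers a)
  refine Subtype.ext (AdicRingLib.noPowTorsion_of_flat (A := A) (M := Localization.Away a) hI hT x.1 n fun r hr => ?_)
  exact congrArg Subtype.val (hx r hr)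

theorem chart_props (hR : AdicRing.IsBase R I) (hA : AdicRing.TopFiniteType R I A) (C : Type u) [CommRing C]
    [Algebra R C] [Algebra A C] [IsScalarTower R A C] [Algebra.FiniteType A C] (hC : AdicRing.NoPowTorsion I C) :
    AdicRingLib.HasAR (I.map (algebraMap R C)) ∧ (∀ x : C, (∀ r ∈ I, x * algebraMap R C r = 0) → x = 0) ∧
      ∀ n : ℕ, ((Ideal.Quotient.mk ((I.map (algebraMap R C)) ^ (n + 1))).comp (algebraMap R C)).FinitePresentation := by
  have hI := AdicRingLib.fg_of_isBase hR
  have hAR := AdicRingLib.hasAR_finiteType hR hA C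
  refine ⟨hAR, fun x hx => hC x 1 fun r hr => ?_, fun n => ?_⟩
  · rw [pow_one] at hr
    rw [Algebra.smul_def, mul_comm]
    exact hx r hr
  let K := I.map (algebraMap R C)
  have hK : K.FG := hI.map _
  let T := AdicCompletion K C
  have hKT : I.map (algebraMap R T) = K.map (algebraMap C T) := by
    rw [Ideal.map_map, ← IsScalarTower.algebraMap_eq]
  have : IsAdicComplete (I.map (algebraMap R T)) T := hKT ▸ AdicRingLib.isAdicComplete_map hK
  have hflat : Module.Flat C T := hAR.flat_adicCompletion
  have hTN : AdicRing.NoPowTorsion I T := AdicRingLib.noPowTorsion_of_flat (A := C) hI hC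
  have hft : Algebra.FiniteType R (T ⧸ I.map (algebraMap R T)) := by
    rw [← RingHom.finiteType_algebraMap]
    let π : C →+* T ⧸ I.map (algebraMap R T) := (Ideal.Quotient.mk _).comp (algebraMap C T)
    have hπ : Function.Surjective π := fun y => by
      obtain ⟨x, rfl⟩ := Ideal.Quotient.mk_surjective y
      obtain ⟨c, hc⟩ := AdicRingLib.exists_sub_mem_map_pow hK 1 x
      rw [pow_one, ← hKT] at hc
      exact ⟨c, (Ideal.Quotient.eq.2 hc).symm⟩
    let g : A →+* T ⧸ I.map (algebraMap R T) := π.comp (algebraMap A C)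
    have hg : g.FiniteType := RingHom.FiniteType.comp_surjective (RingHom.finiteType_algebraMap.2 ‹_›) hπ
    have hgI : ∀ a ∈ (I ^ 1).map (algebraMap R A), g a = 0 := fun a ha => by
      rw [pow_one] at ha
      refine Ideal.Quotient.eq_zero_iff_mem.2 ?_
      rw [hKT]
      refine Ideal.mem_map_of_mem _ ?_
      rw [show K = (I.map (algebraMap R A)).map (algebraMap A C) by
        rw [Ideal.map_map, ← IsScalarTower.algebraMap_eq]]
      exact Ideal.mem_map_of_mem _ ha
    let g' := Ideal.Quotient.lift _ g hgI
    have hg' : g'.FiniteType := RingHom.FiniteType.of_comp_finiteType (f := Ideal.Quotient.mk _) (by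
      rw [show g'.comp (Ideal.Quotient.mk _) = g from Ideal.Quotient.lift_comp_mk _ _ _]
      exact hg)
    have := hg'.comp (RingHom.finiteType_algebraMap.2 (AdicRingLib.finiteType_trunc hI hA 1))
    rw [show algebraMap R (T ⧸ I.map (algebraMap R T)) =
      g'.comp (algebraMap R (A ⧸ (I ^ 1).map (algebraMap R A))) from RingHom.ext fun r => ?_]
    · exact this
    · show Ideal.Quotient.mk _ (algebraMap R T r) = Ideal.Quotient.mk _ (algebraMap C T (algebraMap A C (algebraMap R A r)))
      rw [← IsScalarTower.algebraMap_apply R A C, ← IsScalarTower.algebraMap_apply R C T]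
  have hfp := AdicRingLib.topFinitePresentation_of_noPowTorsion hR
    (AdicRingLib.topFiniteType_of_finiteType_quotient hI hft) hTN
  have h := RingHom.finitePresentation_algebraMap.2 (AdicRingLib.finitePresentation_trunc hI hfp (n + 1))
  have hle : K ^ (n + 1) ≤ ((I ^ (n + 1)).map (algebraMap R T)).comap (algebraMap C T) := by
    rw [← Ideal.map_le_iff_le_comap, Ideal.map_pow, Ideal.map_pow, hKT]
  let φ := Ideal.quotientMap _ (algebraMap C T) hle
  have hKn : (I ^ (n + 1)).map (algebraMap R T) = (K ^ (n + 1)).map (algebraMap C T) := by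
    rw [Ideal.map_pow, Ideal.map_pow, hKT]
  have hφ : Function.Bijective φ := by
    constructor
    · refine (injective_iff_map_eq_zero φ).2 fun z hz => ?_
      obtain ⟨c, rfl⟩ := Ideal.Quotient.mk_surjective z
      rw [Ideal.quotientMap_mk, Ideal.Quotient.eq_zero_iff_mem, hKn,
        AdicRingLib.algebraMap_mem_map_pow_iff hK] at hz
      exact Ideal.Quotient.eq_zero_iff_mem.2 hz
    · intro z
      obtain ⟨x, rfl⟩ := Ideal.Quotient.mk_surjective z
      obtain ⟨c, hc⟩ := AdicRingLib.exists_sub_mem_map_pow hK (n + 1) x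
      rw [← hKn] at hc
      exact ⟨Ideal.Quotient.mk _ c, (Ideal.quotientMap_mk ..).trans (Ideal.Quotient.eq.2 hc).symm⟩
  let e := RingEquiv.ofBijective φ hφ
  have he : (Ideal.Quotient.mk (K ^ (n + 1))).comp (algebraMap R C) =
      e.symm.toRingHom.comp (algebraMap R (T ⧸ (I ^ (n + 1)).map (algebraMap R T))) := RingHom.ext fun r => by
    refine e.injective (Eq.trans ?_ (e.apply_symm_apply _).symm)
    show φ (Ideal.Quotient.mk _ (algebraMap R C r)) = Ideal.Quotient.mk _ (algebraMap R T r)
    rw [Ideal.quotientMap_mk, ← IsScalarTower.algebraMap_apply R C T]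
  rw [he]
  exact (RingHom.FinitePresentation.of_bijective e.symm.bijective).comp h

end FBlowLib
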