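import Groth.Agent.FBlowLib.BlowLocal
import Mathlib.AlgebraicGeometry.IdealSheaf.Basic

/-!
# Sections of ideal sheaves of quasi-coherent data over affine opens; finitely generated good opens
-/

set_option autoImplicit false

universe u

open CategoryTheory AlgebraicGeometry TopologicalSpace Opposite FSch FBlow

noncomputable section

namespace FBlowLib

theorem mem_ofData_affine {X : Scheme.{u}} (𝓘 : X.IdealSheafData) (U : X.affineOpens) {s : Γ(X, U.1)}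
    (hs : s ∈ (IdealSh.ofData 𝓘).sect U.1) : s ∈ 𝓘.ideal U := by
  have key : ∀ x : U.1, ∃ f : Γ(X, U.1), x.1 ∈ X.basicOpen f ∧
      X.presheaf.map (homOfLE (X.basicOpen_le f)).op s ∈ 𝓘.ideal (X.affineBasicOpen f) := fun x => by
    obtain ⟨V, i, hxV, hV⟩ := hs x.1 x.2
    obtain ⟨f, hf, hxf⟩ := U.2.exists_basicOpen_le (V := V.1) ⟨x.1, hxV⟩ x.2
    refine ⟨f, hxf, ?_⟩
    rw [← sch_map_comp_apply i hf]
    exact res_mem_ofData 𝓘 (W := X.affineBasicOpen f) hf hV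
  choose f hxf hf using key
  have hspan : Ideal.span (Set.range f) = ⊤ := by
    refine U.2.self_le_iSup_basicOpen_iff.mp fun x hx => ?_
    exact Opens.mem_iSup.mpr ⟨⟨f ⟨x, hx⟩, Set.mem_range_self _⟩, hxf ⟨x, hx⟩⟩
  refine Submodule.mem_of_span_eq_top_of_smul_pow_mem (𝓘.ideal U) _ hspan s ?_
  rintro ⟨_, x, rfl⟩
  have e := hf x
  rw [← 𝓘.map_ideal_basicOpen U (f x)] at e
  have := U.2.isLocalization_basicOpen (f x)
  obtain ⟨_, ⟨n, rfl⟩, hn⟩ := (IsLocalization.algebraMap_mem_map_algebraMap_iff (Submonoid.powers (f x))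
    Γ(X, X.basicOpen (f x)) _ s).1 e
  exact ⟨n, hn⟩

theorem mem_ofData_affine_iff {X : Scheme.{u}} (𝓘 : X.IdealSheafData) (U : X.affineOpens) {s : Γ(X, U.1)} :
    s ∈ (IdealSh.ofData 𝓘).sect U.1 ↔ s ∈ 𝓘.ideal U :=
  ⟨mem_ofData_affine 𝓘 U, fun hs x hx => ⟨U, le_rfl, hx, by
    rwa [show X.presheaf.map (homOfLE (le_refl U.1)).op s = s from IdealSh.map_id_apply (O := X.sheaf) le_rfl s]⟩⟩

variable {R : Type u} [CommRing R] {I : Ideal R} {𝔛 : Sys.{u}} {h : 𝔛.IsFormal} {p : 𝔛 ⟶ spf R I}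
  {J : IdealSh (𝔛.Osh h)}

/-- Good opens with finitely generated ideal of sections are a basis. -/
theorem exists_fgGoodOpen (hp : IsAdicHom p) (hI : I.FG) (hJ : IsCohOpen 𝔛 h J) (x : 𝔛.X 0)
    {U : (𝔛.X 0).Opens} (hx : x ∈ U) :
    ∃ V, IsGoodOpen I h p J V ∧ (J.sect V).FG ∧ x ∈ V ∧ V ≤ U := by
  obtain ⟨U', hxU', N, 𝒜, h𝒜, heq⟩ := hJ x
  obtain ⟨V, hV, hxV, hVle⟩ := exists_isGoodOpen (h := h) (J := J) hp hI hJ x (U := U ⊓ U') ⟨hx, hxU'⟩
  refine ⟨V, hV, ?_, hxV, hVle.trans inf_le_left⟩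
  let Vn : (𝔛.X N).affineOpens := ⟨_, FModLib.isAffineOpen_lvU h hV.aff N⟩
  let π : (𝔛.Osh h).obj.obj (op V) →+* Γ(𝔛.X N, Vn.1) := (FModLib.oProj h V N).hom
  obtain ⟨hk, hs⟩ := ker_oProj h p hp hI hV.aff N
  have e : J.sect V = (𝒜.ideal Vn).comap π := by
    rw [heq V (hVle.trans inf_le_right)]
    ext a
    rw [mem_ofLevel_iff]
    exact mem_ofData_affine_iff 𝒜 Vn
  refine Ideal.fg_of_fg_map_of_fg_inf_ker_of_surjective (f := π) ?_ ?_ hs
  · rw [e]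
    exact (congrArg Submodule.FG (Ideal.map_comap_of_surjective π hs (𝒜.ideal Vn))).mpr (h𝒜 Vn)
  · rw [inf_eq_right.2 (by rw [e]; exact Ideal.ker_le_comap π), show RingHom.ker π = _ from hk]
    exact (Ideal.FG.pow hI).map _

end FBlowLib
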