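import Groth.Agent.FBlowLib.PullSys
import Groth.Agent.FBlowLib.DataAffine
import Groth.Agent.FBlowLib.AdmSec
import Groth.Agent.FBlowLib.Annih
import Groth.Agent.FBlowLib.ChartAdm

/-!
# Admissible blowing-ups of admissible formal schemes are admissible
-/

set_option autoImplicit false
set_option linter.style.haveILetI false

universe u

open CategoryTheory CategoryTheory.Limits AlgebraicGeometry TopologicalSpace Opposite FSch FBlow

noncomputable section

namespace FBlowLib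

variable {R : Type u} [CommRing R] {I : Ideal R} {𝔛 : Sys.{u}} (h : 𝔛.IsFormal) (p : 𝔛 ⟶ spf R I)

theorem secFam_base (U : (𝔛.X 0).Opens) (n : ℕ) :
    secFam h U n ≫ Spec.map (CommRingCat.ofHom (pull h (toBase I p) (toBase_comm I p) U)) =
      resFam h (toBase I p) U n := by
  have hℨ := isFormal_restrictOpen h U
  rw [famOfHom_specMap, ← famOfHom_pull hℨ (resFam h (toBase I p) U) (resFam_comm h _ (toBase_comm I p) U) n]
  refine congrArg (fun ψ => famOfHom hℨ ψ n) (RingHom.ext fun r => ?_)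
  show secHom h U (pull h (toBase I p) (toBase_comm I p) U r) = _
  refine (congrArg _ (pull_resFam (h := h) (g := toBase I p) (hg := toBase_comm I p) U U r)).trans ?_
  exact res_pull hℨ _ _ _ r

variable {J : IdealSh (𝔛.Osh h)} {𝔛' : Sys.{u}} {h' : 𝔛'.IsFormal} {b : 𝔛' ⟶ 𝔛}

theorem exists_admChart_nhd (hR : AdicRing.IsBase R I) (hp : IsAdicHom p)
    (hfp : LocallyOfFinitePresentation ((p : Hom 𝔛 (spf R I)).app 0))
    (htf : ∀ (U : (𝔛.X 0).Opens) (s : (𝔛.Osh h).obj.obj (op U)),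
      (∀ a ∈ (IdealSh.ker (𝔛.OshProj h 0)).sect U, a * s = 0) → s = 0)
    (hJ : IsCohOpen 𝔛 h J) (hb : IsAdmBlowUp b h' h J) (x : 𝔛'.X 0) :
    ∃ (V : (𝔛'.X 0).Opens), x ∈ V ∧ ∃ (C : Type u) (_ : CommRing C) (ρ : R →+* C)
      (l : ∀ n, (𝔛'.restrictOpen h' V).X n ⟶ Spec (CommRingCat.of C))
      (_ : ∀ n, (𝔛'.restrictOpen h' V).ι n ≫ l (n + 1) = l n),
      IsSpfLike l (I.map ρ) ∧ AdicRingLib.HasAR (I.map ρ) ∧ (∀ x, (∀ r ∈ I, x * ρ r = 0) → x = 0) ∧
      (∀ n : ℕ, ((Ideal.Quotient.mk ((I.map ρ) ^ (n + 1))).comp ρ).FinitePresentation) ∧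
      ∀ n, l n ≫ Spec.map (CommRingCat.ofHom ρ) = resFam h' (toBase I (b ≫ p)) V n := by
  have hI := AdicRingLib.fg_of_isBase hR
  obtain ⟨U, hU, hfg, hxU, -⟩ := exists_fgGoodOpen (h := h) (J := J) hp hI hJ ((b : Hom _ _).app 0 x) (U := ⊤) trivial
  let ρA := pull h (toBase I p) (toBase_comm I p) U
  letI : Algebra R ((𝔛.Osh h).obj.obj (op U)) := ρA.toAlgebra
  have hA := topFiniteType_sections h p hp hI hU.aff hfp
  have hT := noPowTorsion_sections h p hp hI hU.aff htf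
  obtain ⟨N, hN⟩ := hU.pow
  obtain ⟨P, q, hq⟩ : ∃ (P : Scheme.{u}) (q : P ⟶ Spec (CommRingCat.of ((𝔛.Osh h).obj.obj (op U)))),
      BlowUp.IsBlowUp q (BlowUpLib.specIdeal (J.sect U)) := ⟨_, _, BlowUpLib.isBlowUp_proj _⟩
  let g := secFam h U
  have hgci := fun n => (isClosedImmersion_secFam (p := p) h hp hI hU.aff n).1
  have hgker := fun n => (isClosedImmersion_secFam (p := p) h hp hI hU.aff n).2
  have hbU := isAdmBlowUp_pullSys q g (secFam_comm h U) hq (N + 1)
    (show (I.map ρA) ^ (N + 1) ≤ J.sect U by rw [← Ideal.map_pow, Ideal.map_le_iff_le_comap]; exact hN)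
    hgci hgker (isFormal_restrictOpen h U)
  rw [← idealMap_goodOpen hU] at hbU
  have hover : IsBlowUpOver h J b h' ⊤ :=
    ⟨hb.1, hb.2.1, fun _ => trivial, fun ℨ hℨ v hv hi _ => hb.2.2 ℨ hℨ v hv hi⟩
  obtain ⟨s, hs, hsn⟩ := hover.exists_trans le_top (isBlowUpOver_comp hbU)
  let B := pullSys q g (secFam_comm h U)
  have hB : B.IsFormal := isFormal_pullSys q g (secFam_comm h U) (isFormal_restrictOpen h U)
  have hs0 : IsOpenImmersion ((s : Hom B 𝔛').app 0) := (hsn 0).1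
  obtain ⟨y, hy⟩ : x ∈ Set.range ((s : Hom B 𝔛').app 0) := (hsn 0).2 ▸ (lvU_zero h U).ge hxU
  let i : ∀ n, B.X n ⟶ P := fun n => pullback.fst q (g n)
  have hi : ∀ n, B.ι n ≫ i (n + 1) = i n := pullSys_fst_comm q g (secFam_comm h U)
  obtain ⟨a, ha, c, hci, hyc, hc⟩ := BlowUpLib.exists_chart_spec (J.sect U) hq (i 0 y)
  have : Algebra.FiniteType ((𝔛.Osh h).obj.obj (op U)) (BlowUp.affineAlgebra _ (J.sect U) a) :=
    finiteType_affineAlgebra hfg a
  obtain ⟨hAR, hann, hfpC⟩ := chart_props hR hA (BlowUp.affineAlgebra _ (J.sect U) a)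
    (noPowTorsion_affineAlgebra hI hT (J.sect U) a)
  let C : Type u := BlowUp.affineAlgebra ((𝔛.Osh h).obj.obj (op U)) (J.sect U) a
  let ρ : R →+* C := algebraMap R C
  have hρ : ρ = (algebraMap ((𝔛.Osh h).obj.obj (op U)) C).comp ρA := IsScalarTower.algebraMap_eq R _ C
  let V₀ := chartTrace c i
  have hV₀ := isFormal_restrictOpen hB V₀
  have hici : ∀ n, IsClosedImmersion (i n) := fun n => by
    have := hgci n
    exact inferInstanceAs (IsClosedImmersion (pullback.fst q (g n)))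
  have hS : IsSpfLike (chartLvl c hB i hi) (I.map ρ) := by
    refine isSpfLike_of_ker _ _ (fun n => (haveI := hici n; isClosedImmersion_chartLvl c hB i hi n)) fun n => ?_
    have := hici n
    have := hgci n
    rw [ker_chartLvl]
    show (Scheme.Hom.ker (pullback.fst q (g n))).comap c = _
    rw [Scheme.IdealSheafData.ker_fst_of_isClosedImmersion, ← Scheme.IdealSheafData.comap_comp, hc,
      hgker, BlowUpLib.comap_specIdeal, Ideal.map_pow, Ideal.map_map, hρ]
  let V : (𝔛'.X 0).Opens := (s : Hom B 𝔛').app 0 ''ᵁ V₀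
  have hV : V ≤ (b : Hom _ _).app 0 ⁻¹ᵁ U := by
    rintro _ ⟨w, -, rfl⟩
    have : (b : Hom _ _).app 0 ((s : Hom B 𝔛').app 0 w) ∈ (𝔛.lvU h 0 U : Set (𝔛.X 0)) :=
      (hsn 0).2.le (Set.mem_range_self w)
    exact (lvU_zero h U).le this
  have hpre : (s : Hom B 𝔛').app 0 ⁻¹ᵁ V = V₀ := ((s : Hom B 𝔛').app 0).preimage_image_eq V₀
  let c' : B.restrictOpen hB V₀ ⟶ 𝔛' := B.restrictOpenι hB V₀ ≫ s
  have hc'op : ∀ n, IsOpenImmersion ((c' : Hom _ _).app n) := fun n => by
    have := (hsn n).1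
    exact inferInstanceAs (IsOpenImmersion ((B.lvU hB n V₀).ι ≫ (s : Hom B 𝔛').app n))
  have hc'range : ∀ n, Set.range ((c' : Hom _ _).app n) = (𝔛'.lvU h' n V : Set (𝔛'.X n)) := fun n => by
    have e : (s : Hom B 𝔛').app n ⁻¹ᵁ 𝔛'.lvU h' n V = B.lvU hB n V₀ :=
      (Hom.lvU_preimage s hB h' n V).trans (congrArg _ hpre)
    refine Set.Subset.antisymm ?_ fun z hz => ?_
    · rintro _ ⟨w, rfl⟩
      exact e.ge (w.2 : ((B.lvU hB n V₀).ι w) ∈ B.lvU hB n V₀)
    · obtain ⟨w, rfl⟩ : z ∈ Set.range ((s : Hom B 𝔛').app n) :=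
        (hsn n).2.ge ((Hom.lvU_preimage b h' h n U).ge (lvU_mono 𝔛' h' n hV hz))
      obtain ⟨w', hw'⟩ := (Scheme.Opens.range_ι (B.lvU hB n V₀)).ge (e.le hz)
      exact ⟨w', congrArg _ hw'⟩
  obtain ⟨r, v, hr, -, hrv, hvr⟩ := exists_iso_restrictOpen h' c' hV₀ hc'op hc'range
  have hriso : ∀ n, IsIso ((r : Hom _ _).app n) := fun n => app_isIso_of_inverse r v hrv hvr n
  refine ⟨V, ⟨y, hyc, hy⟩, C, inferInstance, ρ, fun n => (r : Hom _ _).app n ≫ chartLvl c hB i hi n,
    famComp_comm r _ (chartLvl_comm c hB i hi), isSpfLike_of_ker _ _ (fun n => ?_) (fun n => ?_), hAR, hann, hfpC,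
    fun n => ?_⟩
  · have := hriso n
    have := hici n
    have := isClosedImmersion_chartLvl c hB i hi n
    exact inferInstanceAs (IsClosedImmersion ((r : Hom _ _).app n ≫ chartLvl c hB i hi n))
  · have := hriso n
    have := hici n
    have := hgci n
    rw [Scheme.Hom.ker_comp_of_isIso, ker_chartLvl]
    show (Scheme.Hom.ker (pullback.fst q (g n))).comap c = _
    rw [Scheme.IdealSheafData.ker_fst_of_isClosedImmersion,
      ← Scheme.IdealSheafData.comap_comp, hc, hgker, BlowUpLib.comap_specIdeal, Ideal.map_pow, Ideal.map_map, hρ]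
  · have e1 : chartLvl c hB i hi n ≫ Spec.map (CommRingCat.ofHom ρ) =
        (c' : Hom _ _).app n ≫ toBase I (b ≫ p) n := by
      rw [hρ, CommRingCat.ofHom_comp, Spec.map_comp, ← hc]
      refine (Category.assoc _ _ _).symm.trans ?_
      rw [← Category.assoc, chartLvl_fac]
      refine (Category.assoc _ _ _).trans ?_
      refine Eq.trans ?_ (Category.assoc _ _ _).symm
      rw [Category.assoc]
      refine congrArg ((B.lvU hB n V₀).ι ≫ ·) ?_
      refine (congrArg (i n ≫ ·) rfl).trans ?_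
      refine ((Category.assoc _ _ _).symm.trans (congrArg (· ≫ _) pullback.condition)).trans ?_
      refine ((Category.assoc _ _ _).trans (congrArg (_ ≫ ·) (secFam_base h p U n))).trans ?_
      refine ((Category.assoc _ _ _).symm.trans (congrArg (· ≫ toBase I p n)
        (congrArg (fun f : B ⟶ 𝔛 => (f : Hom B 𝔛).app n) hs).symm)).trans ?_
      exact (Category.assoc _ _ _).trans (congrArg (_ ≫ ·) (Category.assoc _ _ _).symm)
    rw [Category.assoc, e1, ← Category.assoc]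
    exact congrArg (· ≫ toBase I (b ≫ p) n)
      (congrArg (fun f : 𝔛'.restrictOpen h' V ⟶ 𝔛' => (f : Hom _ _).app n) hr)

theorem isAdmissible_blowUp (hR : AdicRing.IsBase R I) (hp : IsAdicHom p)
    (hfp : LocallyOfFinitePresentation ((p : Hom 𝔛 (spf R I)).app 0))
    (htf : ∀ (U : (𝔛.X 0).Opens) (s : (𝔛.Osh h).obj.obj (op U)),
      (∀ a ∈ (IdealSh.ker (𝔛.OshProj h 0)).sect U, a * s = 0) → s = 0)
    (hJ : IsCohOpen 𝔛 h J) (hb : IsAdmBlowUp b h' h J) :
    (∀ (U : (𝔛'.X 0).Opens) (s : (𝔛'.Osh h').obj.obj (op U)),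
        (∀ a ∈ (IdealSh.ker (𝔛'.OshProj h' 0)).sect U, a * s = 0) → s = 0) ∧
      ∀ n, LocallyOfFinitePresentation ((b ≫ p : Hom 𝔛' (spf R I)).app n) := by
  have hI := AdicRingLib.fg_of_isBase hR
  choose V hxV C hC ρ l hl hS hAR hann hfpC hbase using exists_admChart_nhd h p hR hp hfp htf hJ hb
  refine ⟨fun U₀ t ht => ?_, fun n => ?_⟩
  · obtain ⟨k, c, hc⟩ := Submodule.fg_iff_exists_fin_generating_family.1 hI
    refine TopCat.Sheaf.eq_of_locally_eq' (𝔛'.Osh h') (fun x : U₀ => U₀ ⊓ V x.1) U₀ (fun _ => homOfLE inf_le_left)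
      (fun x hx => Opens.mem_iSup.mpr ⟨⟨x, hx⟩, hx, hxV x⟩) t 0 fun x => ?_
    rw [map_zero]
    let Z := U₀ ⊓ V x.1
    letI := hC x.1
    have hW := isFormal_restrictOpen h' (V x.1)
    let σ : (𝔛'.Osh h').obj.obj (op Z) →+* ((𝔛'.restrictOpen h' (V x.1)).Osh hW).obj.obj
        (op ((𝔛'.restrictOpenι h' (V x.1) : Hom _ _).app 0 ⁻¹ᵁ Z)) :=
      ((Hom.sharp (𝔛'.restrictOpenι h' (V x.1)) hW h').hom.app (op Z)).hom
    refine injective_sharp_restrictOpenι h' (V x.1) hW inf_le_right ?_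
    show σ (res _ inf_le_left t) = 0
    refine pull_annih hW (l x.1) (hl x.1) (hS x.1) (c := fun j => ρ x.1 (c j)) (fun m => ?_) _ _ fun j => ?_
    · let u : C x.1 →ₗ[C x.1] (Fin k → C x.1) := LinearMap.pi fun j => LinearMap.mulRight (C x.1) (ρ x.1 (c j))
      have hu : Function.Injective u := by
        refine (injective_iff_map_eq_zero u).2 fun y hy => hann x.1 y fun r hr => ?_
        rw [← hc] at hr
        induction hr using Submodule.span_induction with
        | mem r hr => obtain ⟨j, rfl⟩ := hr; exact congrFun hy j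
        | zero => rw [map_zero, mul_zero]
        | add a b _ _ ha hb => rw [map_add, mul_add, ha, hb, add_zero]
        | smul a b _ hb => rw [smul_eq_mul, map_mul, mul_left_comm, hb, mul_zero]
      obtain ⟨N₀, hN₀, -, n₀, hAR'⟩ := hAR x.1 (Fin k → C x.1) (LinearMap.range u)
      refine ⟨m + n₀, Nat.le_add_right _ _, fun y hy => ?_⟩
      have h1 : u y ∈ (I.map (ρ x.1)) ^ (m + 1 + n₀) • (⊤ : Submodule (C x.1) (Fin k → C x.1)) := by
        rw [pi_eq_sum_univ (u y)]
        refine Submodule.sum_mem _ fun j _ => Submodule.smul_mem_smul ?_ trivial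
        rw [show m + 1 + n₀ = m + n₀ + 1 by omega]
        exact hy j
      obtain ⟨y', hy', e⟩ : ∃ y' ∈ (I.map (ρ x.1)) ^ (m + 1), u y' = u y := by
        have h2 := Submodule.smul_mono (le_refl ((I.map (ρ x.1)) ^ (m + 1))) hN₀
          (hAR' (m + 1) ⟨h1, LinearMap.mem_range_self u y⟩)
        rw [← Submodule.map_top, ← Submodule.map_smul''] at h2
        obtain ⟨y', hy', e⟩ := h2
        exact ⟨y', by simpa using hy', e⟩
      exact hu e ▸ hy'
    · have e1 : σ (pull h' (toBase I (b ≫ p)) (toBase_comm I (b ≫ p)) Z (c j)) =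
          pull hW (l x.1) (hl x.1) ((𝔛'.restrictOpenι h' (V x.1) : Hom _ _).app 0 ⁻¹ᵁ Z) (ρ x.1 (c j)) :=
        (pull_resFam (h := h') (g := toBase I (b ≫ p)) (hg := toBase_comm I (b ≫ p)) (V x.1) Z (c j)).trans
          (pullLvl_comp_specMap hW (ρ x.1) (l x.1) (hl x.1) _ _ (hbase x.1) _ (c j)).symm
      rw [← e1, ← map_mul, ← res_pull h' _ _ (inf_le_left : Z ≤ U₀), res, res, ← map_mul, mul_comm,
        ht _ ?_, map_zero, map_zero]
      refine (IdealSh.mem_ker_iff _ _ _).2 ((oProj_pull h' _ (toBase_comm I (b ≫ p)) 0 U₀ (c j)).trans ?_)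
      rw [pullLvl_toBase]
      have h0 : spfEl I 0 (c j) = 0 := by
        show (Scheme.ΓSpecIso (CommRingCat.of (R ⧸ I ^ (0 + 1)))).inv (Ideal.Quotient.mk _ (c j)) = 0
        rw [Ideal.Quotient.eq_zero_iff_mem.2 (by rw [zero_add, pow_one, ← hc]; exact Submodule.subset_span (Set.mem_range_self j)),
          map_zero]
      rw [h0, map_zero]
      rfl
  · refine (IsZariskiLocalAtSource.iff_of_openCover (P := @LocallyOfFinitePresentation)
      (Scheme.Cover.mkOfCovers (𝔛'.X 0) (fun x => (𝔛'.lvU h' n (V x) : Scheme.{u})) (fun x => (𝔛'.lvU h' n (V x)).ι)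
        (fun z => exists_cover_lvU h' n z V hxV) (fun _ => inferInstance) : (𝔛'.X n).OpenCover)).2 fun (x : 𝔛'.X 0) => ?_
    show LocallyOfFinitePresentation ((𝔛'.lvU h' n (V x)).ι ≫ (b ≫ p : Hom 𝔛' (spf R I)).app n)
    letI := hC x
    have : IsAffine ((spf R I).X n) := inferInstanceAs (IsAffine (Spec (CommRingCat.of _)))
    have : IsAffine (𝔛'.lvU h' n (V x) : Scheme.{u}) := (hS x).aff n
    refine (HasRingHomProperty.iff_of_isAffine (P := @LocallyOfFinitePresentation)).2 ?_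
    let W := (𝔛'.restrictOpen h' (V x)).X n
    let f : W ⟶ (spf R I).X n := (𝔛'.lvU h' n (V x)).ι ≫ (b ≫ p : Hom 𝔛' (spf R I)).app n
    let K := (I.map (ρ x)) ^ (n + 1)
    let φ : C x ⧸ K →+* Γ(W, ⊤) := Ideal.Quotient.lift K (pullLvl (l x) n ⊤) fun a ha =>
      RingHom.mem_ker.1 (((hS x).ker n).ge ha)
    have hφ : Function.Bijective φ := by
      refine ⟨(injective_iff_map_eq_zero φ).2 fun z hz => ?_, fun w => ?_⟩
      · obtain ⟨a, rfl⟩ := Ideal.Quotient.mk_surjective z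
        exact Ideal.Quotient.eq_zero_iff_mem.2 (((hS x).ker n).le hz)
      · obtain ⟨a, ha⟩ := (hS x).surj n w
        exact ⟨Ideal.Quotient.mk K a, ha⟩
    have e : (f.appTop).hom.comp (spfEl I n) = φ.comp ((Ideal.Quotient.mk K).comp (ρ x)) := RingHom.ext fun r => by
      refine Eq.trans ?_ (pullLvl_map (l x) n (le_refl ⊤) (ρ x r) |>.trans rfl)
      refine Eq.trans ?_ (IdealSh.map_id_apply (O := W.sheaf) le_rfl _).symm
      refine Eq.trans ?_ (comp_specMap_top (ρ x) (l x n) ⊤ r)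
      rw [hbase x n]
      have h1 := (pullLvl_toBase I (𝔛'.restrictOpenι h' (V x) ≫ b ≫ p) n ⊤ r).symm
      refine Eq.trans ?_ (h1.trans ?_)
      · show f.appTop (spfEl I n r) = f.appLE ⊤ ⊤ le_top (spfEl I n r)
        simp [Scheme.Hom.appLE]
      · show ((((𝔛'.lvU h' n (V x)).ι ≫ (b ≫ p : Hom 𝔛' (spf R I)).app n) ≫ spfToSpec R I n).appLE ⊤ ⊤ le_top) _ = _
        rw [Category.assoc]
        rfl
    refine RingHom.FinitePresentation.of_comp_finiteType (spfEl I n) ?_ (RingHom.FiniteType.of_surjective _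
      ((ConcreteCategory.bijective_of_isIso (Scheme.ΓSpecIso (CommRingCat.of (R ⧸ I ^ (n + 1)))).inv).2.comp
        Ideal.Quotient.mk_surjective))
    show ((f.appTop).hom.comp (spfEl I n)).FinitePresentation
    rw [e]
    exact (RingHom.FinitePresentation.of_bijective hφ).comp (hfpC x n)

end FBlowLib
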