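import Groth.Agent.FBlowLib.BlowGlue

/-!
# The glued system is an admissible blowing-up
-/

set_option autoImplicit false
set_option linter.style.haveILetI false

universe u

open CategoryTheory CategoryTheory.Limits AlgebraicGeometry TopologicalSpace Opposite FSch FBlow

noncomputable section

namespace FBlowLib

theorem exists_lift_of_range {A B C : Scheme.{u}} (f : A ⟶ C) (k : B ⟶ C) (hf : IsOpenImmersion f)
    (hr : Set.range k ⊆ Set.range f) : ∃ v : B ⟶ A, v ≫ f = k :=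
  ⟨_, IsOpenImmersion.lift_fac f k hr⟩

namespace BasisBlowUps

variable {𝔛 : Sys.{u}} {h : 𝔛.IsFormal} {J : IdealSh (𝔛.Osh h)} (D : BasisBlowUps h J)

include D in
theorem isFormal_glSys : D.glSys.IsFormal := fun n => by
  have := (h n).1
  have : AlgebraicGeometry.Surjective (𝔛.ι n) := ⟨(h n).2⟩
  have hp : IsPullback (D.glSys.ι n) ((D.glB : Hom _ _).app n) ((D.glB : Hom _ _).app (n + 1)) (𝔛.ι n) :=
    D.isAdicHom_glB n
  exact ⟨MorphismProperty.of_isPullback hp.flip (‹_› : IsClosedImmersion (𝔛.ι n)),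
    (MorphismProperty.of_isPullback hp.flip (‹_› : AlgebraicGeometry.Surjective (𝔛.ι n))).surj⟩

theorem isOpenImmersion_piece (i : D.Idx) (n : ℕ) : IsOpenImmersion (D.piece i n) :=
  MorphismProperty.of_isPullback (D.isPullback_piece i n) (inferInstanceAs (IsOpenImmersion (𝔛.lvU h n i.1).ι))

theorem glC_cancel {ℨ : Sys.{u}} {i : D.Idx} {k k' : ℨ ⟶ D.Y i} (e : k ≫ D.glC i = k' ≫ D.glC i) : k = k' :=
  Hom.ext (funext fun n =>
    haveI := D.isOpenImmersion_piece i n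
    (cancel_mono (D.piece i n)).1 (congrArg (fun f : ℨ ⟶ D.glSys => (f : Hom _ _).app n) e))

theorem exists_lift_glC {ℨ : Sys.{u}} (hℨ : ℨ.IsFormal) (i : D.Idx) (k : ℨ ⟶ D.glSys)
    (hk : ∀ z, (D.glB : Hom _ _).app 0 ((k : Hom _ _).app 0 z) ∈ i.1) :
    ∃ k' : ℨ ⟶ D.Y i, k' ≫ D.glC i = k := by
  have hr : ∀ n, Set.range ((k : Hom _ _).app n) ⊆ Set.range (D.piece i n) := fun n => by
    rintro _ ⟨z, rfl⟩
    refine ((D.data n).preimage_toBase_eq_range_ι i).subset ?_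
    show (D.data n).toBase _ ∈ Set.range (𝔛.lvU h n i.1).ι
    rw [Scheme.Opens.range_ι]
    exact (Hom.lvU_preimage (k ≫ D.glB) hℨ h n i.1).ge
      (hk _ : (D.glB : Hom _ _).app 0 ((k : Hom _ _).app 0 ((ℨ.gInv hℨ n) z)) ∈ i.1)
  choose v hv using show ∀ n, ∃ v : ℨ.X n ⟶ (D.Y i).X n, v ≫ D.piece i n = (k : Hom _ _).app n from fun n =>
    exists_lift_of_range _ _ (D.isOpenImmersion_piece i n) (hr n)
  refine ⟨⟨v, fun n => ?_⟩, Hom.ext (funext hv)⟩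
  have := D.isOpenImmersion_piece i (n + 1)
  refine (cancel_mono (D.piece i (n + 1))).1 ?_
  rw [Category.assoc, ← piece_ι, Category.assoc, hv]
  exact ((Category.assoc _ _ _).symm.trans (congrArg (· ≫ D.glSys.ι n) (hv n))).trans ((k : Hom _ _).comm n)

theorem glB_hom_ext {ℨ : Sys.{u}} (hℨ : ℨ.IsFormal) {k k' : ℨ ⟶ D.glSys} {g : ℨ ⟶ 𝔛} (hg : IsAdicHom g)
    (hinv : (idealMap g hℨ h J).IsInvertible) (e : k ≫ D.glB = g) (e' : k' ≫ D.glB = g) : k = k' := by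
  refine hom_ext_sys hℨ fun y => ?_
  obtain ⟨V, hV, hyV, -⟩ := D.basis ((g : Hom _ _).app 0 y) ⊤ trivial
  let W := (g : Hom _ _).app 0 ⁻¹ᵁ V
  have hW := isFormal_restrictOpen hℨ W
  refine ⟨W, hyV, ?_⟩
  obtain ⟨l, hl⟩ := D.exists_lift_glC hW ⟨V, hV⟩ (ℨ.restrictOpenι hℨ W ≫ k) fun z => by
    show (k ≫ D.glB : Hom _ _).app 0 _ ∈ _
    rw [e]
    exact restrictOpenι_mem hℨ W z
  obtain ⟨l', hl'⟩ := D.exists_lift_glC hW ⟨V, hV⟩ (ℨ.restrictOpenι hℨ W ≫ k') fun z => by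
    show (k' ≫ D.glB : Hom _ _).app 0 _ ∈ _
    rw [e']
    exact restrictOpenι_mem hℨ W z
  rw [← hl, ← hl']
  have hll : l = l' := by
    refine (D.over' ⟨V, hV⟩).hom_ext hW (isAdicHom_comp (isAdicHom_restrictOpenι hℨ W) hg) ?_ ?_ ?_
    · rw [← idealMap_idealMap (ℨ.restrictOpenι hℨ W) g hW hℨ h J]
      exact isInvertible_idealMap_restrictOpenι hℨ W hW hinv
    · rw [← D.glC_glB, ← Category.assoc, hl, Category.assoc, e]
    · rw [← D.glC_glB, ← Category.assoc, hl', Category.assoc, e']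
  rw [hll]

theorem exists_lift_glB {ℨ : Sys.{u}} (hℨ : ℨ.IsFormal) (g : ℨ ⟶ 𝔛) (hg : IsAdicHom g)
    (hinv : (idealMap g hℨ h J).IsInvertible) : ∃ k : ℨ ⟶ D.glSys, k ≫ D.glB = g := by
  choose V hQ hyV _hle using fun y : ℨ.X 0 => D.basis ((g : Hom _ _).app 0 y) ⊤ trivial
  let W : ℨ.X 0 → (ℨ.X 0).Opens := fun y => (g : Hom _ _).app 0 ⁻¹ᵁ V y
  have hinvW : ∀ U, (idealMap (ℨ.restrictOpenι hℨ U ≫ g) (isFormal_restrictOpen hℨ U) h J).IsInvertible := fun U => by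
    rw [← idealMap_idealMap (ℨ.restrictOpenι hℨ U) g (isFormal_restrictOpen hℨ U) hℨ h J]
    exact isInvertible_idealMap_restrictOpenι hℨ U _ hinv
  choose k hk _hu using fun y => (D.over' ⟨V y, hQ y⟩).lift _ (isFormal_restrictOpen hℨ (W y))
    (ℨ.restrictOpenι hℨ (W y) ≫ g) (isAdicHom_comp (isAdicHom_restrictOpenι hℨ _) hg) (hinvW _)
    (fun z => restrictOpenι_mem hℨ (W y) z)
  obtain ⟨K, hK⟩ := exists_glue_sys hℨ W hyV (fun y => k y ≫ D.glC ⟨V y, hQ y⟩) fun y y' v v' hv hv' => by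
    refine D.glB_hom_ext (isFormal_restrictOpen hℨ (W y ⊓ W y')) (g := ℨ.restrictOpenι hℨ (W y ⊓ W y') ≫ g)
      (isAdicHom_comp (isAdicHom_restrictOpenι hℨ _) hg) (hinvW _) ?_ ?_
    · rw [Category.assoc, Category.assoc, glC_glB, hk, ← Category.assoc, hv]
    · rw [Category.assoc, Category.assoc, glC_glB, hk, ← Category.assoc, hv']
  refine ⟨K, hom_ext_sys hℨ fun y => ⟨W y, hyV y, ?_⟩⟩
  rw [← Category.assoc, hK, Category.assoc, glC_glB, hk]

variable {R : Type u} [CommRing R] {I : Ideal R} (p : 𝔛 ⟶ spf R I)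

theorem isInvertible_glB (hp : IsAdicHom p) (hI : I.FG) (hJ : IsCohOpen 𝔛 h J) :
    (idealMap D.glB D.isFormal_glSys h J).IsInvertible := by
  have hG := D.isFormal_glSys
  refine (isInvertible_iff _).2 fun x => ?_
  obtain ⟨V, hV, hxV, -⟩ := D.basis ((D.glB : Hom _ _).app 0 x) ⊤ trivial
  let W := (D.glB : Hom _ _).app 0 ⁻¹ᵁ V
  have hW := isFormal_restrictOpen hG W
  obtain ⟨r, hr⟩ := D.exists_lift_glC hW ⟨V, hV⟩ (D.glSys.restrictOpenι hG W) fun z => restrictOpenι_mem hG W z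
  obtain ⟨v, hv⟩ := exists_lift_restrictOpen hG (D.hY ⟨V, hV⟩) (D.glC ⟨V, hV⟩) W fun y => by
    show (D.glC ⟨V, hV⟩ ≫ D.glB : Hom _ _).app 0 y ∈ V
    rw [glC_glB]
    exact (D.over' ⟨V, hV⟩).mem y
  have h1 : r ≫ v = 𝟙 _ := restrictOpenι_cancel hG (by rw [Category.assoc, hv, hr, Category.id_comp])
  have h2 : v ≫ r = 𝟙 _ := D.glC_cancel (by rw [Category.assoc, hr, hv, Category.id_comp])
  have hinvW : (idealMap (D.glSys.restrictOpenι hG W) hW hG (idealMap D.glB hG h J)).IsInvertible := by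
    rw [← hr, ← idealMap_idealMap r (D.glC ⟨V, hV⟩) hW (D.hY _) hG (idealMap D.glB hG h J),
      idealMap_idealMap (D.glC ⟨V, hV⟩) D.glB (D.hY _) hG h J, glC_glB]
    exact isInvertible_of_inverse (D.hY _) hW r v h1 h2 (D.over' ⟨V, hV⟩).inv
  obtain ⟨U₂, S, N, hU₂, hxU₂, hU₂W, hspan, hS, -⟩ := exists_genSet h hG p D.glB hp hI hJ W x hxV
  obtain ⟨x', hx'⟩ := (Scheme.Opens.range_ι (D.glSys.lvU hG 0 W)).ge ((lvU_zero hG W).ge hxV)
  obtain ⟨_, ⟨a, ha, rfl⟩, W₁, i₁, hxW₁, hW₁⟩ := exists_gen_mem (isLocalSh_Osh hW) hinvW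
    (img ((D.glSys.restrictOpenι hG W : Hom _ _).app 0).base (Hom.sharp (D.glSys.restrictOpenι hG W) hW hG) U₂ '' S)
    (map_spanSh_le S _ _ hspan) (by
      rintro _ ⟨b, hb, rfl⟩
      exact img_mem_map _ _ _ (hS b hb)) (x := x')
    (show (D.glSys.restrictOpenι hG W : Hom _ _).app 0 x' ∈ U₂ from hx' ▸ hxU₂)
  let ι₀ := (D.glSys.restrictOpenι hG W : Hom (D.glSys.restrictOpen hG W) D.glSys).app 0
  have : IsOpenImmersion ι₀ := inferInstanceAs (IsOpenImmersion (D.glSys.lvU hG 0 W).ι)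
  obtain ⟨Z, hZ, hxZ, hZle⟩ := Opens.isBasis_iff_nbhd.mp (D.glSys.X 0).isBasis_affineOpens
    (show x ∈ U₂ ⊓ ι₀ ''ᵁ W₁ from ⟨hxU₂, ⟨x', hxW₁, hx'⟩⟩)
  have hZW : Z ≤ W := (hZle.trans inf_le_left).trans hU₂W
  have hpre : ι₀ ⁻¹ᵁ Z ≤ W₁ := fun w hw => by
    obtain ⟨u, hu, huw⟩ := (hZle hw).2
    exact ι₀.isOpenEmbedding.injective huw ▸ hu
  have hgenZ := hW₁.mono hpre
  let σ : ∀ Z' : (D.glSys.X 0).Opens, (D.glSys.Osh hG).obj.obj (op Z') →+*
      ((D.glSys.restrictOpen hG W).Osh hW).obj.obj (op (ι₀ ⁻¹ᵁ Z')) :=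
    fun Z' => ((Hom.sharp (D.glSys.restrictOpenι hG W) hW hG).hom.app (op Z')).hom
  have hσ : ∀ (Z' : (D.glSys.X 0).Opens) (k : Z' ≤ U₂) (j : ι₀ ⁻¹ᵁ Z' ≤ W₁),
      res _ j (res _ i₁ (img ι₀.base (Hom.sharp (D.glSys.restrictOpenι hG W) hW hG) U₂ a)) = σ Z' (res _ k a) := fun Z' k j => by
    refine (IdealSh.map_comp_apply (O := (D.glSys.restrictOpen hG W).Osh hW) _ _ _).trans ?_
    exact (res_sharp (D.glSys.restrictOpenι hG W) hW hG k a).symm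
  refine ⟨Z, hxZ, res _ (hZle.trans inf_le_left) a, isGen_of_le _ ((idealMap D.glB hG h J).map_mem _ (hS a ha))
    (fun V' i t ht => ?_) (ideal_le_trans hspan fun V' s hs y hy hyZ => ?_)⟩
  · refine injective_sharp_restrictOpenι hG W hW (i.trans hZW) ?_
    show σ V' t = 0
    have e := congrArg (σ V') ht
    rw [map_mul, map_zero, res, res, IdealSh.map_comp_apply] at e
    refine (hW₁.2 (ι₀ ⁻¹ᵁ V') (((Opens.map ι₀.base).monotone i).trans hpre)).1 _ ?_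
    rw [hσ V' (i.trans (hZle.trans inf_le_left))]
    exact e
  · obtain ⟨W', k, j, hyW', hspan'⟩ := hs y hy ((hZle.trans inf_le_left) hyZ)
    obtain ⟨Z', hZ', hyZ', hZ'le⟩ := Opens.isBasis_iff_nbhd.mp (D.glSys.X 0).isBasis_affineOpens
      (show y ∈ W' ⊓ Z from ⟨hyW', hyZ⟩)
    have kU : Z' ≤ U₂ := hZ'le.trans (inf_le_right.trans (hZle.trans inf_le_left))
    refine ⟨Z', (hZ'le.trans inf_le_left).trans k, hZ'le.trans inf_le_right, hyZ', ?_⟩
    rw [res, res, IdealSh.map_comp_apply]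
    suffices Ideal.span (res (D.glSys.Osh hG) kU '' S) ≤ Ideal.span {res (D.glSys.Osh hG) kU a} by
      have e := res_mem_span S (hZ'le.trans inf_le_left) j kU hspan'
      rw [res, res, IdealSh.map_comp_apply] at e
      exact (Ideal.mem_span_singleton'.1 (this e)).imp fun _ ht => ht.symm
    rw [Ideal.span_le]
    rintro _ ⟨b, hb, rfl⟩
    have hpre' : ι₀ ⁻¹ᵁ Z' ≤ W₁ := ((Opens.map ι₀.base).monotone (hZ'le.trans inf_le_right)).trans hpre
    obtain ⟨t, ht⟩ := (hW₁.2 (ι₀ ⁻¹ᵁ Z') hpre').2 (σ Z' (res _ kU b))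
      (img_mem_map _ _ _ ((idealMap D.glB hG h J).map_mem kU (hS b hb)))
    obtain ⟨t₀, rfl⟩ := surjective_sharp_restrictOpenι hG W hW (hZ'le.trans (inf_le_right.trans hZW)) hZ' t
    refine Ideal.mem_span_singleton'.2 ⟨t₀, sub_eq_zero.1 ?_⟩
    refine injective_sharp_restrictOpenι hG W hW (hZ'le.trans (inf_le_right.trans hZW)) ?_
    show σ Z' _ = 0
    rw [map_sub, map_mul, ← hσ Z' kU hpre', sub_eq_zero]
    exact ht.symm

theorem isAdmBlowUp_glB (hp : IsAdicHom p) (hI : I.FG) (hJ : IsCohOpen 𝔛 h J) :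
    IsAdmBlowUp D.glB D.isFormal_glSys h J :=
  ⟨D.isAdicHom_glB, D.isInvertible_glB p hp hI hJ, fun ℨ hℨ g hg hinv => by
    obtain ⟨k, hk⟩ := D.exists_lift_glB hℨ g hg hinv
    exact ⟨k, hk, fun k' hk' => D.glB_hom_ext hℨ hg hinv hk' hk⟩⟩

end BasisBlowUps

end FBlowLib
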