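import Groth.Agent.FBlowLib.ChartBlow
import Groth.Agent.BlowUpLib.Props

/-!
# Compatible families of morphisms from a formal system to a scheme-theoretic blowing-up
-/

set_option autoImplicit false
set_option linter.style.haveILetI false

universe u

open CategoryTheory CategoryTheory.Limits AlgebraicGeometry TopologicalSpace Opposite FSch FBlow

noncomputable section

namespace FBlowLib

variable {A : Type u} [CommRing A] {𝔞 : Ideal A} {P : Scheme.{u}} {q : P ⟶ Spec (CommRingCat.of A)}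
  (hb : BlowUp.IsBlowUp q (BlowUpLib.specIdeal 𝔞))

include hb in
theorem exists_toBlowUp {B : Type u} [CommRing B] (φ : A →+* B) {a : A} (ha : φ a ∈ nonZeroDivisors B)
    (hI : 𝔞.map φ = Ideal.span {φ a}) :
    ∃! k : Spec (CommRingCat.of B) ⟶ P, k ≫ q = Spec.map (CommRingCat.ofHom φ) :=
  hb.2 _ _ (by rw [BlowUpLib.comap_specIdeal, hI]; exact BlowUpLib.isEffCartier_specIdeal ha)

variable {𝔜 : Sys.{u}} (h : 𝔜.IsFormal)

theorem pullLvl_comp_specMap {C : Type u} [CommRing C] (φ : A →+* C)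
    (l : ∀ n, 𝔜.X n ⟶ Spec (CommRingCat.of C)) (hl : ∀ n, 𝔜.ι n ≫ l (n + 1) = l n)
    (g : ∀ n, 𝔜.X n ⟶ Spec (CommRingCat.of A)) (hg : ∀ n, 𝔜.ι n ≫ g (n + 1) = g n)
    (e : ∀ n, l n ≫ Spec.map (CommRingCat.ofHom φ) = g n) (W : (𝔜.X 0).Opens) (a : A) :
    pull h l hl W (φ a) = pull h g hg W a :=
  FModLib.oSec_ext h W fun n => by
    refine (oProj_pull h l hl n W (φ a)).trans ?_
    refine Eq.trans ?_ (oProj_pull h g hg n W a).symm
    obtain rfl : g = fun n => l n ≫ Spec.map (CommRingCat.ofHom φ) := funext fun n => (e n).symm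
    exact (comp_specMap_top φ (l n) (𝔜.lvU h n W) a).symm

/-- The compatible family of morphisms to a spectrum given by a ring map to sections. -/
def famOfHom {C : Type u} [CommRing C] (ψ : C →+* (𝔜.Osh h).obj.obj (op ⊤)) (n : ℕ) :
    𝔜.X n ⟶ Spec (CommRingCat.of C) :=
  homSpec ((topLvl h n).comp ψ)

theorem famOfHom_comm {C : Type u} [CommRing C] (ψ : C →+* (𝔜.Osh h).obj.obj (op ⊤)) (n : ℕ) :
    𝔜.ι n ≫ famOfHom h ψ (n + 1) = famOfHom h ψ n := by
  refine homSpec_ext fun c => ?_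
  refine (congr($((Scheme.Hom.appLE_comp_appLE (𝔜.ι n) (famOfHom h ψ (n + 1)) ⊤ ⊤ ⊤ le_top le_top).symm) _)).trans ?_
  refine (congrArg ((𝔜.ι n).appLE ⊤ ⊤ le_top) (homSpec_top _ c)).trans ?_
  exact (topLvl_succ h n (ψ c)).trans (homSpec_top ((topLvl h n).comp ψ) c).symm

theorem famOfHom_specMap {C D : Type u} [CommRing C] [CommRing D] (σ : C →+* D)
    (ψ : D →+* (𝔜.Osh h).obj.obj (op ⊤)) (n : ℕ) :
    famOfHom h ψ n ≫ Spec.map (CommRingCat.ofHom σ) = famOfHom h (ψ.comp σ) n :=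
  homSpec_ext fun c => (comp_specMap_top σ _ ⊤ c).trans ((homSpec_top _ (σ c)).trans (homSpec_top ((topLvl h n).comp (ψ.comp σ)) c).symm)

theorem famOfHom_pull {C : Type u} [CommRing C] (l : ∀ n, 𝔜.X n ⟶ Spec (CommRingCat.of C))
    (hl : ∀ n, 𝔜.ι n ≫ l (n + 1) = l n) (n : ℕ) : famOfHom h (pull h l hl ⊤) n = l n :=
  homSpec_ext fun c => (homSpec_top _ c).trans (topLvl_pull h l hl n c)

variable (g : ∀ n, 𝔜.X n ⟶ Spec (CommRingCat.of A)) (hg : ∀ n, 𝔜.ι n ≫ g (n + 1) = g n)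

theorem famOfHom_over {C : Type u} [CommRing C] (φ : A →+* C) (ψ : C →+* (𝔜.Osh h).obj.obj (op ⊤))
    (hψ : ∀ a, ψ (φ a) = pull h g hg ⊤ a) (n : ℕ) :
    famOfHom h ψ n ≫ Spec.map (CommRingCat.ofHom φ) = g n := by
  rw [famOfHom_specMap, show ψ.comp φ = pull h g hg ⊤ from RingHom.ext hψ, famOfHom_pull]

theorem isGen_of_dvd {T : TopCat.{u}} {O : Sheaf (Opens.grothendieckTopology T) CommRingCat.{u}}
    {J : IdealSh O} {W : Opens T} {e c : O.obj.obj (op W)} (he : IsGen J W e) (hc : c ∈ J.sect W)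
    {d : O.obj.obj (op W)} (hd : e = d * c) : IsGen J W c := by
  obtain ⟨t, ht⟩ := (he.2 W le_rfl).2 c hc
  rw [res, IdealSh.map_id_apply] at ht
  refine ⟨hc, fun V i => ⟨fun s hs => (he.2 V i).1 s ?_, fun s hs => ?_⟩⟩
  · rw [res, hd, map_mul, mul_left_comm]
    exact (congrArg (_ * ·) hs).trans (mul_zero _)
  · obtain ⟨u, hu⟩ := (he.2 V i).2 s hs
    exact ⟨u * res O i d, by rw [hu, hd, res, map_mul, mul_assoc]⟩

variable {h g hg}

theorem isGen_fam_of_dvd {ι : Type*} (f : ι → A) (hinv : (famSh h g hg f).IsInvertible) {W : (𝔜.X 0).Opens}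
    (i : ι) (hdvd : ∀ j, ∃ s, pull h g hg W (f j) = s * pull h g hg W (f i)) :
    IsGen (famSh h g hg f) W (pull h g hg W (f i)) := by
  have hc : pull h g hg W (f i) ∈ (famSh h g hg f).sect W :=
    pull_mem_schIdealMap h g hg (Ideal.subset_span (Set.mem_range_self i)) W
  have hloc : ∀ y ∈ W, ∃ V : (𝔜.X 0).Opens, y ∈ V ∧ ∃ hV : V ≤ W,
      IsGen (famSh h g hg f) V (pull h g hg V (f i)) := fun y hy => by
    obtain ⟨j, V, hyV, hV⟩ := exists_gen_index h g hg f hinv y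
    have hV' := hV.mono (inf_le_left : V ⊓ W ≤ V)
    rw [res_pull] at hV'
    obtain ⟨s, hs⟩ := hdvd j
    refine ⟨V ⊓ W, ⟨hyV, hy⟩, inf_le_right, isGen_of_dvd hV'
      (pull_mem_schIdealMap h g hg (Ideal.subset_span (Set.mem_range_self i)) _) (d := res _ inf_le_right s) ?_⟩
    rw [← res_pull h g hg (inf_le_right : V ⊓ W ≤ W) (f j), hs, res, map_mul]
    exact congrArg (_ * ·) (res_pull h g hg inf_le_right (f i))
  refine isGen_of_le _ hc (nzd_of_local _ fun y hy => ?_) fun V s hs y hy hyW => ?_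
  · obtain ⟨V, hyV, hVW, hV⟩ := hloc y hy
    refine ⟨V, hyV, fun V' i' hV' t ht => (hV.2 V' hV').1 t ?_⟩
    rw [res_pull] at ht ⊢
    exact ht
  · obtain ⟨V', hyV', hVW, hV'⟩ := hloc y hyW
    obtain ⟨t, ht⟩ := (hV'.2 (V ⊓ V') inf_le_right).2 _ ((famSh h g hg f).map_mem (inf_le_left : V ⊓ V' ≤ V) hs)
    refine ⟨V ⊓ V', inf_le_left, inf_le_right.trans hVW, ⟨hy, hyV'⟩, t, ?_⟩
    rw [res_pull] at ht ⊢
    exact ht

theorem map_span_of_gen {ι : Type*} (f : ι → A) (i : ι)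
    (hgen : IsGen (famSh h g hg f) ⊤ (pull h g hg ⊤ (f i))) :
    pull h g hg ⊤ (f i) ∈ nonZeroDivisors ((𝔜.Osh h).obj.obj (op ⊤)) ∧
      (Ideal.span (Set.range f)).map (pull h g hg ⊤) = Ideal.span {pull h g hg ⊤ (f i)} := by
  refine ⟨mem_nonZeroDivisors_iff_right.2 fun t ht => (hgen.2 ⊤ le_rfl).1 t (by rw [res, IdealSh.map_id_apply]; exact ht),
    le_antisymm ?_ ?_⟩
  · refine Ideal.map_le_iff_le_comap.2 fun a ha => ?_
    obtain ⟨t, ht⟩ := (hgen.2 ⊤ le_rfl).2 _ (pull_mem_schIdealMap h g hg ha ⊤)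
    rw [res, IdealSh.map_id_apply] at ht
    exact Ideal.mem_span_singleton'.2 ⟨t, ht.symm⟩
  · rw [Ideal.span_le, Set.singleton_subset_iff]
    exact Ideal.mem_map_of_mem _ (Ideal.subset_span (Set.mem_range_self i))

section

variable (h g hg)
variable {ι : Type*} (f : ι → A) (hf : Ideal.span (Set.range f) = 𝔞)

include hb hf in
theorem exists_family_of_gen (i : ι) (hgen : IsGen (famSh h g hg f) ⊤ (pull h g hg ⊤ (f i))) :
    ∃ r : ∀ n, 𝔜.X n ⟶ P, (∀ n, 𝔜.ι n ≫ r (n + 1) = r n) ∧ ∀ n, r n ≫ q = g n := by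
  subst hf
  obtain ⟨hnzd, hspan⟩ := map_span_of_gen f i hgen
  have hC := BlowUpLib.isChart_affineAlgebra (Ideal.subset_span (Set.mem_range_self i) : f i ∈ Ideal.span (Set.range f))
  obtain ⟨ψ, hψ, -⟩ := hC.lift _ (pull h g hg ⊤) hnzd hspan
  obtain ⟨e, he, -⟩ := exists_toBlowUp hb _ hC.nzd hC.span
  refine ⟨fun n => famOfHom h ψ n ≫ e, fun n => by rw [← Category.assoc, famOfHom_comm], fun n => ?_⟩
  rw [Category.assoc, he]
  exact famOfHom_over h g hg _ ψ (fun a => RingHom.congr_fun hψ a) n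

end

end FBlowLib
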