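import Groth.Agent.FBlowLib.BlowOver
import Mathlib.AlgebraicGeometry.RelativeGluing

/-!
# Gluing admissible blowing-ups over the members of a basis
-/

set_option autoImplicit false
set_option linter.style.haveILetI false

universe u

open CategoryTheory CategoryTheory.Limits AlgebraicGeometry TopologicalSpace Opposite FSch FBlow

noncomputable section

namespace FBlowLib

variable {𝔛 : Sys.{u}}

/-- Blowing-ups over the members of a basis of opens. -/
structure BasisBlowUps (h : 𝔛.IsFormal) (J : IdealSh (𝔛.Osh h)) : Type (u + 1) where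
  /-- the basis -/
  Q : (𝔛.X 0).Opens → Prop
  basis : ∀ (x : 𝔛.X 0) (U : (𝔛.X 0).Opens), x ∈ U → ∃ V, Q V ∧ x ∈ V ∧ V ≤ U
  /-- the blowing-up over a member -/
  Y : {U // Q U} → Sys.{u}
  hY : ∀ i, (Y i).IsFormal
  /-- its map to the whole -/
  b : ∀ i, Y i ⟶ 𝔛
  over' : ∀ i, IsBlowUpOver h J (b i) (hY i) i.1

namespace BasisBlowUps

variable {h : 𝔛.IsFormal} {J : IdealSh (𝔛.Osh h)} (D : BasisBlowUps h J)

/-- The index type. -/
abbrev Idx : Type u := {U : (𝔛.X 0).Opens // D.Q U}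

/-- The transition maps. -/
def t {i j : D.Idx} (hij : i ⟶ j) : D.Y i ⟶ D.Y j :=
  ((D.over' j).exists_trans (leOfHom hij) (D.over' i)).choose

theorem t_comp_b {i j : D.Idx} (hij : i ⟶ j) : D.t hij ≫ D.b j = D.b i :=
  ((D.over' j).exists_trans (leOfHom hij) (D.over' i)).choose_spec.1

theorem t_app {i j : D.Idx} (hij : i ⟶ j) (n : ℕ) : IsOpenImmersion ((D.t hij : Hom _ _).app n) ∧
      Set.range ((D.t hij : Hom _ _).app n) =
        (D.b j : Hom _ _).app n ⁻¹' (𝔛.lvU h n i.1 : Set (𝔛.X n)) :=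
  ((D.over' j).exists_trans (leOfHom hij) (D.over' i)).choose_spec.2 n

theorem t_id (i : D.Idx) : D.t (𝟙 i) = 𝟙 _ :=
  (D.over' i).hom_ext (D.hY i) (D.over' i).adic (D.over' i).inv (D.t_comp_b _) (Category.id_comp _)

theorem t_comp {i j k : D.Idx} (f : i ⟶ j) (g : j ⟶ k) : D.t (f ≫ g) = D.t f ≫ D.t g :=
  (D.over' k).hom_ext (D.hY i) (D.over' i).adic (D.over' i).inv (D.t_comp_b _)
    (by rw [Category.assoc, t_comp_b, t_comp_b])

/-- The cover of a level. -/
def cov (n : ℕ) : (𝔛.X n).OpenCover :=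
  Scheme.Cover.mkOfCovers D.Idx (fun i => (𝔛.lvU h n i.1 : Scheme.{u})) (fun i => (𝔛.lvU h n i.1).ι)
    (fun z => by
      obtain ⟨V, hV, hz, -⟩ := D.basis ((𝔛.gInv h n) z) ⊤ trivial
      exact ⟨⟨V, hV⟩, (Scheme.Opens.range_ι (𝔛.lvU h n V)).ge hz⟩)
    (fun _ => inferInstance)

/-- The inclusions between members. -/
def incl (n : ℕ) {i j : D.Idx} (hij : i ⟶ j) : (𝔛.lvU h n i.1 : Scheme.{u}) ⟶ (𝔛.lvU h n j.1 : Scheme.{u}) :=
  (𝔛.X n).homOfLE (lvU_mono 𝔛 h n (leOfHom hij))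

theorem incl_ι (n : ℕ) {i j : D.Idx} (hij : i ⟶ j) : D.incl n hij ≫ (𝔛.lvU h n j.1).ι = (𝔛.lvU h n i.1).ι :=
  Scheme.homOfLE_ι _ _

instance isOpenImmersion_incl (n : ℕ) {i j : D.Idx} (hij : i ⟶ j) : IsOpenImmersion (D.incl n hij) := by
  unfold incl
  infer_instance

instance (n : ℕ) : Category (D.cov n).I₀ := inferInstanceAs (Category D.Idx)

instance (n : ℕ) : Quiver.IsThin (D.cov n).I₀ := inferInstanceAs (Quiver.IsThin D.Idx)

instance (n : ℕ) : Small.{u} (D.cov n).I₀ := inferInstanceAs (Small.{u} D.Idx)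

instance (n : ℕ) : (D.cov n).LocallyDirected where
  trans {i j} hij := D.incl n (i := i) (j := j) hij
  trans_id i := Scheme.homOfLE_rfl _ _
  trans_comp _ _ := (Scheme.homOfLE_homOfLE _ _ _).symm
  w {i j} hij := D.incl_ι n (i := i) (j := j) hij
  directed {i j} x := by
    let p : pullback (𝔛.lvU h n i.1).ι (𝔛.lvU h n j.1).ι ⟶ 𝔛.X n := pullback.fst _ _ ≫ (𝔛.lvU h n i.1).ι
    have hz1 : p x ∈ 𝔛.lvU h n i.1 := (pullback.fst (𝔛.lvU h n i.1).ι (𝔛.lvU h n j.1).ι x).2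
    have hz2 : p x ∈ 𝔛.lvU h n j.1 := by
      show (pullback.fst (𝔛.lvU h n i.1).ι (𝔛.lvU h n j.1).ι ≫ (𝔛.lvU h n i.1).ι) x ∈ _
      rw [pullback.condition]
      exact (pullback.snd (𝔛.lvU h n i.1).ι (𝔛.lvU h n j.1).ι x).2
    obtain ⟨V, hV, hzV, hVle⟩ := D.basis ((𝔛.gInv h n) (p x)) (i.1 ⊓ j.1) ⟨hz1, hz2⟩
    refine ⟨⟨V, hV⟩, (homOfLE (hVle.trans inf_le_left) : (⟨V, hV⟩ : D.Idx) ⟶ (i : D.Idx)),
      (homOfLE (hVle.trans inf_le_right) : (⟨V, hV⟩ : D.Idx) ⟶ (j : D.Idx)), ⟨p x, hzV⟩, ?_⟩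
    refine (inferInstanceAs (IsOpenImmersion p) : IsOpenImmersion p).base_open.injective ?_
    show (pullback.lift _ _ _ ≫ pullback.fst _ _ ≫ (𝔛.lvU h n i.1).ι) _ = p x
    rw [pullback.lift_fst_assoc]
    exact congr($(D.incl_ι n (i := ⟨V, hV⟩) (j := i) (homOfLE (hVle.trans inf_le_left))) ⟨p x, hzV⟩)
  property_trans {i j} hij := D.isOpenImmersion_incl n (i := i) (j := j) hij

/-- The functor of levels. -/
def lev (n : ℕ) : (D.cov n).I₀ ⥤ Scheme.{u} where
  obj i := (D.Y i).X n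
  map f := (D.t f : Hom _ _).app n
  map_id i := (congrArg (fun k : D.Y i ⟶ D.Y i => (k : Hom _ _).app n) (D.t_id i)).trans rfl
  map_comp f g := (congrArg (fun k : D.Y _ ⟶ D.Y _ => (k : Hom _ _).app n) (D.t_comp f g)).trans rfl

theorem range_b (i : D.Idx) (n : ℕ) :
    Set.range ((D.b i : Hom _ _).app n) ⊆ Set.range (𝔛.lvU h n i.1).ι := by
  rintro _ ⟨y, rfl⟩
  rw [Scheme.Opens.range_ι]
  exact (Hom.lvU_preimage (D.b i) (D.hY i) h n i.1).ge
    ((D.over' i).mem _ : (D.b i : Hom _ _).app 0 (((D.Y i).gInv (D.hY i) n) y) ∈ i.1)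

/-- The maps to the members of the covers. -/
def pc (i : D.Idx) (n : ℕ) : (D.Y i).X n ⟶ (𝔛.lvU h n i.1 : Scheme.{u}) :=
  IsOpenImmersion.lift (𝔛.lvU h n i.1).ι _ (D.range_b i n)

theorem pc_ι (i : D.Idx) (n : ℕ) : D.pc i n ≫ (𝔛.lvU h n i.1).ι = (D.b i : Hom _ _).app n :=
  IsOpenImmersion.lift_fac _ _ _

theorem t_b_app {i j : D.Idx} (f : i ⟶ j) (n : ℕ) :
    (D.t f : Hom _ _).app n ≫ (D.b j : Hom _ _).app n = (D.b i : Hom _ _).app n :=
  congrArg (fun k : D.Y i ⟶ 𝔛 => (k : Hom _ _).app n) (D.t_comp_b f)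

/-- The relative gluing data of a level. -/
def data (n : ℕ) : (D.cov n).RelativeGluingData where
  functor := D.lev n
  natTrans :=
    { app := fun i => D.pc i n
      naturality := fun i j f => (cancel_mono (𝔛.lvU h n j.1).ι).1 (by
        show ((D.t f : Hom _ _).app n ≫ D.pc j n) ≫ _ = (D.pc i n ≫ D.incl n (i := i) (j := j) f) ≫ _
        rw [Category.assoc, pc_ι, t_b_app, Category.assoc, incl_ι, pc_ι]) }
  equifibered := fun i j f => by
    show IsPullback ((D.t f : Hom _ _).app n) (D.pc i n) (D.pc j n) (D.incl n (i := i) (j := j) f)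
    have := (D.t_app f n).1
    refine (IsOpenImmersion.isPullback (D.pc i n) ((D.t f : Hom _ _).app n) _ (D.pc j n) ?_ ?_).flip
    · refine (cancel_mono (𝔛.lvU h n j.1).ι).1 ?_
      rw [Category.assoc, pc_ι, t_b_app, Category.assoc, incl_ι, pc_ι]
    · refine TopologicalSpace.Opens.ext ?_
      refine Eq.trans ?_ (D.t_app f n).2.symm
      erw [Scheme.opensRange_homOfLE]
      rw [← pc_ι D j n]
      rfl

/-- The levels of the glued system. -/
abbrev gl (n : ℕ) : Scheme.{u} := (D.data n).glued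

/-- The piece over a member. -/
def piece (i : D.Idx) (n : ℕ) : (D.Y i).X n ⟶ D.gl n := colimit.ι (D.data n).functor i

theorem piece_base (i : D.Idx) (n : ℕ) : D.piece i n ≫ (D.data n).toBase = (D.b i : Hom _ _).app n :=
  ((D.data n).ι_toBase i).trans (D.pc_ι i n)

theorem t_piece {i j : D.Idx} (f : i ⟶ j) (n : ℕ) : (D.t f : Hom _ _).app n ≫ D.piece j n = D.piece i n :=
  colimit.w (D.data n).functor (show (i : (D.cov n).I₀) ⟶ j from f)

theorem isPullback_piece (i : D.Idx) (n : ℕ) :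
    IsPullback (D.pc i n) (D.piece i n) (𝔛.lvU h n i.1).ι (D.data n).toBase :=
  (D.data n).isPullback_natTrans_ι_toBase i

/-- The transition cocone. -/
def transCocone (n : ℕ) : Cocone (D.data n).functor where
  pt := D.gl (n + 1)
  ι :=
    { app := fun i => (D.Y i).ι n ≫ D.piece i (n + 1)
      naturality := fun i j f => by
        show (D.t f : Hom _ _).app n ≫ (D.Y j).ι n ≫ D.piece j (n + 1) = ((D.Y i).ι n ≫ D.piece i (n + 1)) ≫ 𝟙 _
        rw [← Category.assoc, (D.t f : Hom _ _).comm, Category.assoc, t_piece, Category.comp_id] }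

/-- The glued system. -/
def glSys : Sys.{u} where
  X := D.gl
  ι n := colimit.desc _ (D.transCocone n)

theorem piece_ι (i : D.Idx) (n : ℕ) : D.piece i n ≫ D.glSys.ι n = (D.Y i).ι n ≫ D.piece i (n + 1) :=
  colimit.ι_desc (D.transCocone n) i

theorem base_comm (n : ℕ) : (D.data n).toBase ≫ 𝔛.ι n = D.glSys.ι n ≫ (D.data (n + 1)).toBase := by
  refine colimit.hom_ext fun (i : D.Idx) => ?_
  show D.piece i n ≫ _ = D.piece i n ≫ _
  refine ((Category.assoc _ _ _).symm.trans (congrArg (· ≫ _) (D.piece_base i n))).trans ?_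
  refine ((D.b i : Hom _ _).comm n).trans ?_
  refine Eq.trans ?_ ((congrArg (· ≫ (D.data (n + 1)).toBase) (D.piece_ι i n).symm).trans (Category.assoc _ _ _))
  exact ((Category.assoc _ _ _).trans (congrArg (_ ≫ ·) (D.piece_base i (n + 1)))).symm

/-- The glued map to the base. -/
def glB : D.glSys ⟶ 𝔛 := ⟨fun n => (D.data n).toBase, D.base_comm⟩

/-- The pieces as morphisms of systems. -/
def glC (i : D.Idx) : D.Y i ⟶ D.glSys := ⟨D.piece i, fun n => D.piece_ι i n⟩

theorem glC_glB (i : D.Idx) : D.glC i ≫ D.glB = D.b i := Hom.ext (funext fun n => D.piece_base i n)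

theorem isPullback_pc (i : D.Idx) (n : ℕ) :
    IsPullback ((D.Y i).ι n) (D.pc i n) (D.pc i (n + 1)) ((𝔛.restrictOpen h i.1).ι n) := by
  refine IsPullback.of_bot ?_ ?_ (isPullback_restrictOpen_ι h i.1 n)
  · rw [pc_ι]
    erw [pc_ι]
    exact (D.over' i).adic n
  · refine (cancel_mono (𝔛.lvU h (n + 1) i.1).ι).1 ?_
    show ((D.Y i).ι n ≫ D.pc i (n + 1)) ≫ _ = (D.pc i n ≫ (𝔛.restrictOpen h i.1).ι n) ≫ _
    rw [Category.assoc, pc_ι, Category.assoc]
    erw [Scheme.Hom.resLE_comp_ι]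
    rw [← Category.assoc, pc_ι]
    exact ((D.b i : Hom _ _).comm n).symm

theorem isAdicHom_glB : IsAdicHom D.glB := fun n => by
  show IsPullback (D.glSys.ι n) (D.data n).toBase (D.data (n + 1)).toBase (𝔛.ι n)
  let j : D.gl n ⟶ pullback (D.data (n + 1)).toBase (𝔛.ι n) :=
    pullback.lift (D.glSys.ι n) (D.data n).toBase (D.base_comm n).symm
  let c : ∀ i : D.Idx, (D.Y i).X n ⟶ pullback (D.data (n + 1)).toBase (𝔛.ι n) := fun i => D.piece i n ≫ j
  have hsq : ∀ i : D.Idx, IsPullback (c i) (D.pc i n) (pullback.snd _ _) (𝔛.lvU h n i.1).ι := fun i => by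
    have h1 := (D.isPullback_pc i n).paste_horiz (D.isPullback_piece i (n + 1)).flip
    have e : (𝔛.restrictOpen h i.1).ι n ≫ (𝔛.lvU h (n + 1) i.1).ι = (𝔛.lvU h n i.1).ι ≫ 𝔛.ι n :=
      Scheme.Hom.resLE_comp_ι _ _
    erw [e] at h1
    refine IsPullback.of_right (t := IsPullback.of_hasPullback (D.data (n + 1)).toBase (𝔛.ι n)) ?_ ?_
    · rw [Category.assoc, pullback.lift_fst]
      erw [piece_ι]
      exact h1
    · rw [Category.assoc, pullback.lift_snd]
      exact (D.isPullback_piece i n).w.symm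
  have hc : ∀ i, IsOpenImmersion (c i) := fun i =>
    MorphismProperty.of_isPullback (hsq i).flip (inferInstanceAs (IsOpenImmersion (𝔛.lvU h n i.1).ι))
  let 𝒲 : (pullback (D.data (n + 1)).toBase (𝔛.ι n)).OpenCover :=
    Scheme.Cover.mkOfCovers D.Idx (fun i => (D.Y i).X n) c (fun z => by
      obtain ⟨V, hV, hz, -⟩ := D.basis ((𝔛.gInv h n) (pullback.snd (D.data (n + 1)).toBase (𝔛.ι n) z)) ⊤ trivial
      obtain ⟨y, hy, -⟩ := Scheme.exists_preimage_of_isPullback (hsq ⟨V, hV⟩) z ⟨_, hz⟩ rfl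
      exact ⟨⟨V, hV⟩, y, hy⟩) hc
  have hj : IsIso j := by
    refine IsZariskiLocalAtTarget.of_openCover (P := MorphismProperty.isomorphisms Scheme.{u}) (f := j) 𝒲 fun (i : D.Idx) => ?_
    have := hc i
    have hp : IsPullback (D.piece i n) (𝟙 _) j (c i) := by
      have := MorphismProperty.of_isPullback (P := @IsOpenImmersion) (D.isPullback_piece i n)
        (inferInstanceAs (IsOpenImmersion (𝔛.lvU h n i.1).ι))
      refine (IsOpenImmersion.isPullback (𝟙 _) (D.piece i n) (c i) j (Category.id_comp _).symm ?_).flip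
      refine TopologicalSpace.Opens.ext ?_
      show j ⁻¹' Set.range (c i) = Set.range (D.piece i n)
      refine Eq.trans ?_ ((D.data n).preimage_toBase_eq_range_ι i)
      have e : (D.data n).toBase = j ≫ pullback.snd _ _ := (pullback.lift_snd _ _ _).symm
      rw [e]
      refine (congrArg (j ⁻¹' ·) (?_ : Set.range (c i) = pullback.snd (D.data (n + 1)).toBase (𝔛.ι n) ⁻¹' Set.range (𝔛.lvU h n i.1).ι)).trans rfl
      refine Set.Subset.antisymm ?_ fun z hz => ?_
      · rintro _ ⟨y, rfl⟩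
        exact ⟨D.pc i n y, (congr($((hsq i).w) y)).symm⟩
      · obtain ⟨w, hw⟩ := hz
        obtain ⟨y, hy, -⟩ := Scheme.exists_preimage_of_isPullback (hsq i) z w hw.symm
        exact ⟨y, hy⟩
    show IsIso (pullback.snd j (c i))
    rw [show pullback.snd j (c i) = hp.isoPullback.inv from by
      rw [← Category.comp_id hp.isoPullback.inv, hp.isoPullback_inv_snd]]
    infer_instance
  exact IsPullback.of_iso_pullback ⟨(D.base_comm n).symm⟩ (@asIso _ _ _ _ j hj)
    (pullback.lift_fst _ _ _) (pullback.lift_snd _ _ _)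

end BasisBlowUps

end FBlowLib
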