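import Groth.Agent.FBlowLib.BlowUnique
import Groth.Agent.FComplLib.Completion
import Groth.Agent.FComplLib.Spf

/-!
# The completion of a blowing-up of an affine scheme: the exceptional ideal is invertible
-/

set_option autoImplicit false
set_option linter.style.haveILetI false

universe u

open CategoryTheory CategoryTheory.Limits AlgebraicGeometry TopologicalSpace Opposite FSch FBlow

noncomputable section

namespace FBlowLib

variable {A : Type u} [CommRing A] {P : Scheme.{u}} {q : P ⟶ Spec (CommRingCat.of A)} {𝔞 K : Ideal A}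

section Chart

variable {C : Type u} [CommRing C] (c : Spec (CommRingCat.of C) ⟶ P) [IsOpenImmersion c]
  {𝔜 : Sys.{u}} (h : 𝔜.IsFormal) (i : ∀ n, 𝔜.X n ⟶ P) (hi : ∀ n, 𝔜.ι n ≫ i (n + 1) = i n)

/-- The trace of a chart on the system. -/
abbrev chartTrace : (𝔜.X 0).Opens := i 0 ⁻¹ᵁ c.opensRange

include hi in
theorem range_chartTrace (n : ℕ) : Set.range (resFam h i (chartTrace c i) n) ⊆ Set.range c :=
  range_resFam (h := h) i hi c.opensRange le_rfl n

/-- The traces of the chart on the levels. -/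
abbrev chartLvl (n : ℕ) : (𝔜.restrictOpen h (chartTrace c i)).X n ⟶ Spec (CommRingCat.of C) :=
  IsOpenImmersion.lift c _ (range_chartTrace c h i hi n)

theorem chartLvl_fac (n : ℕ) : chartLvl c h i hi n ≫ c = resFam h i (chartTrace c i) n :=
  IsOpenImmersion.lift_fac _ _ _

theorem chartLvl_comm (n : ℕ) :
    (𝔜.restrictOpen h (chartTrace c i)).ι n ≫ chartLvl c h i hi (n + 1) = chartLvl c h i hi n :=
  (cancel_mono c).1 (by
    rw [Category.assoc, chartLvl_fac, chartLvl_fac]
    exact resFam_comm h _ hi _ n)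

theorem isPullback_chartLvl (n : ℕ) :
    IsPullback (chartLvl c h i hi n) (𝔜.lvU h n (chartTrace c i)).ι c (i n) :=
  IsOpenImmersion.isPullback (U := (𝔜.lvU h n (chartTrace c i) : Scheme.{u}))
    (chartLvl c h i hi n) _ c (i n) (chartLvl_fac c h i hi n).symm
    ((lvU_p _ h i hi n c.opensRange).trans (Scheme.Opens.opensRange_ι _).symm)

theorem ker_chartLvl (n : ℕ) [IsClosedImmersion (i n)] : (chartLvl c h i hi n).ker = (i n).ker.comap c := by
  have hp := isPullback_chartLvl c h i hi n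
  rw [← hp.isoPullback_hom_fst, Scheme.Hom.ker_comp_of_isIso, Scheme.IdealSheafData.ker_fst_of_isClosedImmersion]

theorem isClosedImmersion_chartLvl (n : ℕ) [IsClosedImmersion (i n)] : IsClosedImmersion (chartLvl c h i hi n) :=
  MorphismProperty.of_isPullback (isPullback_chartLvl c h i hi n).flip ‹IsClosedImmersion (i n)›

end Chart

section Spf

variable {C : Type u} [CommRing C] {𝔚 : Sys.{u}} (l : ∀ n, 𝔚.X n ⟶ Spec (CommRingCat.of C)) (J : Ideal C)

theorem isSpfLike_of_ker (hci : ∀ n, IsClosedImmersion (l n))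
    (hker : ∀ n, (l n).ker = BlowUpLib.specIdeal (J ^ (n + 1))) : IsSpfLike l J := by
  refine ⟨fun n => ?_, fun n => ?_, fun n => ?_⟩
  · have := hci n
    exact (IsClosedImmersion.isAffine_surjective_of_isAffine (l n)).1
  · have := hci n
    refine fun x => ?_
    obtain ⟨y, hy⟩ := (IsClosedImmersion.isAffine_surjective_of_isAffine (l n)).2 x
    refine ⟨(Scheme.ΓSpecIso (CommRingCat.of C)).hom y, ?_⟩
    refine Eq.trans ?_ hy
    show (l n).appLE ⊤ ⊤ _ ((Scheme.ΓSpecIso (CommRingCat.of C)).inv _) = _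
    refine (congrArg ((l n).appLE ⊤ ⊤ _) (Iso.hom_inv_id_apply _ y)).trans ?_
    simp [Scheme.Hom.appLE]
  · have := hci n
    have e := congrArg (fun I => I.ideal ⟨⊤, isAffineOpen_top _⟩) (hker n)
    rw [BlowUpLib.specIdeal_top, Scheme.Hom.ker_apply] at e
    have e2 : RingHom.ker (pullLvl l n ⊤) = (RingHom.ker ((l n).app ⊤).hom).comap
        (Scheme.ΓSpecIso (CommRingCat.of C)).inv.hom := by
      ext x
      simp [pullLvl, Scheme.Hom.appLE]
      rfl
    rw [e2, e, Ideal.comap_map_of_bijective]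
    exact ConcreteCategory.bijective_of_isIso _

end Spf

theorem isInvertible_pullback (hb : BlowUp.IsBlowUp q (BlowUpLib.specIdeal 𝔞)) (k : ℕ) (hk : K ^ k ≤ 𝔞)
    {𝔜 : Sys.{u}} (h : 𝔜.IsFormal) (i : ∀ n, 𝔜.X n ⟶ P) (hi : ∀ n, 𝔜.ι n ≫ i (n + 1) = i n)
    (hci' : ∀ n, IsClosedImmersion (i n))
    (hker : ∀ n, (i n).ker = ((BlowUpLib.specIdeal K).comap q) ^ (n + 1))
    (g : ∀ n, 𝔜.X n ⟶ Spec (CommRingCat.of A)) (hg : ∀ n, i n ≫ q = g n)
    (hgc : ∀ n, 𝔜.ι n ≫ g (n + 1) = g n) :
    (schIdealMap _ h g hgc (IdealSh.ofData (idealSpec A 𝔞))).IsInvertible := by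
  refine (isInvertible_iff _).2 fun x => ?_
  obtain ⟨a, ha, c, hci, hx, hc⟩ := BlowUpLib.exists_chart_spec 𝔞 hb (i 0 x)
  have hC := BlowUpLib.isChart_affineAlgebra ha
  let φ := algebraMap A (BlowUp.affineAlgebra A 𝔞 a)
  let V := chartTrace c i
  have hVaff : IsAffineOpen V := (haveI := hci' 0; (isAffineOpen_opensRange c).preimage (i 0))
  have hW := isFormal_restrictOpen h V
  have hS : IsSpfLike (chartLvl c h i hi) (K.map φ) := isSpfLike_of_ker _ _ (fun n => (haveI := hci' n; isClosedImmersion_chartLvl c h i hi n))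
    fun n => by
      haveI := hci' n
      rw [ker_chartLvl, hker, FComplLib.comap_pow_succ, ← Scheme.IdealSheafData.comap_comp, hc,
        BlowUpLib.comap_specIdeal]
      exact (FComplLib.specIdeal_pow _ n).symm
  have hN : (K.map φ) ^ k ≤ Ideal.span {φ a} := by
    rw [← Ideal.map_pow, ← hC.span]
    exact Ideal.map_mono hk
  have hnz : ∀ x, x * φ a = 0 → x = 0 := mem_nonZeroDivisors_iff_right.1 hC.nzd
  have hpl : ∀ (U : (𝔜.restrictOpen h V).X 0 |>.Opens) (a' : A),
      pull hW (chartLvl c h i hi) (chartLvl_comm c h i hi) U (φ a') =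
        pull hW (resFam h g V) (resFam_comm h g hgc V) U a' := fun U a' =>
    pullLvl_comp_specMap hW φ _ _ _ _ (fun n => by
      rw [← hc, ← Category.assoc, chartLvl_fac, Category.assoc, hg]) U a'
  have hsharp : ∀ (U : (𝔜.X 0).Opens) (a' : A),
      (Hom.sharp (𝔜.restrictOpenι h V) hW h).hom.app (op U) (pull h g hgc U a') =
        pull hW (chartLvl c h i hi) (chartLvl_comm c h i hi) ((𝔜.restrictOpenι h V : Hom _ _).app 0 ⁻¹ᵁ U) (φ a') :=
    fun U a' => (pull_resFam (h := h) (g := g) (hg := hgc) V U a').trans (hpl _ a').symm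
  refine ⟨V, hx, pull h g hgc V a, isGen_of_le _ (pull_mem_schIdealMap h g hgc ha V) (fun V' i' t ht => ?_)
    (schIdealMap_le h g hgc fun a' ha' U => ?_)⟩
  · rw [res_pull] at ht
    refine injective_sharp_restrictOpenι h V hW i' ?_
    refine pull_nzd hW (chartLvl c h i hi) (chartLvl_comm c h i hi) hS hnz hN _ _ ?_
    let σ : ((𝔜.Osh h).obj.obj (op V')) →+* ((𝔜.restrictOpen h V).Osh hW).obj.obj
        (op ((𝔜.restrictOpenι h V : Hom _ _).app 0 ⁻¹ᵁ V')) :=
      ((Hom.sharp (𝔜.restrictOpenι h V) hW h).hom.app (op V')).hom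
    show σ t * _ = 0
    rw [← hsharp V' a]
    show σ t * σ _ = 0
    rw [← map_mul, ht, map_zero]
  · refine mem_divSh_of_eq _ fun W i' j => ?_
    obtain ⟨β, hβ⟩ := Ideal.mem_span_singleton'.1 (hC.span ▸ Ideal.mem_map_of_mem φ ha')
    obtain ⟨β', hβ'⟩ := surjective_sharp_restrictOpenι h V hW le_rfl hVaff
      (pull hW (chartLvl c h i hi) (chartLvl_comm c h i hi) ((𝔜.restrictOpenι h V : Hom _ _).app 0 ⁻¹ᵁ V) β)
    have key : pull h g hgc V a' = β' * pull h g hgc V a := by
      let σ : ((𝔜.Osh h).obj.obj (op V)) →+* ((𝔜.restrictOpen h V).Osh hW).obj.obj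
          (op ((𝔜.restrictOpenι h V : Hom _ _).app 0 ⁻¹ᵁ V)) :=
        ((Hom.sharp (𝔜.restrictOpenι h V) hW h).hom.app (op V)).hom
      refine sub_eq_zero.1 (injective_sharp_restrictOpenι h V hW le_rfl ?_)
      show σ _ = 0
      rw [map_sub, map_mul, sub_eq_zero]
      have h1 : σ (pull h g hgc V a') = _ := hsharp V a'
      have h2 : σ (pull h g hgc V a) = _ := hsharp V a
      rw [h1, h2, ← hβ, map_mul]
      exact congrArg (· * _) hβ'.symm
    refine ⟨res _ j β', ?_⟩
    rw [res_pull, ← res_pull h g hgc j a', key, res, _root_.map_mul]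

theorem isInvertible_completion (hb : BlowUp.IsBlowUp q (BlowUpLib.specIdeal 𝔞)) (k : ℕ) (hk : K ^ k ≤ 𝔞)
    (h : (completionAlong P ((idealSpec A K).comap q)).IsFormal)
    (gP : ∀ n, (completionAlong P ((idealSpec A K).comap q)).X n ⟶ Spec (CommRingCat.of A))
    (hgP : ∀ n, completionToX P ((idealSpec A K).comap q) n ≫ q = gP n)
    (hgPc : ∀ n, (completionAlong P ((idealSpec A K).comap q)).ι n ≫ gP (n + 1) = gP n) :
    (schIdealMap _ h gP hgPc (IdealSh.ofData (idealSpec A 𝔞))).IsInvertible :=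
  isInvertible_pullback hb k hk h _ (completionToX_comm P _) (fun n => FComplLib.isClosedImmersion_completionToX P _ n)
    (fun n => (Scheme.IdealSheafData.ker_subschemeι _).trans (by rw [FComplLib.idealSpec_eq])) gP hgP hgPc

end FBlowLib
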