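import Groth.Agent.FBlowLib.BlowInv
import Groth.Agent.BlowUpLib.Props

/-!
# Existence of admissible formal blowing-ups over small affine opens
-/

set_option autoImplicit false
set_option linter.style.haveILetI false

universe u

open CategoryTheory CategoryTheory.Limits AlgebraicGeometry TopologicalSpace Opposite FSch FBlow

noncomputable section

namespace FBlowLib

theorem pull_famOfHom {𝔜 : Sys.{u}} (h : 𝔜.IsFormal) {C : Type u} [CommRing C]
    (ψ : C →+* (𝔜.Osh h).obj.obj (op ⊤)) (c : C) : pull h (famOfHom h ψ) (famOfHom_comm h ψ) ⊤ c = ψ c :=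
  FModLib.oSec_ext h ⊤ fun n => (oProj_pull h _ (famOfHom_comm h ψ) n ⊤ c).trans (homSpec_top _ c)

theorem exists_family_factor {A : Type u} [CommRing A] {P : Scheme.{u}} {q : P ⟶ Spec (CommRingCat.of A)}
    {𝔞 : Ideal A} (hb : BlowUp.IsBlowUp q (BlowUpLib.specIdeal 𝔞)) {𝔜 : Sys.{u}} (h : 𝔜.IsFormal)
    (g : ∀ n, 𝔜.X n ⟶ Spec (CommRingCat.of A)) (hg : ∀ n, 𝔜.ι n ≫ g (n + 1) = g n)
    (hinv : (schIdealMap 𝔜 h g hg (IdealSh.ofData (idealSpec A 𝔞))).IsInvertible) :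
    ∃! r : ∀ n, 𝔜.X n ⟶ P, (∀ n, 𝔜.ι n ≫ r (n + 1) = r n) ∧ ∀ n, r n ≫ q = g n := by
  have hs : Ideal.span (Set.range (fun a : 𝔞 => (a : A))) = 𝔞 := by
    rw [Subtype.range_coe_subtype]
    exact Ideal.span_eq 𝔞
  have hinv' : (famSh h g hg (fun a : 𝔞 => (a : A))).IsInvertible := by
    unfold famSh
    rw [hs]
    exact hinv
  obtain ⟨r, hr⟩ := exists_family (fun a : 𝔞 => (a : A)) hb hs hinv'
  exact ⟨r, hr, fun r' hr' => family_ext _ hb hs hinv' r' r hr'.1 hr.1 hr'.2 hr.2⟩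

variable {R : Type u} [CommRing R] (I : Ideal R) {𝔛 : Sys.{u}} (h : 𝔛.IsFormal) (p : 𝔛 ⟶ spf R I)
  (J : IdealSh (𝔛.Osh h))

/-- Affine opens on which the ideal is generated by its sections and contains a power of the base ideal. -/
structure IsGoodOpen (U : (𝔛.X 0).Opens) : Prop where
  aff : IsAffineOpen U
  pow : ∃ N : ℕ, ∀ r ∈ I ^ (N + 1), pull h (toBase I p) (toBase_comm I p) U r ∈ J.sect U
  gen : J ≤ spanSh (U := U) (J.sect U : Set ((𝔛.Osh h).obj.obj (op U)))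

variable {I h p J}

theorem IsGoodOpen.mono {U V : (𝔛.X 0).Opens} (hU : IsGoodOpen I h p J U) (hV : IsAffineOpen V) (i : V ≤ U) :
    IsGoodOpen I h p J V := by
  obtain ⟨N, hN⟩ := hU.pow
  refine ⟨hV, ⟨N, fun r hr => res_pull h _ _ i r ▸ J.map_mem i (hN r hr)⟩, fun W s hs y hy hyV => ?_⟩
  obtain ⟨W', k, j, hyW, hspan⟩ := hU.gen W hs y hy (i hyV)
  refine ⟨W' ⊓ V, inf_le_left.trans k, inf_le_right, ⟨hyW, hyV⟩, ?_⟩
  have := res_mem_span _ (inf_le_left : W' ⊓ V ≤ W') j (inf_le_left.trans j) hspan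
  rw [res, res, IdealSh.map_comp_apply] at this
  refine Ideal.span_mono ?_ this
  rintro _ ⟨a, ha, rfl⟩
  exact ⟨res _ i a, J.map_mem i ha, IdealSh.map_comp_apply _ _ a⟩

theorem exists_isGoodOpen (hp : IsAdicHom p) (hI : I.FG) (hJ : IsCohOpen 𝔛 h J) (x : 𝔛.X 0)
    {U : (𝔛.X 0).Opens} (hx : x ∈ U) : ∃ V, IsGoodOpen I h p J V ∧ x ∈ V ∧ V ≤ U := by
  obtain ⟨U₀, hU₀, hxU₀, N, hN, hgen⟩ := exists_span_of_isCohOpen h p hp hI hJ x
  have hgood : IsGoodOpen I h p J U₀ := by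
    refine ⟨hU₀, ⟨N, fun r hr => hN U₀ le_rfl r hr⟩, fun W s hs y hy hyU => ?_⟩
    obtain ⟨W', k, j, hyW, hspan⟩ := hgen (W ⊓ U₀) inf_le_right _ (J.map_mem (inf_le_left : W ⊓ U₀ ≤ W) hs) y ⟨hy, hyU⟩
    refine ⟨W', k.trans inf_le_left, j, hyW, ?_⟩
    rw [res, IdealSh.map_comp_apply] at hspan
    exact hspan
  obtain ⟨V, hV, hxV, hVle⟩ := Opens.isBasis_iff_nbhd.mp (𝔛.X 0).isBasis_affineOpens
    (show x ∈ U ⊓ U₀ from ⟨hx, hxU₀⟩)
  exact ⟨V, hgood.mono hV (hVle.trans inf_le_right), hxV, hVle.trans inf_le_left⟩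

variable (h) (U : (𝔛.X 0).Opens)

theorem top_le_restrictOpenι : ⊤ ≤ (𝔛.restrictOpenι h U : Hom _ _).app 0 ⁻¹ᵁ U := fun y _ => (lvU_zero h U).le y.2

/-- The sections over an open, as functions on the formal system induced on it. -/
abbrev secHom : (𝔛.Osh h).obj.obj (op U) →+*
    ((𝔛.restrictOpen h U).Osh (isFormal_restrictOpen h U)).obj.obj (op ⊤) :=
  secMap h (isFormal_restrictOpen h U) (𝔛.restrictOpenι h U) (top_le_restrictOpenι h U)

/-- The maps from the induced system to the spectrum of the sections. -/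
abbrev secFam (n : ℕ) : (𝔛.restrictOpen h U).X n ⟶ Spec (CommRingCat.of ((𝔛.Osh h).obj.obj (op U))) :=
  famOfHom (isFormal_restrictOpen h U) (secHom h U) n

theorem secFam_comm (n : ℕ) : (𝔛.restrictOpen h U).ι n ≫ secFam h U (n + 1) = secFam h U n :=
  famOfHom_comm _ _ n

theorem bijective_appLE_top (n : ℕ) (e : ⊤ ≤ (𝔛.lvU h n U).ι ⁻¹ᵁ 𝔛.lvU h n U) :
    Function.Bijective ((𝔛.lvU h n U).ι.appLE (𝔛.lvU h n U) ⊤ e) := by
  have : IsIso ((𝔛.lvU h n U).ι.appLE (𝔛.lvU h n U) ⊤ e) := by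
    have hr : 𝔛.lvU h n U ≤ (𝔛.lvU h n U).ι.opensRange := by rw [Scheme.Opens.opensRange_ι]
    rw [Scheme.Hom.appLE]
    have := Scheme.Hom.isIso_app (𝔛.lvU h n U).ι (𝔛.lvU h n U) hr
    have h2 : IsIso ((𝔛.lvU h n U : Scheme.{u}).presheaf.map (homOfLE e).op) := by
      have : IsIso (homOfLE e).op := (Iso.op (eqToIso (le_antisymm e le_top))).isIso_hom
      exact @Functor.map_isIso _ _ _ _ _ _ (𝔛.lvU h n U : Scheme.{u}).presheaf _ this
    exact IsIso.comp_isIso' this h2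
  exact ConcreteCategory.bijective_of_isIso _

theorem pullLvl_secFam (n : ℕ) (a : (𝔛.Osh h).obj.obj (op U)) :
    ∃ e, pullLvl (secFam h U) n ⊤ a = (𝔛.lvU h n U).ι.appLE (𝔛.lvU h n U) ⊤ e (FModLib.oProj h U n a) :=
  ⟨_, (homSpec_top _ a).trans (topLvl_secMap (h := h) (h𝔜 := isFormal_restrictOpen h U) (𝔛.restrictOpenι h U) _ n
    (lvU_le_preimage h (isFormal_restrictOpen h U) (𝔛.restrictOpenι h U) (top_le_restrictOpenι h U) n) a)⟩

variable {U}

theorem isClosedImmersion_secFam (hp : IsAdicHom p) (hI : I.FG) (hU : IsAffineOpen U) (n : ℕ) :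
    IsClosedImmersion (secFam h U n) ∧ (secFam h U n).ker =
      BlowUpLib.specIdeal ((I.map (pull h (toBase I p) (toBase_comm I p) U)) ^ (n + 1)) := by
  have : IsAffine ((𝔛.restrictOpen h U).X n) := FModLib.isAffineOpen_lvU h hU n
  have hk := ker_oProj h p hp hI hU n
  have htop : ∀ y, (secFam h U n).appTop y =
      pullLvl (secFam h U) n ⊤ ((Scheme.ΓSpecIso (CommRingCat.of ((𝔛.Osh h).obj.obj (op U)))).hom y) := fun y => by
    refine Eq.symm (Eq.trans (congrArg ((secFam h U n).appLE ⊤ ⊤ le_top) (Iso.hom_inv_id_apply _ y)) ?_)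
    simp [Scheme.Hom.appLE]
  have hci : IsClosedImmersion (secFam h U n) := by
    refine IsClosedImmersion.of_surjective_of_isAffine _ fun x => ?_
    obtain ⟨e, -⟩ := pullLvl_secFam h U n 0
    obtain ⟨y, rfl⟩ := (bijective_appLE_top h U n e).2 x
    obtain ⟨a, rfl⟩ := hk.2 y
    refine ⟨(Scheme.ΓSpecIso (CommRingCat.of ((𝔛.Osh h).obj.obj (op U)))).inv a, ?_⟩
    rw [htop]
    obtain ⟨e', he'⟩ := pullLvl_secFam h U n a
    refine Eq.trans ?_ he'
    exact congrArg _ (Iso.inv_hom_id_apply _ a)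
  refine ⟨hci, Scheme.IdealSheafData.ext_of_isAffine ?_⟩
  rw [BlowUpLib.specIdeal_top, Scheme.Hom.ker_apply, ← Ideal.map_pow, ← hk.1]
  ext z
  obtain ⟨a, rfl⟩ := (ConcreteCategory.bijective_of_isIso
    (Scheme.ΓSpecIso (CommRingCat.of ((𝔛.Osh h).obj.obj (op U)))).inv).2 z
  obtain ⟨e, he⟩ := pullLvl_secFam h U n a
  have h1 : (secFam h U n).appTop ((Scheme.ΓSpecIso (CommRingCat.of ((𝔛.Osh h).obj.obj (op U)))).inv a) =
      (𝔛.lvU h n U).ι.appLE (𝔛.lvU h n U) ⊤ e (FModLib.oProj h U n a) :=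
    ((htop _).trans (congrArg _ (Iso.inv_hom_id_apply _ a))).trans he
  rw [RingHom.mem_ker, Ideal.mem_map_iff_of_surjective _ (ConcreteCategory.bijective_of_isIso _).2]
  constructor
  · intro hz
    exact ⟨a, RingHom.mem_ker.2 ((bijective_appLE_top h U n e).1 ((h1.symm.trans hz).trans (map_zero _).symm)), rfl⟩
  · rintro ⟨a', ha', hz⟩
    obtain rfl := (ConcreteCategory.bijective_of_isIso
      (Scheme.ΓSpecIso (CommRingCat.of ((𝔛.Osh h).obj.obj (op U)))).inv).1 hz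
    refine h1.trans ?_
    exact (congrArg _ (RingHom.mem_ker.1 ha')).trans (map_zero _)

variable {h}

theorem idealMap_goodOpen (hU : IsGoodOpen I h p J U) :
    idealMap (𝔛.restrictOpenι h U) (isFormal_restrictOpen h U) h J =
      schIdealMap _ (isFormal_restrictOpen h U) (secFam h U) (secFam_comm h U)
        (IdealSh.ofData (idealSpec _ (J.sect U))) := by
  have key : ∀ (W : ((𝔛.restrictOpen h U).X 0).Opens) (a : (𝔛.Osh h).obj.obj (op U)),
      pull (isFormal_restrictOpen h U) (secFam h U) (secFam_comm h U) W a =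
        res _ (fun y hy => top_le_restrictOpenι h U trivial : W ≤ (𝔛.restrictOpenι h U : Hom _ _).app 0 ⁻¹ᵁ U)
          ((Hom.sharp (𝔛.restrictOpenι h U) (isFormal_restrictOpen h U) h).hom.app (op U) a) := fun W a => by
    rw [← res_pull (isFormal_restrictOpen h U) (secFam h U) (secFam_comm h U) (le_top : W ≤ ⊤), pull_famOfHom]
    exact IdealSh.map_comp_apply (O := (𝔛.restrictOpen h U).Osh (isFormal_restrictOpen h U)) _ _ _
  refine ideal_le_antisymm ((map_le_iff _ _).2 fun V a ha => ?_) (schIdealMap_le _ _ _ fun a ha W => ?_)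
  · show (Hom.sharp (𝔛.restrictOpenι h U) (isFormal_restrictOpen h U) h).hom.app (op V) a ∈
      (schIdealMap (𝔛.restrictOpen h U) (isFormal_restrictOpen h U) (secFam h U) (secFam_comm h U)
        (IdealSh.ofData (idealSpec _ (J.sect U)))).sect ((𝔛.restrictOpenι h U : Hom _ _).app 0 ⁻¹ᵁ V)
    refine IdealSh.mem_of_local _ fun y hy => ?_
    obtain ⟨W, i, j, hyW, hspan⟩ := hU.gen V ha _ hy ((lvU_zero h U).le y.2)
    refine ⟨(𝔛.restrictOpenι h U : Hom _ _).app 0 ⁻¹ᵁ W, (Opens.map _).monotone i, hyW, ?_⟩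
    refine @Eq.subst _ (fun x => x ∈ _) _ _ (res_sharp (𝔛.restrictOpenι h U) (isFormal_restrictOpen h U) h i a) ?_
    let σ : (𝔛.Osh h).obj.obj (op W) →+* ((𝔛.restrictOpen h U).Osh (isFormal_restrictOpen h U)).obj.obj
        (op ((𝔛.restrictOpenι h U : Hom _ _).app 0 ⁻¹ᵁ W)) :=
      ((Hom.sharp (𝔛.restrictOpenι h U) (isFormal_restrictOpen h U) h).hom.app (op W)).hom
    refine (?_ : Ideal.span _ ≤ ((schIdealMap _ _ _ _ _).sect _).comap σ) hspan
    rw [Ideal.span_le]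
    rintro _ ⟨b, hb, rfl⟩
    show σ (res _ j b) ∈ (schIdealMap (𝔛.restrictOpen h U) (isFormal_restrictOpen h U) (secFam h U) (secFam_comm h U)
        (IdealSh.ofData (idealSpec _ (J.sect U)))).sect ((𝔛.restrictOpenι h U : Hom _ _).app 0 ⁻¹ᵁ W)
    rw [show σ (res _ j b) = _ from res_sharp (𝔛.restrictOpenι h U) (isFormal_restrictOpen h U) h j b]
    have e := pull_mem_schIdealMap (isFormal_restrictOpen h U) (secFam h U) (secFam_comm h U) hb
      ((𝔛.restrictOpenι h U : Hom _ _).app 0 ⁻¹ᵁ W)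
    rwa [key] at e
  · rw [key]
    exact IdealSh.map_mem _ _ (img_mem_map _ _ J ha)

/-- Existence over a good open. -/
theorem exists_isAdmBlowUp_goodOpen (hp : IsAdicHom p) (hI : I.FG) (hU : IsGoodOpen I h p J U) :
    ∃ (𝔜 : Sys.{u}) (h𝔜 : 𝔜.IsFormal) (b : 𝔜 ⟶ 𝔛.restrictOpen h U),
      IsAdmBlowUp b h𝔜 (isFormal_restrictOpen h U)
        (idealMap (𝔛.restrictOpenι h U) (isFormal_restrictOpen h U) h J) := by
  obtain ⟨N, hN⟩ := hU.pow
  let g := secFam h U
  have hci := fun n => (isClosedImmersion_secFam (p := p) h hp hI hU.aff n).1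
  have hker := fun n => (isClosedImmersion_secFam (p := p) h hp hI hU.aff n).2
  have hk : (I.map (pull h (toBase I p) (toBase_comm I p) U)) ^ (N + 1) ≤ J.sect U := by
    rw [← Ideal.map_pow, Ideal.map_le_iff_le_comap]
    exact hN
  obtain ⟨P, q, hb⟩ : ∃ (P : Scheme.{u}) (q : P ⟶ Spec (CommRingCat.of ((𝔛.Osh h).obj.obj (op U)))),
      BlowUp.IsBlowUp q (BlowUpLib.specIdeal (J.sect U)) := ⟨_, _, BlowUpLib.isBlowUp_proj _⟩
  let 𝔜 : Sys.{u} :=
    { X := fun n => pullback q (g n)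
      ι := fun n => pullback.lift (pullback.fst q (g n)) (pullback.snd q (g n) ≫ (𝔛.restrictOpen h U).ι n)
        (by rw [Category.assoc, secFam_comm, pullback.condition]) }
  have hadic : ∀ n, IsPullback (𝔜.ι n) (pullback.snd q (g n)) (pullback.snd q (g (n + 1))) ((𝔛.restrictOpen h U).ι n) :=
    fun n => by
      refine IsPullback.of_right (t := (IsPullback.of_hasPullback q (g (n + 1)))) ?_ (pullback.lift_snd _ _ _)
      rw [pullback.lift_fst]
      convert IsPullback.of_hasPullback q (g n) using 1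
      exact secFam_comm h U n
  have h𝔜 : 𝔜.IsFormal := fun n => by
    have := (isFormal_restrictOpen h U n).1
    have : AlgebraicGeometry.Surjective ((𝔛.restrictOpen h U).ι n) := ⟨(isFormal_restrictOpen h U n).2⟩
    exact ⟨MorphismProperty.of_isPullback (hadic n).flip (‹_› : IsClosedImmersion ((𝔛.restrictOpen h U).ι n)),
      (MorphismProperty.of_isPullback (hadic n).flip
        (‹_› : AlgebraicGeometry.Surjective ((𝔛.restrictOpen h U).ι n))).surj⟩
  let b : 𝔜 ⟶ 𝔛.restrictOpen h U := ⟨fun n => pullback.snd q (g n), fun n => (hadic n).w.symm⟩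
  have hfc : ∀ n, 𝔜.ι n ≫ pullback.fst q (g (n + 1)) = pullback.fst q (g n) := fun n => pullback.lift_fst _ _ _
  have hgc : ∀ {ℨ : Sys.{u}} (v : ℨ ⟶ 𝔛.restrictOpen h U) (n : ℕ),
      ℨ.ι n ≫ (v : Hom _ _).app (n + 1) ≫ g (n + 1) = (v : Hom _ _).app n ≫ g n := fun v n => by
    rw [← Category.assoc, ← (v : Hom _ _).comm, Category.assoc, secFam_comm]
  refine ⟨𝔜, h𝔜, b, hadic, ?_, fun ℨ hℨ v _ hinv => ?_⟩
  · rw [idealMap_goodOpen hU, idealMap_schIdealMap h𝔜 _ _ _ b _ (hgc b) (fun _ => rfl)]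
    refine isInvertible_pullback hb (N + 1) hk h𝔜 (fun n => pullback.fst q (g n)) hfc (fun n => ?_) (fun n => ?_)
      _ (fun n => pullback.condition) (hgc b)
    · have := hci n
      infer_instance
    · have := hci n
      rw [Scheme.IdealSheafData.ker_fst_of_isClosedImmersion, hker, FComplLib.specIdeal_pow, FComplLib.comap_pow_succ]
  rw [idealMap_goodOpen hU, idealMap_schIdealMap hℨ _ _ _ v _ (hgc v) (fun _ => rfl)] at hinv
  obtain ⟨r, ⟨hr, hrq⟩, hu⟩ := exists_family_factor hb hℨ _ (hgc v) hinv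
  let κ : ℨ ⟶ 𝔜 :=
    ⟨fun n => pullback.lift (r n) ((v : Hom _ _).app n) (hrq n), fun n => by
      refine pullback.hom_ext ?_ ?_
      · rw [Category.assoc, Category.assoc, pullback.lift_fst, pullback.lift_fst, pullback.lift_fst, hr]
      · rw [Category.assoc, Category.assoc, pullback.lift_snd, pullback.lift_snd_assoc, pullback.lift_snd]
        exact (v : Hom _ _).comm n⟩
  refine ⟨κ, Hom.ext (funext fun n => pullback.lift_snd _ _ _), fun m hm => ?_⟩
  have hmn : ∀ n, (m : Hom _ _).app n ≫ pullback.snd q (g n) = (v : Hom _ _).app n := fun n =>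
    congrArg (fun w : ℨ ⟶ 𝔛.restrictOpen h U => (w : Hom _ _).app n) hm
  have e := hu (fun n => (m : Hom _ _).app n ≫ pullback.fst q (g n))
    ⟨fun n => by rw [← Category.assoc, ← (m : Hom _ _).comm, Category.assoc, hfc],
      fun n => by rw [Category.assoc, pullback.condition, ← Category.assoc, hmn]⟩
  refine Hom.ext (funext fun n => pullback.hom_ext ?_ ?_)
  · exact (congrFun e n).trans (pullback.lift_fst _ _ _).symm
  · exact (hmn n).trans (pullback.lift_snd _ _ _).symm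

end FBlowLib
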