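import Groth.Agent.FBlowLib.NzdBlow

/-!
# The locus where a global section generates an invertible ideal; factorisation through opens
-/

set_option autoImplicit false
set_option linter.style.haveILetI false

universe u

open CategoryTheory CategoryTheory.Limits AlgebraicGeometry TopologicalSpace Opposite FSch FBlow

noncomputable section

namespace FBlowLib

variable {T : TopCat.{u}} {O : Sheaf (Opens.grothendieckTopology T) CommRingCat.{u}}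

theorem exists_genOpen (J : IdealSh O) {c : O.obj.obj (op ⊤)} (hc : c ∈ J.sect ⊤) :
    ∃ U : Opens T, (∀ y : T, y ∈ U ↔ ∃ W : Opens T, y ∈ W ∧ IsGen J W (res O le_top c)) ∧
      IsGen J U (res O le_top c) := by
  let U : Opens T := ⟨{y | ∃ W : Opens T, y ∈ W ∧ IsGen J W (res O le_top c)},
    isOpen_iff_forall_mem_open.2 fun y ⟨W, hy, hW⟩ => ⟨W, fun z hz => ⟨W, hz, hW⟩, W.2, hy⟩⟩
  refine ⟨U, fun y => Iff.rfl, isGen_of_le _ (J.map_mem le_top hc) (nzd_of_local _ fun y hy => ?_)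
    fun V s hs y hy hyU => ?_⟩
  · obtain ⟨W, hyW, hW⟩ := hy
    refine ⟨W, hyW, fun V i hV t ht => (hW.2 V hV).1 t ?_⟩
    rw [res, res, IdealSh.map_comp_apply] at ht ⊢
    exact ht
  · obtain ⟨W, hyW, hW⟩ := hyU
    obtain ⟨t, ht⟩ := (hW.2 (V ⊓ W) inf_le_right).2 _ (J.map_mem (inf_le_left : V ⊓ W ≤ V) hs)
    refine ⟨V ⊓ W, inf_le_left, fun z hz => ⟨W, hz.2, hW⟩, ⟨hy, hyW⟩, t, ?_⟩
    rw [res, res, IdealSh.map_comp_apply] at ht ⊢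
    exact ht

variable {𝔛 : Sys.{u}} (h : 𝔛.IsFormal)

theorem exists_oSec (V : (𝔛.X 0).Opens) (y : ∀ n, Γ(𝔛.X n, 𝔛.lvU h n V))
    (hy : ∀ n, (𝔛.levelMap h n).hom.app (op V) (y (n + 1)) = y n) :
    ∃ b : (𝔛.Osh h).obj.obj (op V), ∀ n, FModLib.oProj h V n b = y n := by
  let D : ℕᵒᵖ ⥤ CommRingCat.{u} := 𝔛.levelRing h ⋙ sheafToPresheaf _ _ ⋙ (evaluation _ _).obj (op V)
  have hst : ∀ n, D.map (homOfLE (Nat.le_succ n)).op = (𝔛.levelMap h n).hom.app (op V) := fun n =>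
    congrArg (fun a => a.hom.app (op V)) (Functor.ofOpSequence_map_homOfLE_succ (𝔛.levelMap h) n)
  have key : ∀ d n, D.map (homOfLE (Nat.le_add_right n d)).op (y (n + d)) = y n := by
    intro d
    induction d with
    | zero =>
      intro n
      exact congr($(D.map_id (op n)) (y n))
    | succ d ih =>
      intro n
      have e : D.map (homOfLE (Nat.le_add_right n (d + 1))).op =
          D.map (homOfLE (Nat.le_succ (n + d))).op ≫ D.map (homOfLE (Nat.le_add_right n d)).op :=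
        (congrArg D.map (Subsingleton.elim _ _)).trans (D.map_comp _ _)
      refine (congr($e (y (n + d + 1)))).trans ?_
      refine (congrArg (D.map (homOfLE (Nat.le_add_right n d)).op) ?_).trans (ih n)
      exact (congr($(hst (n + d)) (y (n + d + 1)))).trans (hy (n + d))
  let σ : ((D ⋙ forget CommRingCat.{u})).sections := ⟨fun n => y n.unop, fun {m n} f => by
    obtain ⟨d, hd⟩ := Nat.le.dest (leOfHom f.unop)
    obtain ⟨m⟩ := m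
    obtain ⟨n⟩ := n
    obtain rfl : n + d = m := hd
    exact (congrArg (fun p => D.map p (y (n + d))) (Subsingleton.elim f _)).trans (key d n)⟩
  let hc := isLimitOfPreserves (forget CommRingCat.{u}) (FModLib.oLimit h V)
  exact ⟨(Types.isLimitEquivSections hc).symm σ, fun n => Types.isLimitEquivSections_symm_apply hc σ (op n)⟩

theorem exists_lift_restrictOpen {ℨ : Sys.{u}} (hℨ : ℨ.IsFormal) (u : ℨ ⟶ 𝔛) (U : (𝔛.X 0).Opens)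
    (hu : ∀ y, (u : Hom ℨ 𝔛).app 0 y ∈ U) :
    ∃ v : ℨ ⟶ 𝔛.restrictOpen h U, v ≫ 𝔛.restrictOpenι h U = u := by
  have hr : ∀ n, Set.range ((u : Hom ℨ 𝔛).app n) ⊆ Set.range (𝔛.lvU h n U).ι := fun n => by
    rintro _ ⟨y, rfl⟩
    rw [Scheme.Opens.range_ι]
    exact (Hom.lvU_preimage u hℨ h n U).ge (hu _ : (u : Hom ℨ 𝔛).app 0 ((ℨ.gInv hℨ n) y) ∈ U)
  let v : ∀ n, ℨ.X n ⟶ (𝔛.lvU h n U : Scheme.{u}) := fun n => IsOpenImmersion.lift _ _ (hr n)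
  have hv : ∀ n, v n ≫ (𝔛.lvU h n U).ι = (u : Hom ℨ 𝔛).app n := fun n => IsOpenImmersion.lift_fac _ _ _
  refine ⟨⟨v, fun n => (cancel_mono (𝔛.lvU h (n + 1) U).ι).1 ?_⟩, Hom.ext (funext hv)⟩
  show (v n ≫ (𝔛.ι n).resLE _ _ _) ≫ _ = (ℨ.ι n ≫ v (n + 1)) ≫ _
  rw [Category.assoc, Scheme.Hom.resLE_comp_ι, ← Category.assoc, hv, Category.assoc, hv]
  exact (u : Hom ℨ 𝔛).comm n

theorem restrictOpenι_cancel {ℨ : Sys.{u}} {U : (𝔛.X 0).Opens} {v v' : ℨ ⟶ 𝔛.restrictOpen h U}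
    (e : v ≫ 𝔛.restrictOpenι h U = v' ≫ 𝔛.restrictOpenι h U) : v = v' :=
  Hom.ext (funext fun n => (cancel_mono (𝔛.lvU h n U).ι).1
    (congrArg (fun f : ℨ ⟶ 𝔛 => (f : Hom ℨ 𝔛).app n) e))

theorem app_isIso_of_inverse {ℨ 𝔚 : Sys.{u}} (v : ℨ ⟶ 𝔚) (r : 𝔚 ⟶ ℨ) (h₁ : v ≫ r = 𝟙 ℨ) (h₂ : r ≫ v = 𝟙 𝔚)
    (n : ℕ) : IsIso ((v : Hom ℨ 𝔚).app n) :=
  ⟨(r : Hom 𝔚 ℨ).app n, congrArg (fun f : ℨ ⟶ ℨ => (f : Hom ℨ ℨ).app n) h₁,
    congrArg (fun f : 𝔚 ⟶ 𝔚 => (f : Hom 𝔚 𝔚).app n) h₂⟩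

theorem isUnit_near_of_map {ℨ : Sys.{u}} (hℨ : ℨ.IsFormal) (u : ℨ ⟶ 𝔛) {W : (𝔛.X 0).Opens}
    (t : (𝔛.Osh h).obj.obj (op W)) (ht : IsUnit ((Hom.sharp u hℨ h).hom.app (op W) t))
    (y : ℨ.X 0) (hy : (u : Hom ℨ 𝔛).app 0 y ∈ W) :
    ∃ (V : (𝔛.X 0).Opens) (i : V ≤ W), (u : Hom ℨ 𝔛).app 0 y ∈ V ∧ IsUnit (res (𝔛.Osh h) i t) := by
  have h1 := ht.map (FModLib.oProj hℨ ((u : Hom ℨ 𝔛).app 0 ⁻¹ᵁ W) 0).hom
  have e := oProj_sharp u hℨ h 0 W t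
  have h2 : IsUnit (((u : Hom ℨ 𝔛).app 0).appLE (𝔛.lvU h 0 W) (ℨ.lvU hℨ 0 ((u : Hom ℨ 𝔛).app 0 ⁻¹ᵁ W))
      (Hom.lvU_preimage u hℨ h 0 W).ge (FModLib.oProj h W 0 t)) := e ▸ h1
  have hb := (ℨ.X 0).basicOpen_of_isUnit h2
  rw [Scheme.basicOpen_appLE] at hb
  have hy' : y ∈ ℨ.lvU hℨ 0 ((u : Hom ℨ 𝔛).app 0 ⁻¹ᵁ W) := (lvU_zero hℨ _).ge hy
  obtain ⟨V, i, -, hV, hu⟩ := exists_isUnit_res h t (x := (u : Hom ℨ 𝔛).app 0 y) (hb.ge hy').2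
  exact ⟨V, i, hV, hu⟩

end FBlowLib
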