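import Groth.Agent.FBlowLib.NzdBlow
import Groth.Agent.FBlowLib.GenLocus

/-!
# Admissible blowing-ups over opens; gluing of morphisms of formal systems
-/

set_option autoImplicit false
set_option linter.style.haveILetI false

universe u

open CategoryTheory CategoryTheory.Limits AlgebraicGeometry TopologicalSpace Opposite FSch FBlow

noncomputable section

namespace FBlowLib

/-- Membership of the image, level `0`, in the image of an open of the induced system. -/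
theorem restrictOpenι_mem {𝔛 : Sys.{u}} (h : 𝔛.IsFormal) (U : (𝔛.X 0).Opens) (y : (𝔛.restrictOpen h U).X 0) :
    (𝔛.restrictOpenι h U : Hom _ _).app 0 y ∈ U := (lvU_zero h U).le y.2

theorem sharp_id {𝔛 : Sys.{u}} (h : 𝔛.IsFormal) (U : (𝔛.X 0).Opens) (a : (𝔛.Osh h).obj.obj (op U)) :
    (Hom.sharp (𝟙 𝔛) h h).hom.app (op U) a = a := by
  refine FModLib.oSec_ext h U fun n => (oProj_sharp (𝟙 𝔛) h h n U a).trans ?_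
  show (𝟙 (𝔛.X n) : _ ⟶ _).appLE _ _ _ _ = _
  simp [Scheme.Hom.appLE]
  exact IdealSh.map_id_apply (O := (𝔛.X n).sheaf) le_rfl _

theorem isInvertible_idealMap_restrictOpenι {𝔛 : Sys.{u}} (h : 𝔛.IsFormal) (V : (𝔛.X 0).Opens)
    (hV : (𝔛.restrictOpen h V).IsFormal) {J : IdealSh (𝔛.Osh h)} (hJ : J.IsInvertible) :
    (idealMap (𝔛.restrictOpenι h V) hV h J).IsInvertible := by
  refine (isInvertible_iff _).2 fun y => ?_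
  obtain ⟨U, hyU, e, he⟩ := (isInvertible_iff _).1 hJ ((𝔛.restrictOpenι h V : Hom _ _).app 0 y)
  exact ⟨(𝔛.restrictOpenι h V : Hom _ _).app 0 ⁻¹ᵁ (U ⊓ V), ⟨hyU, restrictOpenι_mem h V y⟩, _,
    isGen_restrictOpenι_of_le h hV inf_le_right (he.mono inf_le_left)⟩

theorem isGen_of_inverse {𝔜 ℨ : Sys.{u}} (h : 𝔜.IsFormal) (hℨ : ℨ.IsFormal) (r : ℨ ⟶ 𝔜) (v : 𝔜 ⟶ ℨ)
    (h₁ : r ≫ v = 𝟙 ℨ) (h₂ : v ≫ r = 𝟙 𝔜) {K : IdealSh (𝔜.Osh h)} {U : (𝔜.X 0).Opens}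
    {e : (𝔜.Osh h).obj.obj (op U)} (he : IsGen K U e) :
    IsGen (idealMap r hℨ h K) ((r : Hom ℨ 𝔜).app 0 ⁻¹ᵁ U) ((Hom.sharp r hℨ h).hom.app (op U) e) := by
  have hle : idealMap r hℨ h K ≤
      divSh (U := (r : Hom ℨ 𝔜).app 0 ⁻¹ᵁ U) ((Hom.sharp r hℨ h).hom.app (op U) e) :=
    ideal_le_trans (map_spanSh_le {e} _ _ (le_spanSh_of_isGen he)) (spanSh_le_divSh _ _ (by
      rintro _ ⟨a, rfl, rfl⟩
      exact ⟨1, (one_mul _).symm⟩))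
  refine isGen_of_le _ (img_mem_map _ _ K he.1) (fun V i t ht => ?_) hle
  let T : (𝔜.X 0).Opens := (v : Hom 𝔜 ℨ).app 0 ⁻¹ᵁ V
  have hT : T ≤ U := fun y hy => by
    have e0 : (r : Hom ℨ 𝔜).app 0 ((v : Hom 𝔜 ℨ).app 0 y) = y :=
      congr($(congrArg (fun f : 𝔜 ⟶ 𝔜 => (f : Hom 𝔜 𝔜).app 0) h₂) y)
    exact e0 ▸ (i hy : (v : Hom 𝔜 ℨ).app 0 y ∈ (r : Hom ℨ 𝔜).app 0 ⁻¹ᵁ U)
  let σ : (ℨ.Osh hℨ).obj.obj (op V) →+* (𝔜.Osh h).obj.obj (op T) := ((Hom.sharp v h hℨ).hom.app (op V)).hom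
  have hσe : σ (res _ i ((Hom.sharp r hℨ h).hom.app (op U) e)) = res _ hT e := by
    refine (res_sharp v h hℨ i _).trans ?_
    have e1 := sharp_comp v r h hℨ h U e
    have e2 : ∀ (f : 𝔜 ⟶ 𝔜), f = 𝟙 𝔜 → ∀ (j : T ≤ (f : Hom 𝔜 𝔜).app 0 ⁻¹ᵁ U),
        res (𝔜.Osh h) j ((Hom.sharp f h h).hom.app (op U) e) = res _ hT e := by
      rintro f rfl j
      rw [sharp_id]
      rfl
    refine Eq.trans ?_ (e2 _ h₂ ((Opens.map ((v : Hom 𝔜 ℨ).app 0).base).monotone i))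
    exact congrArg _ e1.symm
  have hz : σ t = 0 := (he.2 T hT).1 _ (by
    have := congrArg σ ht
    rw [map_mul, map_zero, hσe] at this
    exact this)
  have hσt := congrArg ((Hom.sharp r hℨ h).hom.app (op T)).hom hz
  rw [map_zero] at hσt
  have e3 : ∀ (f : ℨ ⟶ ℨ), f = 𝟙 ℨ → ∀ (j : V ≤ (f : Hom ℨ ℨ).app 0 ⁻¹ᵁ V),
      res (ℨ.Osh hℨ) j ((Hom.sharp f hℨ hℨ).hom.app (op V) t) = t := by
    rintro f rfl j
    rw [sharp_id]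
    exact IdealSh.map_id_apply (O := ℨ.Osh hℨ) _ _
  have hV : V ≤ (r ≫ v : Hom ℨ ℨ).app 0 ⁻¹ᵁ V := by
    rw [show (r ≫ v : ℨ ⟶ ℨ) = 𝟙 ℨ from h₁]
    exact le_rfl
  rw [← e3 _ h₁ hV, sharp_comp r v hℨ h hℨ V t]
  exact (congrArg (res (ℨ.Osh hℨ) hV) hσt).trans (map_zero _)

theorem isInvertible_of_inverse {𝔜 ℨ : Sys.{u}} (h : 𝔜.IsFormal) (hℨ : ℨ.IsFormal) (r : ℨ ⟶ 𝔜) (v : 𝔜 ⟶ ℨ)
    (h₁ : r ≫ v = 𝟙 ℨ) (h₂ : v ≫ r = 𝟙 𝔜) {K : IdealSh (𝔜.Osh h)} (hK : K.IsInvertible) :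
    (idealMap r hℨ h K).IsInvertible := by
  refine (isInvertible_iff _).2 fun z => ?_
  obtain ⟨U, hU, e, he⟩ := (isInvertible_iff _).1 hK ((r : Hom ℨ 𝔜).app 0 z)
  exact ⟨_, hU, _, isGen_of_inverse h hℨ r v h₁ h₂ he⟩

theorem hom_ext_sys {ℨ 𝔜 : Sys.{u}} (hℨ : ℨ.IsFormal) {k k' : ℨ ⟶ 𝔜}
    (H : ∀ y : ℨ.X 0, ∃ V : (ℨ.X 0).Opens, y ∈ V ∧ ℨ.restrictOpenι hℨ V ≫ k = ℨ.restrictOpenι hℨ V ≫ k') :
    k = k' := by
  choose V hV e using H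
  refine Hom.ext (funext fun n => Scheme.Cover.hom_ext (Scheme.Cover.mkOfCovers (ℨ.X 0)
    (fun y => (ℨ.lvU hℨ n (V y) : Scheme.{u})) (fun y => (ℨ.lvU hℨ n (V y)).ι)
    (fun z => ⟨(ℨ.gInv hℨ n) z, (Scheme.Opens.range_ι (ℨ.lvU hℨ n (V ((ℨ.gInv hℨ n) z)))).ge (hV _)⟩) (fun _ => inferInstance) :
    (ℨ.X n).OpenCover) _ _ fun (y : ℨ.X 0) => ?_)
  exact congrArg (fun f : ℨ.restrictOpen hℨ (V y) ⟶ 𝔜 => (f : Hom _ _).app n) (e y)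

theorem exists_glue_sys {ℨ 𝔜 : Sys.{u}} (hℨ : ℨ.IsFormal) (V : ℨ.X 0 → (ℨ.X 0).Opens) (hV : ∀ y, y ∈ V y)
    (k : ∀ y, ℨ.restrictOpen hℨ (V y) ⟶ 𝔜)
    (hk : ∀ (y y' : ℨ.X 0) (v : ℨ.restrictOpen hℨ (V y ⊓ V y') ⟶ ℨ.restrictOpen hℨ (V y))
      (v' : ℨ.restrictOpen hℨ (V y ⊓ V y') ⟶ ℨ.restrictOpen hℨ (V y')),
      v ≫ ℨ.restrictOpenι hℨ (V y) = ℨ.restrictOpenι hℨ (V y ⊓ V y') →
      v' ≫ ℨ.restrictOpenι hℨ (V y') = ℨ.restrictOpenι hℨ (V y ⊓ V y') → v ≫ k y = v' ≫ k y') :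
    ∃ K : ℨ ⟶ 𝔜, ∀ y, ℨ.restrictOpenι hℨ (V y) ≫ K = k y := by
  let 𝒰 : ∀ n, (ℨ.X n).OpenCover := fun n => Scheme.Cover.mkOfCovers (ℨ.X 0)
    (fun y => (ℨ.lvU hℨ n (V y) : Scheme.{u})) (fun y => (ℨ.lvU hℨ n (V y)).ι)
    (fun z => ⟨(ℨ.gInv hℨ n) z, (Scheme.Opens.range_ι (ℨ.lvU hℨ n (V ((ℨ.gInv hℨ n) z)))).ge (hV _)⟩) (fun _ => inferInstance)
  have hagree : ∀ (n : ℕ) (y y' : ℨ.X 0),
      pullback.fst (ℨ.lvU hℨ n (V y)).ι (ℨ.lvU hℨ n (V y')).ι ≫ (k y : Hom _ _).app n =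
      pullback.snd (ℨ.lvU hℨ n (V y)).ι (ℨ.lvU hℨ n (V y')).ι ≫ (k y' : Hom _ _).app n := fun n y y' => by
    let W := V y ⊓ V y'
    have hW := isFormal_restrictOpen hℨ W
    obtain ⟨v, hv⟩ := exists_lift_restrictOpen hℨ hW (ℨ.restrictOpenι hℨ W) (V y)
      fun z => (restrictOpenι_mem hℨ W z).1
    obtain ⟨v', hv'⟩ := exists_lift_restrictOpen hℨ hW (ℨ.restrictOpenι hℨ W) (V y')
      fun z => (restrictOpenι_mem hℨ W z).2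
    have e := congrArg (fun f : ℨ.restrictOpen hℨ W ⟶ 𝔜 => (f : Hom _ _).app n)
      (hk y y' v v' hv hv')
    have hvn : (v : Hom _ _).app n ≫ (ℨ.lvU hℨ n (V y)).ι = (ℨ.lvU hℨ n W).ι :=
      congrArg (fun u : ℨ.restrictOpen hℨ W ⟶ ℨ => (u : Hom _ _).app n) hv
    have hvn' : (v' : Hom _ _).app n ≫ (ℨ.lvU hℨ n (V y')).ι = (ℨ.lvU hℨ n W).ι :=
      congrArg (fun u : ℨ.restrictOpen hℨ W ⟶ ℨ => (u : Hom _ _).app n) hv'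
    have hP : Set.range (pullback.fst (ℨ.lvU hℨ n (V y)).ι (ℨ.lvU hℨ n (V y')).ι ≫ (ℨ.lvU hℨ n (V y)).ι) ⊆
        Set.range (ℨ.lvU hℨ n W).ι := by
      rintro _ ⟨z, rfl⟩
      rw [Scheme.Opens.range_ι]
      refine ⟨(pullback.fst (ℨ.lvU hℨ n (V y)).ι (ℨ.lvU hℨ n (V y')).ι z).2, ?_⟩
      rw [pullback.condition]
      exact (pullback.snd (ℨ.lvU hℨ n (V y)).ι (ℨ.lvU hℨ n (V y')).ι z).2
    have e1 : pullback.fst (ℨ.lvU hℨ n (V y)).ι (ℨ.lvU hℨ n (V y')).ι =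
        IsOpenImmersion.lift _ _ hP ≫ (v : Hom _ _).app n := (cancel_mono (ℨ.lvU hℨ n (V y)).ι).1
      ((IsOpenImmersion.lift_fac _ _ hP).symm.trans ((congrArg (_ ≫ ·) hvn.symm).trans (Category.assoc _ _ _).symm))
    have e2 : pullback.snd (ℨ.lvU hℨ n (V y)).ι (ℨ.lvU hℨ n (V y')).ι =
        IsOpenImmersion.lift _ _ hP ≫ (v' : Hom _ _).app n := (cancel_mono (ℨ.lvU hℨ n (V y')).ι).1
      (pullback.condition.symm.trans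
        ((IsOpenImmersion.lift_fac _ _ hP).symm.trans ((congrArg (_ ≫ ·) hvn'.symm).trans (Category.assoc _ _ _).symm)))
    refine (congrArg (· ≫ (k y : Hom _ _).app n) e1).trans (((Category.assoc _ _ _).trans (congrArg (_ ≫ ·) e)).trans
      (((Category.assoc _ _ _).symm.trans (congrArg (· ≫ (k y' : Hom _ _).app n) e2.symm))))
  let K : ℨ ⟶ 𝔜 := ⟨fun n => (𝒰 n).glueMorphisms (fun y => (k y : Hom _ _).app n) (hagree n), fun n => by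
    refine (𝒰 n).hom_ext _ _ fun (y : ℨ.X 0) => ?_
    rw [← Category.assoc, Scheme.Cover.ι_glueMorphisms]
    refine ((k y : Hom _ _).comm n).trans ?_
    refine Eq.trans ?_ ((Category.assoc _ _ _).trans (rfl : _ = _))
    refine (congrArg (_ ≫ ·) (Scheme.Cover.ι_glueMorphisms (𝒰 (n + 1)) (fun y => (k y : Hom _ _).app (n + 1)) (hagree (n + 1)) y).symm).trans ?_
    exact ((Category.assoc _ _ _).symm.trans (congrArg (· ≫ _) ((ℨ.restrictOpenι hℨ (V y) : Hom _ _).comm n).symm))⟩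
  exact ⟨K, fun y => Hom.ext (funext fun n => Scheme.Cover.ι_glueMorphisms (𝒰 n) _ (hagree n) y)⟩

variable {𝔛 : Sys.{u}} (h : 𝔛.IsFormal) (J : IdealSh (𝔛.Osh h))

/-- An admissible blowing-up of `J` over an open `U`, as a morphism to the whole system. -/
structure IsBlowUpOver {𝔜 : Sys.{u}} (b : 𝔜 ⟶ 𝔛) (h𝔜 : 𝔜.IsFormal) (U : (𝔛.X 0).Opens) : Prop where
  adic : IsAdicHom b
  inv : (idealMap b h𝔜 h J).IsInvertible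
  mem : ∀ y, (b : Hom 𝔜 𝔛).app 0 y ∈ U
  lift : ∀ (ℨ : Sys.{u}) (hℨ : ℨ.IsFormal) (g : ℨ ⟶ 𝔛), IsAdicHom g → (idealMap g hℨ h J).IsInvertible →
    (∀ z, (g : Hom ℨ 𝔛).app 0 z ∈ U) → ∃! k : ℨ ⟶ 𝔜, k ≫ b = g

variable {h J}

theorem isBlowUpOver_comp {U : (𝔛.X 0).Opens} {𝔜 : Sys.{u}} {h𝔜 : 𝔜.IsFormal}
    {b : 𝔜 ⟶ 𝔛.restrictOpen h U} (hb : IsAdmBlowUp b h𝔜 (isFormal_restrictOpen h U)
      (idealMap (𝔛.restrictOpenι h U) (isFormal_restrictOpen h U) h J)) :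
    IsBlowUpOver h J (b ≫ 𝔛.restrictOpenι h U) h𝔜 U := by
  refine ⟨isAdicHom_comp hb.1 (isAdicHom_restrictOpenι h U), ?_, fun y => restrictOpenι_mem h U _,
    fun ℨ hℨ g hg hinv hmem => ?_⟩
  · rw [← idealMap_idealMap b (𝔛.restrictOpenι h U) h𝔜 (isFormal_restrictOpen h U) h J]
    exact hb.2.1
  obtain ⟨g', rfl⟩ := exists_lift_restrictOpen h hℨ g U hmem
  rw [← idealMap_idealMap g' (𝔛.restrictOpenι h U) hℨ (isFormal_restrictOpen h U) h J] at hinv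
  obtain ⟨k, hk, hu⟩ := hb.2.2 ℨ hℨ g' (isAdicHom_of_comp hg (isAdicHom_restrictOpenι h U)) hinv
  refine ⟨k, ?_, fun k' hk' => hu k' (restrictOpenι_cancel h ?_)⟩
  · show k ≫ b ≫ _ = _
    rw [← Category.assoc, hk]
  · rw [Category.assoc]
    exact hk'

variable {U : (𝔛.X 0).Opens} {𝔜 : Sys.{u}} {h𝔜 : 𝔜.IsFormal} {b : 𝔜 ⟶ 𝔛}

theorem IsBlowUpOver.hom_ext (hb : IsBlowUpOver h J b h𝔜 U) {ℨ : Sys.{u}} (hℨ : ℨ.IsFormal) {k k' : ℨ ⟶ 𝔜}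
    {g : ℨ ⟶ 𝔛} (hg : IsAdicHom g) (hinv : (idealMap g hℨ h J).IsInvertible)
    (e : k ≫ b = g) (e' : k' ≫ b = g) : k = k' :=
  (hb.lift ℨ hℨ g hg hinv (fun z => e ▸ hb.mem _)).unique e e'

theorem IsBlowUpOver.restrict (hb : IsBlowUpOver h J b h𝔜 U) {V : (𝔛.X 0).Opens} (hV : V ≤ U) :
    IsBlowUpOver h J (𝔜.restrictOpenι h𝔜 ((b : Hom 𝔜 𝔛).app 0 ⁻¹ᵁ V) ≫ b)
      (isFormal_restrictOpen h𝔜 ((b : Hom 𝔜 𝔛).app 0 ⁻¹ᵁ V)) V := by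
  refine ⟨isAdicHom_comp (isAdicHom_restrictOpenι h𝔜 _) hb.adic, ?_,
    fun y => restrictOpenι_mem h𝔜 _ y, fun ℨ hℨ g hg hinv hmem => ?_⟩
  · rw [← idealMap_idealMap (𝔜.restrictOpenι h𝔜 _) b (isFormal_restrictOpen h𝔜 _) h𝔜 h J]
    exact isInvertible_idealMap_restrictOpenι h𝔜 _ _ hb.inv
  obtain ⟨k, rfl, hu⟩ := hb.lift ℨ hℨ g hg hinv (fun z => hV (hmem z))
  obtain ⟨k', rfl⟩ := exists_lift_restrictOpen h𝔜 hℨ k ((b : Hom 𝔜 𝔛).app 0 ⁻¹ᵁ V) hmem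
  refine ⟨k', (Category.assoc _ _ _).symm, fun k'' hk'' => restrictOpenι_cancel h𝔜 (hu _ ?_)⟩
  show (k'' ≫ _) ≫ b = _
  rw [Category.assoc]
  exact hk''

/-- Blowing-ups over nested opens: the transition map is an open immersion onto the preimage. -/
theorem IsBlowUpOver.exists_trans (hb : IsBlowUpOver h J b h𝔜 U) {V : (𝔛.X 0).Opens} (hV : V ≤ U)
    {𝔜' : Sys.{u}} {h𝔜' : 𝔜'.IsFormal} {b' : 𝔜' ⟶ 𝔛} (hb' : IsBlowUpOver h J b' h𝔜' V) :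
    ∃ t : 𝔜' ⟶ 𝔜, t ≫ b = b' ∧ ∀ n, IsOpenImmersion ((t : Hom 𝔜' 𝔜).app n) ∧
      Set.range ((t : Hom 𝔜' 𝔜).app n) = (b : Hom 𝔜 𝔛).app n ⁻¹' (𝔛.lvU h n V : Set (𝔛.X n)) := by
  let W := (b : Hom 𝔜 𝔛).app 0 ⁻¹ᵁ V
  have hW := hb.restrict hV
  obtain ⟨e, he, -⟩ := hW.lift 𝔜' h𝔜' b' hb'.adic hb'.inv hb'.mem
  obtain ⟨e', he', -⟩ := hb'.lift _ (isFormal_restrictOpen h𝔜 W) _ hW.adic hW.inv hW.mem
  have h1 : e ≫ e' = 𝟙 𝔜' := hb'.hom_ext h𝔜' hb'.adic hb'.inv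
    (by rw [Category.assoc, he', he]) (Category.id_comp _)
  have h2 : e' ≫ e = 𝟙 _ := hW.hom_ext _ hW.adic hW.inv
    (by rw [Category.assoc, he, he']) (Category.id_comp _)
  refine ⟨e ≫ 𝔜.restrictOpenι h𝔜 W, by rw [Category.assoc]; exact he, fun n => ?_⟩
  have hiso := app_isIso_of_inverse e e' h1 h2 n
  have : IsOpenImmersion ((𝔜.restrictOpenι h𝔜 W : Hom _ _).app n) :=
    inferInstanceAs (IsOpenImmersion (𝔜.lvU h𝔜 n W).ι)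
  refine ⟨inferInstanceAs (IsOpenImmersion ((e : Hom _ _).app n ≫ (𝔜.restrictOpenι h𝔜 W : Hom _ _).app n)), ?_⟩
  show Set.range ((e : Hom _ _).app n ≫ (𝔜.lvU h𝔜 n W).ι) = _
  rw [Scheme.Hom.comp_base, TopCat.coe_comp, Set.range_comp,
    Set.range_eq_univ.2 ((e : Hom _ _).app n).surjective, Set.image_univ]
  refine (Scheme.Opens.range_ι _).trans ?_
  exact congrArg SetLike.coe (Hom.lvU_preimage b h𝔜 h n V).symm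

end FBlowLib
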