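import Groth.Agent.FBlowLib.Retract

/-!
# Non-zero-divisors dividing a power of the ideal of definition pull back to non-zero-divisors on a blowing-up
-/

set_option autoImplicit false
set_option linter.style.haveILetI false

universe u

open CategoryTheory CategoryTheory.Limits AlgebraicGeometry TopologicalSpace Opposite FSch FBlow

noncomputable section

namespace FBlowLib

/-- Inverse image along the inclusion of an open keeps a generator. -/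
theorem isGen_restrictOpenι_of_le {𝔛 : Sys.{u}} (h : 𝔛.IsFormal) {W : (𝔛.X 0).Opens}
    (hW : (𝔛.restrictOpen h W).IsFormal) {J : IdealSh (𝔛.Osh h)} {U : (𝔛.X 0).Opens} (hUW : U ≤ W)
    {e : (𝔛.Osh h).obj.obj (op U)} (he : IsGen J U e) :
    IsGen (idealMap (𝔛.restrictOpenι h W) hW h J) ((𝔛.restrictOpenι h W : Hom _ _).app 0 ⁻¹ᵁ U)
      ((Hom.sharp (𝔛.restrictOpenι h W) hW h).hom.app (op U) e) := by
  have hle : idealMap (𝔛.restrictOpenι h W) hW h J ≤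
      divSh (U := (𝔛.restrictOpenι h W : Hom _ _).app 0 ⁻¹ᵁ U) ((Hom.sharp (𝔛.restrictOpenι h W) hW h).hom.app (op U) e) :=
    ideal_le_trans (map_spanSh_le {e} _ _ (le_spanSh_of_isGen he)) (spanSh_le_divSh _ _ (by
      rintro _ ⟨a, rfl, rfl⟩
      exact ⟨1, (one_mul _).symm⟩))
  refine isGen_of_le _ (img_mem_map _ _ J he.1) (nzd_of_local _ fun y hy => ?_) hle
  refine ⟨⊤, trivial, fun V i _ t ht => ?_⟩
  let ι₀ := (𝔛.restrictOpenι h W : Hom (𝔛.restrictOpen h W) 𝔛).app 0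
  have : IsOpenImmersion ι₀ := inferInstanceAs (IsOpenImmersion (𝔛.lvU h 0 W).ι)
  refine TopCat.Sheaf.eq_of_locally_eq' ((𝔛.restrictOpen h W).Osh hW)
    (fun Z : {Z : (𝔛.X 0).Opens // IsAffineOpen Z ∧ Z ≤ U ∧ ι₀ ⁻¹ᵁ Z ≤ V} => ι₀ ⁻¹ᵁ Z.1) V
    (fun Z => homOfLE Z.2.2.2) (fun z hz => ?_) t 0 fun Z => ?_
  · obtain ⟨Z, hZ, hzZ, hZle⟩ := Opens.isBasis_iff_nbhd.mp (𝔛.X 0).isBasis_affineOpens
      (show ι₀ z ∈ U ⊓ ι₀ ''ᵁ V from ⟨i hz, ⟨z, hz, rfl⟩⟩)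
    refine Opens.mem_iSup.mpr ⟨⟨Z, hZ, hZle.trans inf_le_left, fun w hw => ?_⟩, hzZ⟩
    obtain ⟨v, hv, hvw⟩ := (hZle hw).2
    exact ι₀.isOpenEmbedding.injective hvw ▸ hv
  · rw [map_zero]
    obtain ⟨s, hs⟩ := surjective_sharp_restrictOpenι h W hW (Z.2.2.1.trans hUW) Z.2.1
      (res ((𝔛.restrictOpen h W).Osh hW) Z.2.2.2 t)
    refine hs.symm.trans ((congrArg _ ((he.2 Z.1 Z.2.2.1).1 s
      (injective_sharp_restrictOpenι h W hW (Z.2.2.1.trans hUW) ?_))).trans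
        (map_zero ((Hom.sharp (𝔛.restrictOpenι h W) hW h).hom.app (op Z.1)).hom))
    refine (map_mul ((Hom.sharp (𝔛.restrictOpenι h W) hW h).hom.app (op Z.1)).hom _ _).trans ?_
    have := congrArg (((𝔛.restrictOpen h W).Osh hW).obj.map (homOfLE Z.2.2.2).op) ht
    rw [map_mul, map_zero, res, IdealSh.map_comp_apply] at this
    refine Eq.trans ?_ this
    refine congrArg₂ (fun a b : ((𝔛.restrictOpen h W).Osh hW).obj.obj (op (ι₀ ⁻¹ᵁ Z.1)) => a * b) hs ?_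
    exact res_sharp _ hW h Z.2.2.1 e

/-- Inverse image along the inclusion of an open keeps a generator. -/
theorem isGen_restrictOpenι {𝔛 : Sys.{u}} (h : 𝔛.IsFormal) {W : (𝔛.X 0).Opens}
    (hW : (𝔛.restrictOpen h W).IsFormal) {J : IdealSh (𝔛.Osh h)} {e : (𝔛.Osh h).obj.obj (op W)}
    (he : IsGen J W e) :
    IsGen (idealMap (𝔛.restrictOpenι h W) hW h J) ((𝔛.restrictOpenι h W : Hom _ _).app 0 ⁻¹ᵁ W)
      ((Hom.sharp (𝔛.restrictOpenι h W) hW h).hom.app (op W) e) :=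
  isGen_restrictOpenι_of_le h hW le_rfl he

variable {R : Type u} [CommRing R] {I : Ideal R} {𝔛 𝔛' 𝔛'' : Sys.{u}} (h : 𝔛.IsFormal) (h' : 𝔛'.IsFormal)
  (h'' : 𝔛''.IsFormal) (p : 𝔛 ⟶ spf R I) (b : 𝔛' ⟶ 𝔛) (b' : 𝔛'' ⟶ 𝔛')

theorem pull_sharp (W : (𝔛.X 0).Opens) (r : R) :
    (Hom.sharp b h' h).hom.app (op W) (pull h (toBase I p) (toBase_comm I p) W r) =
      pull h' (toBase I (b ≫ p)) (toBase_comm I (b ≫ p)) ((b : Hom 𝔛' 𝔛).app 0 ⁻¹ᵁ W) r :=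
  sharp_pull b h' h _ (toBase_comm I p) _ (toBase_comm I (b ≫ p)) (toSpecOf_comp b p) W r

theorem exists_genSet (hp : IsAdicHom p) (hI : I.FG) {K : IdealSh (𝔛.Osh h)} (hK : IsCohOpen 𝔛 h K)
    (U : (𝔛'.X 0).Opens) (x : 𝔛'.X 0) (hx : x ∈ U) :
    ∃ (U₂ : (𝔛'.X 0).Opens) (S : Set ((𝔛'.Osh h').obj.obj (op U₂))) (N : ℕ), IsAffineOpen U₂ ∧ x ∈ U₂ ∧ U₂ ≤ U ∧
      idealMap b h' h K ≤ spanSh S ∧ (∀ a ∈ S, a ∈ (idealMap b h' h K).sect U₂) ∧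
      ∀ r ∈ I ^ (N + 1), pull h' (toBase I (b ≫ p)) (toBase_comm I (b ≫ p)) U₂ r ∈ S := by
  obtain ⟨U₀, hU₀, hxU₀, N, hN₀, hgen₀⟩ :=
    exists_span_of_isCohOpen h p hp hI hK ((b : Hom 𝔛' 𝔛).app 0 x)
  obtain ⟨U₂, hU₂, hxU₂, hU₂le⟩ := Opens.isBasis_iff_nbhd.mp (𝔛'.X 0).isBasis_affineOpens
    (show x ∈ U ⊓ (b : Hom 𝔛' 𝔛).app 0 ⁻¹ᵁ U₀ from ⟨hx, hxU₀⟩)
  have hU₂U₀ : U₂ ≤ (b : Hom 𝔛' 𝔛).app 0 ⁻¹ᵁ U₀ := hU₂le.trans inf_le_right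
  let σ : (𝔛.Osh h).obj.obj (op U₀) → (𝔛'.Osh h').obj.obj (op U₂) := fun k =>
    res _ hU₂U₀ ((Hom.sharp b h' h).hom.app (op U₀) k)
  refine ⟨U₂, σ '' K.sect U₀, N, hU₂, hxU₂, hU₂le.trans inf_le_left, ?_, ?_, fun r hr => ?_⟩
  · refine (map_le_iff _ _).2 fun V a ha y hy hyU => ?_
    obtain ⟨W₀, i₀, j₀, hyW, hspan⟩ :=
      hgen₀ (V ⊓ U₀) inf_le_right _ (K.map_mem (inf_le_left : V ⊓ U₀ ≤ V) ha)
        ((b : Hom 𝔛' 𝔛).app 0 y) ⟨hy, hU₂U₀ hyU⟩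
    let W := U₂ ⊓ (b : Hom 𝔛' 𝔛).app 0 ⁻¹ᵁ W₀
    refine ⟨W, inf_le_right.trans ((Opens.map _).monotone (i₀.trans inf_le_left)), inf_le_left, ⟨hyU, hyW⟩, ?_⟩
    have e := Ideal.mem_map_of_mem ((Hom.sharp b h' h).hom.app (op W₀)).hom hspan
    rw [Ideal.map_span] at e
    replace e := Ideal.mem_map_of_mem ((𝔛'.Osh h').obj.map (homOfLE (inf_le_right : W ≤ (b : Hom 𝔛' 𝔛).app 0 ⁻¹ᵁ W₀)).op).hom e
    erw [Ideal.map_span] at e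
    rw [res, IdealSh.map_comp_apply] at e
    have e1 := res_sharp b h' h (i₀.trans inf_le_left : W₀ ≤ V) a
    have e2 := congrArg ((𝔛'.Osh h').obj.map (homOfLE (inf_le_right : W ≤ (b : Hom 𝔛' 𝔛).app 0 ⁻¹ᵁ W₀)).op) e1
    dsimp only [res] at e2
    erw [IdealSh.map_comp_apply] at e2
    refine (e2 ▸ (Ideal.span_mono ?_ e :) :)
    rintro _ ⟨_, ⟨_, ⟨k, hk, rfl⟩, rfl⟩, rfl⟩
    refine ⟨σ k, ⟨k, hk, rfl⟩, ?_⟩
    refine (IdealSh.map_comp_apply (O := 𝔛'.Osh h') _ _ _).trans ?_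
    refine Eq.symm ((congrArg _ (res_sharp b h' h j₀ k)).trans ?_)
    exact IdealSh.map_comp_apply (O := 𝔛'.Osh h') _ _ _
  · rintro _ ⟨k, hk, rfl⟩
    exact (idealMap b h' h K).map_mem hU₂U₀ (img_mem_map _ _ K hk)
  · refine ⟨_, hN₀ U₀ le_rfl r hr, ?_⟩
    show res _ hU₂U₀ ((Hom.sharp b h' h).hom.app (op U₀) (pull h (toBase I p) (toBase_comm I p) U₀ r)) = _
    rw [pull_sharp h h' p b U₀ r]
    exact res_pull h' _ _ hU₂U₀ r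

section Chart

variable {U : (𝔛'.X 0).Opens} (S : Set ((𝔛'.Osh h').obj.obj (op U))) {K' : IdealSh (𝔛'.Osh h')}
  {C : Type u} [CommRing C] (φ : (𝔛'.Osh h').obj.obj (op U) →+* C) {J : Ideal C}

/-- The ideal becomes invertible on the chart. -/
theorem isInvertible_chart (hC : (spf C J).IsFormal) (z : spf C J ⟶ 𝔛')
    (hz : ⊤ ≤ (z : Hom (spf C J) 𝔛').app 0 ⁻¹ᵁ U)
    (hzsec : ∀ a, secMap h' hC z hz a = pull hC (toSpecOf (𝟙 (spf C J))) (toSpecOf_comm _) ⊤ (φ a))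
    (hKS : K' ≤ spanSh S) (k₀ : (𝔛'.Osh h').obj.obj (op U)) (hk₀ : k₀ ∈ K'.sect U)
    (hS : ∀ a ∈ S, φ a ∈ Ideal.span {φ k₀}) (hc : ∀ t, t * φ k₀ = 0 → t = 0) {N : ℕ}
    (hN : J ^ N ≤ Ideal.span {φ k₀}) :
    (idealMap z hC h' K').IsInvertible := by
  rw [isInvertible_iff]
  refine fun y => ⟨⊤, trivial, pull hC (toSpecOf (𝟙 (spf C J))) (toSpecOf_comm _) ⊤ (φ k₀),
    isGen_of_le _ ?_ (fun V i t ht => ?_) ?_⟩
  · rw [← hzsec]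
    exact (idealMap z hC h' K').map_mem hz (img_mem_map _ _ K' hk₀)
  · rw [res_pull] at ht
    exact pull_nzd hC _ (toSpecOf_comm _) (isSpfLike_id C J) hc hN V t ht
  · refine ideal_le_trans (map_spanSh_le S ((z : Hom (spf C J) 𝔛').app 0).base (Hom.sharp z hC h') hKS) ?_
    intro V s hs v hv _
    obtain ⟨W, i, j, hvW, hspan⟩ := hs v hv (hz (Set.mem_univ v))
    refine ⟨W, i, le_top, hvW, ?_⟩
    have hle : Ideal.span (res ((spf C J).Osh hC) j '' (img ((z : Hom (spf C J) 𝔛').app 0).base (Hom.sharp z hC h') U '' S)) ≤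
        Ideal.span {pull hC (toSpecOf (𝟙 (spf C J))) (toSpecOf_comm _) W (φ k₀)} := by
      rw [Ideal.span_le]
      rintro _ ⟨_, ⟨a, ha, rfl⟩, rfl⟩
      obtain ⟨d, hd⟩ := Ideal.mem_span_singleton'.1 (hS a ha)
      refine Ideal.mem_span_singleton'.2 ⟨pull hC (toSpecOf (𝟙 (spf C J))) (toSpecOf_comm _) W d, ?_⟩
      rw [← map_mul, hd, ← res_pull hC _ (toSpecOf_comm _) (le_top : W ≤ ⊤), ← hzsec a]
      exact IdealSh.map_comp_apply (O := (spf C J).Osh hC) _ _ _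
    obtain ⟨t, ht⟩ := Ideal.mem_span_singleton'.1 (hle hspan)
    exact ⟨t, by rw [res_pull]; exact ht.symm⟩

end Chart

section Retraction

variable {U : (𝔛'.X 0).Opens} (S : Set ((𝔛'.Osh h').obj.obj (op U))) {K' : IdealSh (𝔛'.Osh h')}
  (p' : 𝔛' ⟶ spf R I) (k₀ : (𝔛'.Osh h').obj.obj (op U)) {W : (𝔛''.X 0).Opens}
  (hW : (𝔛''.restrictOpen h'' W).IsFormal)
  (htop : ⊤ ≤ (𝔛''.restrictOpenι h'' W ≫ b' : Hom _ 𝔛').app 0 ⁻¹ᵁ U)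

theorem exists_ringHom (hmem : ∀ a ∈ S, a ∈ K'.sect U)
    (hgen : IsGen (idealMap (𝔛''.restrictOpenι h'' W ≫ b') hW h' K') ⊤
      (secMap h' hW (𝔛''.restrictOpenι h'' W ≫ b') htop k₀)) :
    ∃ ψ : ↥(Algebra.adjoin ((𝔛'.Osh h').obj.obj (op U)) (fracs S k₀)) →+*
        ((𝔛''.restrictOpen h'' W).Osh hW).obj.obj (op ⊤),
      ∀ a, ψ (algebraMap _ _ a) = secMap h' hW (𝔛''.restrictOpenι h'' W ≫ b') htop a := by
  generalize hφ₁ : secMap h' hW (𝔛''.restrictOpenι h'' W ≫ b') htop = φ₁ at hgen ⊢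
  have hnzd : ∀ t, t * φ₁ k₀ = 0 → t = 0 := fun t ht => by
    refine (hgen.2 ⊤ le_rfl).1 t ?_
    rw [res, IdealSh.map_id_apply]
    exact ht
  have hker : ∀ a, algebraMap _ (Localization.Away k₀) a = 0 → φ₁ a = 0 := fun a ha => by
    obtain ⟨⟨_, m, rfl⟩, hm⟩ := (IsLocalization.map_eq_zero_iff (Submonoid.powers k₀) _ _).1 ha
    have := congrArg φ₁ hm
    rw [map_mul, map_pow, map_zero] at this
    clear hm
    induction m with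
    | zero => simpa using this
    | succ m ih =>
      refine ih (hnzd _ ?_)
      rw [← this, pow_succ]; ring
  obtain ⟨ψ, hψ⟩ := exists_fracHom φ₁ k₀ hker hnzd (fracs S k₀) (by
    rintro x ⟨a, ha, hxa⟩
    have hm : φ₁ a ∈ (idealMap (𝔛''.restrictOpenι h'' W ≫ b') hW h' K').sect ⊤ := by
      rw [← hφ₁]
      exact (idealMap (𝔛''.restrictOpenι h'' W ≫ b') hW h' K').map_mem htop (img_mem_map _ _ _ (hmem a ha))
    obtain ⟨t, ht⟩ := (hgen.2 ⊤ le_rfl).2 _ hm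
    rw [res, IdealSh.map_id_apply] at ht
    exact ⟨t, 1, a, by rw [pow_one, ← hxa, mul_comm], by rw [pow_one, ht, mul_comm]⟩)
  exact ⟨ψ, fun a => (hψ _).unique φ₁ _ hker hnzd (FracRel.of_algebraMap φ₁ k₀ a)⟩

variable {C : Type u} [CommRing C] (φ : (𝔛'.Osh h').obj.obj (op U) →+* C) {J : Ideal C}

theorem exists_retraction (hI : I.FG) (hU : IsAffineOpen U) (hp' : IsAdicHom p')
    (hJ : I.map (baseHom h' p' φ) = J) (hC : (spf C J).IsFormal) (z : spf C J ⟶ 𝔛')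
    (hz : ⊤ ≤ (z : Hom (spf C J) 𝔛').app 0 ⁻¹ᵁ U)
    (hzsec : ∀ a, secMap h' hC z hz a = pull hC (toSpecOf (𝟙 (spf C J))) (toSpecOf_comm _) ⊤ (φ a))
    (ψ : C →+* ((𝔛''.restrictOpen h'' W).Osh hW).obj.obj (op ⊤))
    (hψ : ∀ a, ψ (φ a) = secMap h' hW (𝔛''.restrictOpenι h'' W ≫ b') htop a) :
    ∃ ρ : 𝔛''.restrictOpen h'' W ⟶ spf C J, ρ ≫ z = 𝔛''.restrictOpenι h'' W ≫ b' := by
  generalize hι : 𝔛''.restrictOpenι h'' W ≫ b' = ιb at htop hψ ⊢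
  clear hι
  generalize 𝔛''.restrictOpen h'' W = 𝔚 at hW ιb htop ψ hψ ⊢
  have hkill : ∀ n, ∀ j ∈ J ^ (n + 1), topLvl hW n (ψ j) = 0 := by
    intro n j hj
    rw [← hJ, ← Ideal.map_pow] at hj
    refine (Ideal.map_le_iff_le_comap.2 fun r hr => ?_ :
      Ideal.map (baseHom h' p' φ) (I ^ (n + 1)) ≤ RingHom.ker ((topLvl hW n).comp ψ)) hj
    rw [Ideal.mem_comap, RingHom.mem_ker, RingHom.comp_apply, baseHom, RingHom.comp_apply, hψ]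
    have e : secMap h' hW ιb htop (pull h' (toBase I p') (toBase_comm I p') U r) =
        pull hW (toSpecOf (ιb ≫ p')) (toSpecOf_comm _) ⊤ r :=
      (congrArg (res _ htop) (sharp_pull ιb hW h' _ (toBase_comm I p') _ (toSpecOf_comm _)
        (toSpecOf_comp ιb p') U r)).trans (res_pull hW _ _ htop r)
    rw [e]
    exact topLvl_pull_pow hW _ n hr
  let ρ := homSpf hW J ψ hkill
  have htop₃ : ⊤ ≤ (ρ ≫ z : Hom 𝔚 𝔛').app 0 ⁻¹ᵁ U := fun y _ => hz (Set.mem_univ _)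
  refine ⟨ρ, hom_ext_aff (h𝔜 := hW) hU htop₃ htop (fun n => (ker_oProj h' p' hp' hI hU n).2) fun a => ?_⟩
  refine Eq.trans ?_ (hψ a)
  rw [← pull_homSpf hW ψ hkill (φ a)]
  refine (congrArg (res _ htop₃) (sharp_comp ρ z hW hC h' U a)).trans ?_
  have e : pull hW (toSpecOf ρ) (toSpecOf_comm ρ) ⊤ (φ a) =
      (Hom.sharp ρ hW hC).hom.app (op ⊤) (pull hC (toSpecOf (𝟙 (spf C J))) (toSpecOf_comm _) ⊤ (φ a)) :=
    (sharp_pull ρ hW hC _ (toSpecOf_comm _) _ (toSpecOf_comm ρ) (fun n => by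
      show (ρ : Hom 𝔚 (spf C J)).app n ≫ (𝟙 _ ≫ spfToSpec C J n) = _
      rw [Category.id_comp]) ⊤ (φ a)).symm
  rw [e, ← hzsec]
  exact (res_sharp ρ hW hC hz _).symm

end Retraction

theorem nzd_transfer {U : (𝔛'.X 0).Opens} {W : (𝔛''.X 0).Opens} (hW : (𝔛''.restrictOpen h'' W).IsFormal)
    {ℨ : Sys.{u}} (hℨ : ℨ.IsFormal) (k : ℨ ⟶ 𝔛'') (ρ : 𝔛''.restrictOpen h'' W ⟶ ℨ)
    (hρk : ρ ≫ k = 𝔛''.restrictOpenι h'' W) (z : ℨ ⟶ 𝔛') (hk : k ≫ b' = z)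
    (g : (𝔛'.Osh h').obj.obj (op U))
    (hnz : ∀ (V : (ℨ.X 0).Opens) (i : V ≤ (z : Hom ℨ 𝔛').app 0 ⁻¹ᵁ U) (t : (ℨ.Osh hℨ).obj.obj (op V)),
      t * res _ i ((Hom.sharp z hℨ h').hom.app (op U) g) = 0 → t = 0)
    (V : (𝔛''.X 0).Opens) (i : V ≤ (b' : Hom 𝔛'' 𝔛').app 0 ⁻¹ᵁ U) (hV : V ≤ W)
    (t : (𝔛''.Osh h'').obj.obj (op V))
    (ht : t * res _ i ((Hom.sharp b' h'' h').hom.app (op U) g) = 0) : t = 0 := by
  subst hk
  refine injective_sharp_restrictOpenι h'' W hW hV ?_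
  suffices h0 : (Hom.sharp k hℨ h'').hom.app (op V) t = 0 by
    generalize 𝔛''.restrictOpenι h'' W = ιW at hρk
    subst hρk
    refine (sharp_comp ρ k hW hℨ h'' V t).trans ?_
    rw [h0]
    exact map_zero ((Hom.sharp ρ hW hℨ).hom.app (op ((k : Hom ℨ 𝔛'').app 0 ⁻¹ᵁ V))).hom
  refine hnz _ ((Opens.map ((k : Hom ℨ 𝔛'').app 0).base).monotone i) _ ?_
  have e := congrArg ((Hom.sharp k hℨ h'').hom.app (op V)).hom ht
  rw [map_mul, map_zero] at e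
  refine Eq.trans ?_ e
  refine congrArg (fun z => HMul.hMul (α := ((ℨ.Osh hℨ).obj.obj (op ((k : Hom ℨ 𝔛'').app 0 ⁻¹ᵁ V))))
    ((Hom.sharp k hℨ h'').hom.app (op V) t) z) ?_
  refine Eq.trans ?_ (res_sharp k hℨ h'' i _).symm
  exact congrArg (res _ _) (sharp_comp k b' hℨ h'' h' U g)

theorem nzd_chart {U : (𝔛'.X 0).Opens} {C : Type u} [CommRing C] {J : Ideal C} (hC : (spf C J).IsFormal)
    (z : spf C J ⟶ 𝔛') (φ : (𝔛'.Osh h').obj.obj (op U) →+* C) {U' : (𝔛'.X 0).Opens} (hU : U ≤ U')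
    (hz : ⊤ ≤ (z : Hom (spf C J) 𝔛').app 0 ⁻¹ᵁ U)
    (hzsec : ∀ a, secMap h' hC z hz a = pull hC (toSpecOf (𝟙 (spf C J))) (toSpecOf_comm _) ⊤ (φ a))
    (g : (𝔛'.Osh h').obj.obj (op U')) (hc : ∀ t, t * φ (res _ hU g) = 0 → t = 0) {N : ℕ}
    (hN : J ^ N ≤ Ideal.span {φ (res _ hU g)})
    (V : ((spf C J).X 0).Opens) (i : V ≤ (z : Hom (spf C J) 𝔛').app 0 ⁻¹ᵁ U')
    (t : ((spf C J).Osh hC).obj.obj (op V))
    (ht : t * res _ i ((Hom.sharp z hC h').hom.app (op U') g) = 0) : t = 0 := by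
  refine pull_nzd hC _ (toSpecOf_comm _) (isSpfLike_id C J) hc hN V t (Eq.trans ?_ ht)
  refine congrArg (t * ·) ?_
  rw [← res_pull hC _ (toSpecOf_comm _) (le_top : V ≤ ⊤), ← hzsec]
  refine (congrArg (res _ le_top) (congrArg (res _ hz) (res_sharp z hC h' hU g))).trans ?_
  refine (congrArg (res _ le_top) (IdealSh.map_comp_apply (O := (spf C J).Osh hC) _ _ _)).trans ?_
  exact IdealSh.map_comp_apply (O := (spf C J).Osh hC) _ _ _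

theorem nzd_blowUp (hp : IsAdicHom p) (hI : I.FG) {K : IdealSh (𝔛.Osh h)} (hK : IsCohOpen 𝔛 h K)
    (hb : IsAdicHom b) (hb' : IsAdmBlowUp b' h'' h' (idealMap b h' h K))
    {U : (𝔛'.X 0).Opens} (g : (𝔛'.Osh h').obj.obj (op U))
    (hg : ∀ (V : (𝔛'.X 0).Opens) (i : V ≤ U) (t : (𝔛'.Osh h').obj.obj (op V)), t * res _ i g = 0 → t = 0)
    (M : ℕ) (hgI : ∀ (V : (𝔛'.X 0).Opens) (i : V ≤ U), ∀ r ∈ I ^ (M + 1),
      ∃ t, pull h' (toBase I (b ≫ p)) (toBase_comm I (b ≫ p)) V r = t * res _ i g)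
    (x : 𝔛''.X 0) (hx : (b' : Hom 𝔛'' 𝔛').app 0 x ∈ U) :
    ∃ W : (𝔛''.X 0).Opens, x ∈ W ∧ ∀ (V : (𝔛''.X 0).Opens) (i : V ≤ (b' : Hom 𝔛'' 𝔛').app 0 ⁻¹ᵁ U), V ≤ W →
      ∀ t : (𝔛''.Osh h'').obj.obj (op V),
        t * res _ i ((Hom.sharp b' h'' h').hom.app (op U) g) = 0 → t = 0 := by
  obtain ⟨U₂, S, N, hU₂, hxU₂, hU₂U, hKS, hSK, hpullS⟩ :=
    exists_genSet h h' p b hp hI hK U ((b' : Hom 𝔛'' 𝔛').app 0 x) hx
  have hp' : IsAdicHom (b ≫ p) := isAdicHom_comp hb hp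
  generalize hKdef : idealMap b h' h K = K' at hb' hKS hSK
  generalize b ≫ p = p' at hp' hgI hpullS
  clear hKdef hK hb hp
  obtain ⟨_, ⟨k₀, hk₀, rfl⟩, W₁, i₁, hxW₁, hgenW₁⟩ := exists_gen_mem (isLocalSh_Osh h'') hb'.2.1
    (U := (b' : Hom 𝔛'' 𝔛').app 0 ⁻¹ᵁ U₂)
    (img ((b' : Hom 𝔛'' 𝔛').app 0).base (Hom.sharp b' h'' h') U₂ '' S)
    (map_spanSh_le S _ _ hKS) (by rintro _ ⟨a, ha, rfl⟩; exact img_mem_map _ _ _ (hSK a ha)) hxU₂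
  have hC := FComplLib.spf_isFormal (A := ↥(Algebra.adjoin ((𝔛'.Osh h').obj.obj (op U₂)) (fracs S k₀)))
    (I.map (baseHom h' p' (algebraMap ((𝔛'.Osh h').obj.obj (op U₂)) ↥(Algebra.adjoin ((𝔛'.Osh h').obj.obj (op U₂)) (fracs S k₀)))))
  obtain ⟨z, hz, hzadic, hzsec⟩ := exists_chartHom h' p' hU₂ _ hI hp' rfl hC
  have hinvZ : (idealMap z hC h' K').IsInvertible := by
    refine isInvertible_chart h' S _ hC z hz hzsec hKS k₀ (hSK k₀ hk₀) (fun a ha => mem_span_den S k₀ ha)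
      (nzd_adjoin_den S k₀) (N := N + 1) ?_
    rw [← Ideal.map_pow, Ideal.map_le_iff_le_comap]
    exact fun r hr => mem_span_den S k₀ (hpullS r hr)
  obtain ⟨k, hk, -⟩ := hb'.2.2 _ hC z hzadic hinvZ
  have hW := isFormal_restrictOpen h'' W₁
  have htopW : ⊤ ≤ (𝔛''.restrictOpenι h'' W₁ : Hom _ _).app 0 ⁻¹ᵁ W₁ := fun y _ => (lvU_zero h'' W₁).le y.2
  have htop₂ : ⊤ ≤ (𝔛''.restrictOpenι h'' W₁ ≫ b' : Hom _ 𝔛').app 0 ⁻¹ᵁ U₂ := fun y hy => i₁ (htopW hy)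
  have hgen₁ : IsGen (idealMap (𝔛''.restrictOpenι h'' W₁ ≫ b') hW h' K') ⊤
      (secMap h' hW (𝔛''.restrictOpenι h'' W₁ ≫ b') htop₂ k₀) := by
    rw [← idealMap_idealMap (𝔛''.restrictOpenι h'' W₁) b' hW h'' h']
    have e : secMap h' hW (𝔛''.restrictOpenι h'' W₁ ≫ b') htop₂ k₀ = res _ htopW
        ((Hom.sharp (𝔛''.restrictOpenι h'' W₁) hW h'').hom.app (op W₁)
          (res _ i₁ (img ((b' : Hom 𝔛'' 𝔛').app 0).base (Hom.sharp b' h'' h') U₂ k₀))) := by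
      refine (congrArg (res _ htop₂) (sharp_comp (𝔛''.restrictOpenι h'' W₁) b' hW h'' h' U₂ k₀)).trans ?_
      refine Eq.symm ((congrArg (res _ htopW) (res_sharp (𝔛''.restrictOpenι h'' W₁) hW h'' i₁ _)).trans ?_)
      exact IdealSh.map_comp_apply (O := (𝔛''.restrictOpen h'' W₁).Osh hW) _ _ _
    rw [e]
    exact (isGen_restrictOpenι h'' hW hgenW₁).mono htopW
  obtain ⟨ψ, hψ⟩ := exists_ringHom h' h'' b' S k₀ hW htop₂ hSK hgen₁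
  obtain ⟨ρ, hρ⟩ := exists_retraction h' h'' b' p' hW htop₂ _ hI hU₂ hp' rfl hC z hz hzsec ψ hψ
  have hinvW : (idealMap (𝔛''.restrictOpenι h'' W₁ ≫ b') hW h' K').IsInvertible :=
    (isInvertible_iff _).2 fun _ => ⟨⊤, trivial, _, hgen₁⟩
  have hρk : ρ ≫ k = 𝔛''.restrictOpenι h'' W₁ := by
    obtain ⟨u, -, hu⟩ := hb'.2.2 _ hW _ (isAdicHom_comp (isAdicHom_restrictOpenι h'' W₁) hb'.1) hinvW
    exact (hu _ (show (ρ ≫ k) ≫ b' = _ by rw [Category.assoc, hk]; exact hρ)).trans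
      (hu (𝔛''.restrictOpenι h'' W₁) rfl).symm
  refine ⟨W₁, hxW₁, fun V i hV t ht => nzd_transfer h' h'' b' hW hC k ρ hρk z hk g
    (nzd_chart h' hC z _ hU₂U hz hzsec g (nzd_adjoin S k₀ _ fun a ha => hg U₂ hU₂U a ha) (N := M + 1) ?_) V i hV t ht⟩
  rw [← Ideal.map_pow, Ideal.map_le_iff_le_comap]
  intro r hr
  obtain ⟨t, ht⟩ := hgI U₂ hU₂U r hr
  exact Ideal.mem_span_singleton'.2 ⟨_, (map_mul _ t _).symm.trans (congrArg _ ht.symm)⟩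

end FBlowLib
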