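import Groth.Agent.FBlowLib.BlowFamily
import Groth.Agent.FBlowLib.NzdBlow

/-!
# Uniqueness and gluing of compatible families of morphisms to a blowing-up
-/

set_option autoImplicit false
set_option linter.style.haveILetI false

universe u

open CategoryTheory CategoryTheory.Limits AlgebraicGeometry TopologicalSpace Opposite FSch FBlow

noncomputable section

namespace FBlowLib

variable {𝔜 : Sys.{u}} (h : 𝔜.IsFormal)

theorem exists_cover_lvU (n : ℕ) (z : 𝔜.X n) (V : 𝔜.X 0 → (𝔜.X 0).Opens) (hV : ∀ y, y ∈ V y) :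
    ∃ y, z ∈ Set.range (𝔜.lvU h n (V y)).ι := by
  refine ⟨(𝔜.gInv h n) z, ?_⟩
  rw [Scheme.Opens.range_ι]
  exact hV _

theorem hom_ext_lvU {Z : Scheme.{u}} (n : ℕ) (a b : 𝔜.X n ⟶ Z)
    (H : ∀ y : 𝔜.X 0, ∃ V : (𝔜.X 0).Opens, y ∈ V ∧ (𝔜.lvU h n V).ι ≫ a = (𝔜.lvU h n V).ι ≫ b) :
    a = b := by
  choose V hV e using H
  exact Scheme.Cover.hom_ext (Scheme.Cover.mkOfCovers (𝔜.X 0) (fun y => (𝔜.lvU h n (V y) : Scheme.{u}))
    (fun y => (𝔜.lvU h n (V y)).ι) (fun z => exists_cover_lvU h n z V hV) (fun _ => inferInstance) :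
    (𝔜.X n).OpenCover) _ _ e

variable {A : Type u} [CommRing A] (g : ∀ n, 𝔜.X n ⟶ Spec (CommRingCat.of A))
  (hg : ∀ n, 𝔜.ι n ≫ g (n + 1) = g n)

/-- A compatible family restricted to an open. -/
abbrev resFam {Z : Scheme.{u}} (r : ∀ n, 𝔜.X n ⟶ Z) (V : (𝔜.X 0).Opens) (n : ℕ) :
    (𝔜.restrictOpen h V).X n ⟶ Z :=
  (𝔜.lvU h n V).ι ≫ r n

theorem resFam_comm {Z : Scheme.{u}} (r : ∀ n, 𝔜.X n ⟶ Z) (hr : ∀ n, 𝔜.ι n ≫ r (n + 1) = r n)
    (V : (𝔜.X 0).Opens) (n : ℕ) :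
    (𝔜.restrictOpen h V).ι n ≫ resFam h r V (n + 1) = resFam h r V n :=
  ((Category.assoc _ _ _).symm.trans (congrArg (· ≫ r (n + 1)) ((𝔜.restrictOpenι h V : Hom _ _).comm n).symm)).trans
    ((Category.assoc _ _ _).trans (congrArg (_ ≫ ·) (hr n)))

variable {h g hg} {ι : Type*} (f : ι → A)

theorem idealMap_famSh_restrictOpen (V : (𝔜.X 0).Opens) :
    idealMap (𝔜.restrictOpenι h V) (isFormal_restrictOpen h V) h (famSh h g hg f) =
      famSh (isFormal_restrictOpen h V) (resFam h g V) (resFam_comm h g hg V) f :=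
  idealMap_schIdealMap _ h g hg _ _ _ (fun _ => rfl) _

theorem pull_resFam (V U : (𝔜.X 0).Opens) (a : A) :
    (Hom.sharp (𝔜.restrictOpenι h V) (isFormal_restrictOpen h V) h).hom.app (op U) (pull h g hg U a) =
      pull (isFormal_restrictOpen h V) (resFam h g V) (resFam_comm h g hg V)
        ((𝔜.restrictOpenι h V : Hom _ _).app 0 ⁻¹ᵁ U) a :=
  sharp_pull _ _ h g hg _ _ (fun _ => rfl) U a

theorem isGen_resFam (V U : (𝔜.X 0).Opens) (hUV : U ≤ V) (a : A) (hU : IsGen (famSh h g hg f) U (pull h g hg U a)) :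
    IsGen (famSh (isFormal_restrictOpen h V) (resFam h g V) (resFam_comm h g hg V) f)
      ((𝔜.restrictOpenι h V : Hom _ _).app 0 ⁻¹ᵁ U)
      (pull (isFormal_restrictOpen h V) (resFam h g V) (resFam_comm h g hg V)
        ((𝔜.restrictOpenι h V : Hom _ _).app 0 ⁻¹ᵁ U) a) := by
  rw [← idealMap_famSh_restrictOpen (hg := hg), ← pull_resFam (hg := hg)]
  exact isGen_restrictOpenι_of_le h (isFormal_restrictOpen h V) hUV hU

theorem isInvertible_resFam (hinv : (famSh h g hg f).IsInvertible) (V : (𝔜.X 0).Opens) :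
    (famSh (isFormal_restrictOpen h V) (resFam h g V) (resFam_comm h g hg V) f).IsInvertible := by
  refine (isInvertible_iff _).2 fun y => ?_
  obtain ⟨j, W, hyW, hW⟩ := exists_gen_index h g hg f hinv ((𝔜.restrictOpenι h V : Hom _ _).app 0 y)
  have hW' := hW.mono (inf_le_left : W ⊓ V ≤ W)
  rw [res_pull] at hW'
  refine ⟨(𝔜.restrictOpenι h V : Hom _ _).app 0 ⁻¹ᵁ (W ⊓ V), ⟨hyW, ?_⟩, _, isGen_resFam f V (W ⊓ V) inf_le_right (f j) hW'⟩
  exact (lvU_zero h V).le y.2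

theorem isGen_top_resFam (V : (𝔜.X 0).Opens) (a : A) (hV : IsGen (famSh h g hg f) V (pull h g hg V a)) :
    IsGen (famSh (isFormal_restrictOpen h V) (resFam h g V) (resFam_comm h g hg V) f) ⊤
      (pull (isFormal_restrictOpen h V) (resFam h g V) (resFam_comm h g hg V) ⊤ a) := by
  have := (isGen_resFam f V V le_rfl a hV).mono (U' := ⊤) (fun y _ => (lvU_zero h V).le y.2)
  rwa [res_pull] at this

variable {P : Scheme.{u}} {q : P ⟶ Spec (CommRingCat.of A)} {𝔞 : Ideal A}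
  (hb : BlowUp.IsBlowUp q (BlowUpLib.specIdeal 𝔞)) (hf : Ideal.span (Set.range f) = 𝔞)

include hb hf in
/-- A family factoring through a chart is the one given by the ring of sections. -/
theorem exists_hom_sections (hinv : (famSh h g hg f).IsInvertible) {C : Type u} [CommRing C] {φ : A →+* C} {a : A}
    (ha : a ∈ 𝔞) (hC : BlowUpLib.IsChart 𝔞 a φ) (c : Spec (CommRingCat.of C) ⟶ P)
    (hc : c ≫ q = Spec.map (CommRingCat.ofHom φ)) (l : ∀ n, 𝔜.X n ⟶ Spec (CommRingCat.of C))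
    (hl : ∀ n, 𝔜.ι n ≫ l (n + 1) = l n) (hlg : ∀ n, l n ≫ c ≫ q = g n) :
    (pull h g hg ⊤ a ∈ nonZeroDivisors ((𝔜.Osh h).obj.obj (op ⊤)) ∧
      𝔞.map (pull h g hg ⊤) = Ideal.span {pull h g hg ⊤ a}) ∧
    ∃ k : Spec (CommRingCat.of ((𝔜.Osh h).obj.obj (op ⊤))) ⟶ P,
      k ≫ q = Spec.map (CommRingCat.ofHom (pull h g hg ⊤)) ∧
        ∀ n, l n ≫ c = famOfHom h (RingHom.id _) n ≫ k := by
  subst hf
  let f' : Option ι → A := fun o => o.elim a f
  have hspan : Ideal.span (Set.range f') = Ideal.span (Set.range f) := by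
    refine le_antisymm (Ideal.span_le.2 ?_) (Ideal.span_mono ?_)
    · rintro _ ⟨_ | i, rfl⟩
      · exact ha
      · exact Ideal.subset_span (Set.mem_range_self i)
    · rintro _ ⟨i, rfl⟩
      exact ⟨some i, rfl⟩
  have hfam : famSh h g hg f' = famSh h g hg f := by
    unfold famSh
    rw [hspan]
  have hcomp : ∀ x, pull h l hl ⊤ (φ x) = pull h g hg ⊤ x := fun x =>
    pullLvl_comp_specMap h φ l hl g hg (fun n => by rw [← hc, hlg]) ⊤ x
  have hgen : IsGen (famSh h g hg f') ⊤ (pull h g hg ⊤ (f' none)) := by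
    refine isGen_fam_of_dvd f' (hfam ▸ hinv) none fun j => ?_
    obtain ⟨s, hs⟩ := Ideal.mem_span_singleton'.1 (hC.span ▸ Ideal.mem_map_of_mem φ
      (hspan.le (Ideal.subset_span (Set.mem_range_self j))))
    refine ⟨pull h l hl ⊤ s, ?_⟩
    rw [← hcomp, ← hs, map_mul, hcomp]
    rfl
  obtain ⟨hnzd, hmap⟩ := map_span_of_gen f' none hgen
  rw [hspan] at hmap
  refine ⟨⟨hnzd, hmap⟩, Spec.map (CommRingCat.ofHom (pull h l hl ⊤)) ≫ c, ?_, fun n => ?_⟩
  · rw [Category.assoc, hc, ← Spec.map_comp, ← CommRingCat.ofHom_comp]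
    exact congrArg (fun ψ => Spec.map (CommRingCat.ofHom ψ)) (RingHom.ext hcomp)
  · rw [← Category.assoc, famOfHom_specMap, RingHom.id_comp, famOfHom_pull]

include hb hf in
theorem family_ext_of_factor (hinv : (famSh h g hg f).IsInvertible)
    {C C' : Type u} [CommRing C] [CommRing C'] {φ : A →+* C} {φ' : A →+* C'} {a a' : A}
    (ha : a ∈ 𝔞) (ha' : a' ∈ 𝔞) (hC : BlowUpLib.IsChart 𝔞 a φ) (hC' : BlowUpLib.IsChart 𝔞 a' φ')
    (c : Spec (CommRingCat.of C) ⟶ P) (hc : c ≫ q = Spec.map (CommRingCat.ofHom φ))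
    (c' : Spec (CommRingCat.of C') ⟶ P) (hc' : c' ≫ q = Spec.map (CommRingCat.ofHom φ'))
    (l : ∀ n, 𝔜.X n ⟶ Spec (CommRingCat.of C)) (hl : ∀ n, 𝔜.ι n ≫ l (n + 1) = l n) (hlg : ∀ n, l n ≫ c ≫ q = g n)
    (l' : ∀ n, 𝔜.X n ⟶ Spec (CommRingCat.of C')) (hl' : ∀ n, 𝔜.ι n ≫ l' (n + 1) = l' n)
    (hlg' : ∀ n, l' n ≫ c' ≫ q = g n) (n : ℕ) : l n ≫ c = l' n ≫ c' := by
  obtain ⟨⟨hnzd, hmap⟩, k, hk, e⟩ := exists_hom_sections f hb hf hinv ha hC c hc l hl hlg
  obtain ⟨-, k', hk', e'⟩ := exists_hom_sections f hb hf hinv ha' hC' c' hc' l' hl' hlg'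
  rw [e, e', (exists_toBlowUp hb _ hnzd hmap).unique hk hk']

include hb in
theorem exists_chart_nhd (r : ∀ n, 𝔜.X n ⟶ P) (y : 𝔜.X 0) :
    ∃ (a : A) (_ : a ∈ 𝔞) (c : Spec (CommRingCat.of (BlowUp.affineAlgebra A 𝔞 a)) ⟶ P) (_ : IsOpenImmersion c),
      y ∈ r 0 ⁻¹ᵁ c.opensRange ∧ c ≫ q = Spec.map (CommRingCat.ofHom (algebraMap A (BlowUp.affineAlgebra A 𝔞 a))) := by
  obtain ⟨a, ha, c, hci, hy, hc⟩ := BlowUpLib.exists_chart_spec 𝔞 hb (r 0 y)
  exact ⟨a, ha, c, hci, hy, hc⟩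

theorem range_resFam (r : ∀ n, 𝔜.X n ⟶ P) (hr : ∀ n, 𝔜.ι n ≫ r (n + 1) = r n) {V : (𝔜.X 0).Opens}
    (U : P.Opens) (hV : V ≤ r 0 ⁻¹ᵁ U) (n : ℕ) : Set.range (resFam h r V n) ⊆ U := by
  rintro _ ⟨z, rfl⟩
  exact (lvU_p 𝔜 h r hr n U).ge (lvU_mono 𝔜 h n hV z.2)

include hb hf in
theorem family_ext (hinv : (famSh h g hg f).IsInvertible) (r r' : ∀ n, 𝔜.X n ⟶ P)
    (hr : ∀ n, 𝔜.ι n ≫ r (n + 1) = r n) (hr' : ∀ n, 𝔜.ι n ≫ r' (n + 1) = r' n)
    (e : ∀ n, r n ≫ q = g n) (e' : ∀ n, r' n ≫ q = g n) : r = r' := by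
  refine funext fun n => hom_ext_lvU h n _ _ fun y => ?_
  obtain ⟨a, ha, c, hci, hy, hc⟩ := exists_chart_nhd hb r y
  obtain ⟨a', ha', c', hci', hy', hc'⟩ := exists_chart_nhd hb r' y
  let V := r 0 ⁻¹ᵁ c.opensRange ⊓ r' 0 ⁻¹ᵁ c'.opensRange
  refine ⟨V, ⟨hy, hy'⟩, ?_⟩
  have hR : ∀ m, Set.range (resFam h r V m) ⊆ Set.range c := fun m =>
    range_resFam r hr c.opensRange inf_le_left m
  have hR' : ∀ m, Set.range (resFam h r' V m) ⊆ Set.range c' := fun m =>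
    range_resFam r' hr' c'.opensRange inf_le_right m
  have key := family_ext_of_factor (h := isFormal_restrictOpen h V) (g := resFam h g V) (hg := resFam_comm h g hg V)
    f hb hf (isInvertible_resFam f hinv V) ha ha' (BlowUpLib.isChart_affineAlgebra ha)
    (BlowUpLib.isChart_affineAlgebra ha') c hc c' hc'
    (fun m => IsOpenImmersion.lift c _ (hR m))
    (fun m => (cancel_mono c).1 (by rw [Category.assoc, IsOpenImmersion.lift_fac, IsOpenImmersion.lift_fac]; exact resFam_comm h r hr V m))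
    (fun m => by rw [IsOpenImmersion.lift_fac_assoc, Category.assoc, e])
    (fun m => IsOpenImmersion.lift c' _ (hR' m))
    (fun m => (cancel_mono c').1 (by rw [Category.assoc, IsOpenImmersion.lift_fac, IsOpenImmersion.lift_fac]; exact resFam_comm h r' hr' V m))
    (fun m => by rw [IsOpenImmersion.lift_fac_assoc, Category.assoc, e']) n
  rwa [IsOpenImmersion.lift_fac, IsOpenImmersion.lift_fac] at key

include hb hf in
/-- Compatible families of morphisms to the blowing-up exist. -/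
theorem exists_family (hinv : (famSh h g hg f).IsInvertible) :
    ∃ r : ∀ n, 𝔜.X n ⟶ P, (∀ n, 𝔜.ι n ≫ r (n + 1) = r n) ∧ ∀ n, r n ≫ q = g n := by
  choose i U hyU hU using exists_gen_index h g hg f hinv
  choose r hr hrq using fun y => exists_family_of_gen hb (isFormal_restrictOpen h (U y)) (resFam h g (U y))
    (resFam_comm h g hg (U y)) f hf (i y) (isGen_top_resFam f (U y) _ (hU y))
  let 𝒰 : ∀ n, (𝔜.X n).OpenCover := fun n => Scheme.Cover.mkOfCovers (𝔜.X 0)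
    (fun y => (𝔜.lvU h n (U y) : Scheme.{u})) (fun y => (𝔜.lvU h n (U y)).ι)
    (fun z => exists_cover_lvU h n z U hyU) (fun _ => inferInstance)
  have hagree : ∀ (n : ℕ) (y y' : 𝔜.X 0), pullback.fst (𝔜.lvU h n (U y)).ι (𝔜.lvU h n (U y')).ι ≫ r y n =
      pullback.snd (𝔜.lvU h n (U y)).ι (𝔜.lvU h n (U y')).ι ≫ r y' n := fun n y y' => by
    let W := U y ⊓ U y'
    have hW := isFormal_restrictOpen h W
    obtain ⟨v, hv⟩ := exists_lift_restrictOpen h hW (𝔜.restrictOpenι h W) (U y) fun z => ((lvU_zero h W).le z.2).1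
    obtain ⟨v', hv'⟩ := exists_lift_restrictOpen h hW (𝔜.restrictOpenι h W) (U y') fun z => ((lvU_zero h W).le z.2).2
    have hvn : ∀ m, (v : Hom _ _).app m ≫ (𝔜.lvU h m (U y)).ι = (𝔜.lvU h m W).ι :=
      fun m => congrArg (fun u : 𝔜.restrictOpen h W ⟶ 𝔜 => (u : Hom _ _).app m) hv
    have hvn' : ∀ m, (v' : Hom _ _).app m ≫ (𝔜.lvU h m (U y')).ι = (𝔜.lvU h m W).ι :=
      fun m => congrArg (fun u : 𝔜.restrictOpen h W ⟶ 𝔜 => (u : Hom _ _).app m) hv'
    have e := congrFun (family_ext (h := hW) (g := resFam h g W) (hg := resFam_comm h g hg W) f hb hf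
      (isInvertible_resFam f hinv W) (fun m => (v : Hom _ _).app m ≫ r y m) (fun m => (v' : Hom _ _).app m ≫ r y' m)
      (fun m => by rw [← Category.assoc, ← (v : Hom _ _).comm, Category.assoc, hr])
      (fun m => by rw [← Category.assoc, ← (v' : Hom _ _).comm, Category.assoc, hr])
      (fun m => by rw [Category.assoc, hrq]; exact (Category.assoc _ _ _).symm.trans (congrArg (· ≫ g m) (hvn m)))
      (fun m => by rw [Category.assoc, hrq]; exact (Category.assoc _ _ _).symm.trans (congrArg (· ≫ g m) (hvn' m)))) n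
    have hP : Set.range (pullback.fst (𝔜.lvU h n (U y)).ι (𝔜.lvU h n (U y')).ι ≫ (𝔜.lvU h n (U y)).ι) ⊆
        Set.range (𝔜.lvU h n W).ι := by
      rintro _ ⟨z, rfl⟩
      rw [Scheme.Opens.range_ι]
      refine ⟨(pullback.fst (𝔜.lvU h n (U y)).ι (𝔜.lvU h n (U y')).ι z).2, ?_⟩
      rw [pullback.condition]
      exact (pullback.snd (𝔜.lvU h n (U y)).ι (𝔜.lvU h n (U y')).ι z).2
    have e1 : pullback.fst (𝔜.lvU h n (U y)).ι (𝔜.lvU h n (U y')).ι =
        IsOpenImmersion.lift _ _ hP ≫ (v : Hom _ _).app n := (cancel_mono (𝔜.lvU h n (U y)).ι).1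
      ((IsOpenImmersion.lift_fac _ _ hP).symm.trans ((congrArg (_ ≫ ·) (hvn n).symm).trans (Category.assoc _ _ _).symm))
    have e2 : pullback.snd (𝔜.lvU h n (U y)).ι (𝔜.lvU h n (U y')).ι =
        IsOpenImmersion.lift _ _ hP ≫ (v' : Hom _ _).app n := (cancel_mono (𝔜.lvU h n (U y')).ι).1
      (pullback.condition.symm.trans
        ((IsOpenImmersion.lift_fac _ _ hP).symm.trans ((congrArg (_ ≫ ·) (hvn' n).symm).trans (Category.assoc _ _ _).symm)))
    refine (congrArg (· ≫ r y n) e1).trans (((Category.assoc _ _ _).trans (congrArg (_ ≫ ·) e)).trans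
      (((Category.assoc _ _ _).symm.trans (congrArg (· ≫ r y' n) e2.symm))))
  refine ⟨fun n => (𝒰 n).glueMorphisms (fun y => r y n) (hagree n), fun n => ?_, fun n => ?_⟩
  · refine (𝒰 n).hom_ext _ _ fun (y : 𝔜.X 0) => ?_
    rw [Scheme.Cover.ι_glueMorphisms]
    refine Eq.trans ?_ (hr y n)
    refine (Category.assoc _ _ _).symm.trans ((congrArg (· ≫ _) ((𝔜.restrictOpenι h (U y) : Hom _ _).comm n)).trans
      ((Category.assoc _ _ _).trans (congrArg (_ ≫ ·) ?_)))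
    exact Scheme.Cover.ι_glueMorphisms (𝒰 (n + 1)) (fun y => r y (n + 1)) (hagree (n + 1)) y
  · refine (𝒰 n).hom_ext _ _ fun (y : 𝔜.X 0) => ?_
    rw [← Category.assoc, Scheme.Cover.ι_glueMorphisms]
    exact hrq y n

end FBlowLib
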