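import Groth.Prelude.Def_W4bk4boschfrg79
import Mathlib.RingTheory.AdicCompletion.Completeness
import Mathlib.Algebra.MvPolynomial.CommRing

/-!
# The chart algebras `chartAdm`
-/

set_option autoImplicit false
set_option linter.style.haveILetI false

universe u

noncomputable section

namespace FBlowLib

section Completion

variable {C : Type u} [CommRing C] (I₀ : Ideal C) (hI₀ : I₀.FG)

include hI₀ in
theorem exists_approx (x : AdicCompletion I₀ C) (n : ℕ) :
    ∃ a : C, x - algebraMap C (AdicCompletion I₀ C) a ∈ (I₀ ^ n).map (algebraMap C (AdicCompletion I₀ C)) := by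
  obtain ⟨a, ha⟩ := Submodule.mkQ_surjective (I₀ ^ n • ⊤ : Submodule C C) (AdicCompletion.eval I₀ C n x)
  refine ⟨a, ?_⟩
  have h : x - algebraMap C (AdicCompletion I₀ C) a ∈ (AdicCompletion.eval I₀ C n).ker := by
    rw [LinearMap.mem_ker, map_sub, AdicCompletion.algebraMap_apply, sub_eq_zero, ← ha]
    exact (AdicCompletion.eval_of I₀ C n a).symm
  rw [← AdicCompletion.pow_smul_top_eq_ker_eval hI₀, Ideal.smul_top_eq_map] at h
  exact h

include hI₀ in
theorem completion_hom_ext {B : Type u} [CommRing B] {Bn : ℕ → Type u} [∀ n, CommRing (Bn n)]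
    (π : ∀ n, B →+* Bn n) (hsep : ∀ b b', (∀ n, π n b = π n b') → b = b')
    (ψ ψ' : AdicCompletion I₀ C →+* B)
    (hψ : ∀ n, ∀ a ∈ I₀ ^ (n + 1), π n (ψ (algebraMap C _ a)) = 0)
    (hψ' : ∀ n, ∀ a ∈ I₀ ^ (n + 1), π n (ψ' (algebraMap C _ a)) = 0)
    (he : ∀ a, ψ (algebraMap C _ a) = ψ' (algebraMap C _ a)) : ψ = ψ' := by
  refine RingHom.ext fun x => hsep _ _ fun n => ?_
  obtain ⟨a, ha⟩ := exists_approx I₀ hI₀ x (n + 1)
  have k : ∀ (θ : AdicCompletion I₀ C →+* B), (∀ a ∈ I₀ ^ (n + 1), π n (θ (algebraMap C _ a)) = 0) →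
      π n (θ x) = π n (θ (algebraMap C _ a)) := fun θ hθ => by
    rw [← sub_eq_zero, ← map_sub, ← map_sub]
    exact (Ideal.map_le_iff_le_comap.2 fun z hz => hθ z hz :
      (I₀ ^ (n + 1)).map (algebraMap C (AdicCompletion I₀ C)) ≤ RingHom.ker ((π n).comp θ)) ha
  rw [k ψ (hψ n), k ψ' (hψ' n), he]

include hI₀ in
theorem exists_completion_family {Bn : ℕ → Type u} [∀ n, CommRing (Bn n)] (t : ∀ n, Bn (n + 1) →+* Bn n)
    (g : ∀ n, C →+* Bn n) (hg : ∀ n a, t n (g (n + 1) a) = g n a) (hkill : ∀ n, ∀ a ∈ I₀ ^ (n + 1), g n a = 0) :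
    ∃ G : ∀ n, AdicCompletion I₀ C →+* Bn n, (∀ n x, t n (G (n + 1) x) = G n x) ∧
      ∀ n a, G n (algebraMap C _ a) = g n a := by
  let G : ∀ n, AdicCompletion I₀ C →+* Bn n := fun n =>
    (Ideal.Quotient.lift (I₀ ^ (n + 1)) (g n) (hkill n)).comp (AdicCompletion.evalₐ I₀ (n + 1)).toRingHom
  have hG : ∀ n a, G n (algebraMap C _ a) = g n a := fun n a => by
    show Ideal.Quotient.lift (I₀ ^ (n + 1)) (g n) (hkill n) (AdicCompletion.evalₐ I₀ (n + 1) (algebraMap C _ a)) = _
    rw [AlgHom.commutes]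
    rfl
  have hGk : ∀ n, (I₀ ^ (n + 1)).map (algebraMap C (AdicCompletion I₀ C)) ≤ RingHom.ker (G n) := fun n =>
    Ideal.map_le_iff_le_comap.2 fun a ha => by
      rw [Ideal.mem_comap, RingHom.mem_ker, hG]
      exact hkill n a ha
  refine ⟨G, fun n x => ?_, hG⟩
  obtain ⟨a, ha⟩ := exists_approx I₀ hI₀ x (n + 1 + 1)
  have h1 : G (n + 1) x = g (n + 1) a := by
    rw [← hG, ← sub_eq_zero, ← map_sub]
    exact hGk (n + 1) ha
  have h2 : G n x = g n a := by
    rw [← hG, ← sub_eq_zero, ← map_sub]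
    exact hGk n (Ideal.map_mono (Ideal.pow_le_pow_right (Nat.le_succ _)) ha)
  rw [h1, h2, hg]

end Completion

section Chart

variable {R A : Type u} [CommRing R] [CommRing A] [Algebra R A] (I : Ideal R) {ι : Type} (f : ι → A) (i : ι)

/-- The chart algebra to the admissible chart. -/
def chartMap : AdicRing.chartAlg f i →+* AdicRing.chartAdm I f i :=
  (Ideal.Quotient.mk _).comp (algebraMap (AdicRing.chartAlg f i) (AdicRing.chartCompl I f i))

theorem chartMap_algebraMap (a : A) :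
    chartMap I f i (algebraMap A (AdicRing.chartAlg f i) a) = algebraMap A (AdicRing.chartAdm I f i) a := by
  rw [chartMap, RingHom.comp_apply, ← IsScalarTower.algebraMap_apply]
  rfl

theorem chart_rel (j : {j : ι // j ≠ i}) :
    algebraMap A (AdicRing.chartAlg f i) (f i) * Ideal.Quotient.mk _ (MvPolynomial.X j) =
      algebraMap A (AdicRing.chartAlg f i) (f j.1) := by
  show Ideal.Quotient.mk _ (MvPolynomial.C (f i)) * Ideal.Quotient.mk _ (MvPolynomial.X j) =
    Ideal.Quotient.mk _ (MvPolynomial.C (f j.1))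
  rw [← map_mul, Ideal.Quotient.eq]
  exact Ideal.subset_span ⟨j, rfl⟩

theorem chartAdm_mem_span (j : ι) :
    algebraMap A (AdicRing.chartAdm I f i) (f j) ∈ Ideal.span {algebraMap A (AdicRing.chartAdm I f i) (f i)} := by
  by_cases hj : j = i
  · subst hj; exact Ideal.mem_span_singleton_self _
  · have h := congrArg (chartMap I f i) (chart_rel f i ⟨j, hj⟩)
    rw [map_mul, chartMap_algebraMap, chartMap_algebraMap] at h
    exact Ideal.mem_span_singleton.2 ⟨_, h.symm⟩

theorem chartAdm_nzd (x : AdicRing.chartAdm I f i)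
    (hx : x * algebraMap A (AdicRing.chartAdm I f i) (f i) = 0) : x = 0 := by
  obtain ⟨y, rfl⟩ := Ideal.Quotient.mk_surjective x
  set c := algebraMap A (AdicRing.chartCompl I f i) (f i) with hc
  have hdir : Directed (· ≤ ·) fun n : ℕ =>
      Submodule.torsionBy (AdicRing.chartCompl I f i) (AdicRing.chartCompl I f i) (c ^ n) :=
    Monotone.directed_le fun m n hmn z hz => by
      rw [Submodule.mem_torsionBy_iff] at hz ⊢
      rw [← Nat.add_sub_cancel' hmn, pow_add, mul_comm, mul_smul, hz, smul_zero]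
  have h0 : y * c ∈ (⨆ n : ℕ, Submodule.torsionBy (AdicRing.chartCompl I f i) (AdicRing.chartCompl I f i) (c ^ n) :
      Ideal (AdicRing.chartCompl I f i)) := by
    rw [← Ideal.Quotient.eq_zero_iff_mem]
    exact hx
  obtain ⟨n, hn⟩ := (Submodule.mem_iSup_of_directed _ hdir).1 h0
  rw [Ideal.Quotient.eq_zero_iff_mem]
  refine (Submodule.mem_iSup_of_directed _ hdir).2 ⟨n + 1, ?_⟩
  rw [Submodule.mem_torsionBy_iff] at hn ⊢
  rw [smul_eq_mul] at hn ⊢
  rw [← hn, pow_succ]
  ring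

theorem map_chartMap :
    (I.map (algebraMap R (AdicRing.chartAlg f i))).map (chartMap I f i) =
      I.map (algebraMap R (AdicRing.chartAdm I f i)) := by
  rw [Ideal.map_map]
  congr 1

/-- A ring map out of a chart is determined on `A`, up to separation. -/
theorem chart_hom_ext (hI : I.FG) {B : Type u} [CommRing B] {Bn : ℕ → Type u} [∀ n, CommRing (Bn n)]
    (π : ∀ n, B →+* Bn n) (hsep : ∀ b b', (∀ n, π n b = π n b') → b = b')
    (ψ ψ' : AdicRing.chartAdm I f i →+* B) (hc : ∀ b, b * ψ (algebraMap A _ (f i)) = 0 → b = 0)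
    (hψ : ∀ n, ∀ a ∈ I.map (algebraMap R (AdicRing.chartAdm I f i)) ^ (n + 1), π n (ψ a) = 0)
    (hψ' : ∀ n, ∀ a ∈ I.map (algebraMap R (AdicRing.chartAdm I f i)) ^ (n + 1), π n (ψ' a) = 0)
    (he : ∀ a, ψ (algebraMap A _ a) = ψ' (algebraMap A _ a)) : ψ = ψ' := by
  have hk : ∀ n, ∀ a ∈ I.map (algebraMap R (AdicRing.chartAlg f i)) ^ (n + 1),
      chartMap I f i a ∈ I.map (algebraMap R (AdicRing.chartAdm I f i)) ^ (n + 1) := fun n a ha => by
    rw [← map_chartMap, ← Ideal.map_pow]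
    exact Ideal.mem_map_of_mem _ ha
  refine Ideal.Quotient.ringHom_ext (completion_hom_ext _ (hI.map _) π hsep _ _
    (fun n a ha => hψ n _ (hk n a ha)) (fun n a ha => hψ' n _ (hk n a ha)) fun z => ?_)
  show ψ (chartMap I f i z) = ψ' (chartMap I f i z)
  have key : ψ.comp (chartMap I f i) = ψ'.comp (chartMap I f i) := by
    refine Ideal.Quotient.ringHom_ext (MvPolynomial.ringHom_ext (fun a => ?_) fun j => ?_)
    · show ψ (chartMap I f i (algebraMap A (AdicRing.chartAlg f i) a)) = ψ' (chartMap I f i (algebraMap A _ a))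
      rw [chartMap_algebraMap]
      exact he a
    · show ψ (chartMap I f i (Ideal.Quotient.mk _ (MvPolynomial.X j))) =
        ψ' (chartMap I f i (Ideal.Quotient.mk _ (MvPolynomial.X j)))
      have e := congrArg (chartMap I f i) (chart_rel f i j)
      rw [map_mul, chartMap_algebraMap, chartMap_algebraMap] at e
      have e1 := congrArg ψ e
      have e2 := congrArg ψ' e
      rw [map_mul] at e1 e2
      rw [← he, ← he] at e2
      refine sub_eq_zero.1 (hc _ ?_)
      linear_combination e1 - e2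
  exact RingHom.congr_fun key z

theorem exists_chart_hom (hI : I.FG) {B : Type u} [CommRing B] {Bn : ℕ → Type u} [∀ n, CommRing (Bn n)]
    (t : ∀ n, Bn (n + 1) →+* Bn n) (π : ∀ n, B →+* Bn n) (hπt : ∀ n b, t n (π (n + 1) b) = π n b)
    (hsep : ∀ b b', (∀ n, π n b = π n b') → b = b')
    (hlim : ∀ y : ∀ n, Bn n, (∀ n, t n (y (n + 1)) = y n) → ∃ b, ∀ n, π n b = y n)
    (φ : A →+* B) (hc : ∀ b, b * φ (f i) = 0 → b = 0) (hdiv : ∀ j, ∃ v, φ (f j) = φ (f i) * v)
    (hkill : ∀ n, ∀ r ∈ I ^ (n + 1), π n (φ (algebraMap R A r)) = 0) :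
    ∃ ψ : AdicRing.chartAdm I f i →+* B, ∀ a, ψ (algebraMap A _ a) = φ a := by
  choose v hv using hdiv
  let g₀ : AdicRing.chartAlg f i →+* B := Ideal.Quotient.lift _ (MvPolynomial.eval₂Hom φ fun j => v j.1) (fun p hp => by
    refine (Ideal.span_le.2 ?_ : _ ≤ RingHom.ker (MvPolynomial.eval₂Hom φ fun j : {j : ι // j ≠ i} => v j.1)) hp
    rintro _ ⟨j, rfl⟩
    rw [SetLike.mem_coe, RingHom.mem_ker, map_sub, map_mul]
    simp [← hv])
  have hg₀ : ∀ a, g₀ (algebraMap A _ a) = φ a := fun a => by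
    show MvPolynomial.eval₂Hom φ _ (MvPolynomial.C a) = _
    simp
  have hk0 : ∀ n, ∀ a ∈ I.map (algebraMap R (AdicRing.chartAlg f i)) ^ (n + 1), π n (g₀ a) = 0 := fun n a ha => by
    rw [← Ideal.map_pow] at ha
    refine (Ideal.map_le_iff_le_comap.2 fun r hr => ?_ :
      (I ^ (n + 1)).map (algebraMap R (AdicRing.chartAlg f i)) ≤ RingHom.ker ((π n).comp g₀)) ha
    rw [Ideal.mem_comap, RingHom.mem_ker, RingHom.comp_apply,
      IsScalarTower.algebraMap_apply R A (AdicRing.chartAlg f i), hg₀]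
    exact hkill n r hr
  obtain ⟨G, hG, hGa⟩ := exists_completion_family _ (hI.map _) t (fun n => (π n).comp g₀)
    (fun n a => hπt n (g₀ a)) hk0
  choose Ψ hΨ using fun x : AdicRing.chartCompl I f i => hlim (fun n => G n x) (fun n => hG n x)
  let Ψh : AdicRing.chartCompl I f i →+* B :=
    { toFun := Ψ
      map_one' := hsep _ _ fun n => by rw [hΨ, map_one, map_one]
      map_mul' := fun x y => hsep _ _ fun n => by rw [hΨ, map_mul, map_mul, hΨ, hΨ]
      map_zero' := hsep _ _ fun n => by rw [hΨ, map_zero, map_zero]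
      map_add' := fun x y => hsep _ _ fun n => by rw [hΨ, map_add, map_add, hΨ, hΨ] }
  have hΨa : ∀ a, Ψh (algebraMap A (AdicRing.chartCompl I f i) a) = φ a := fun a => hsep _ _ fun n => by
    refine (hΨ _ n).trans ?_
    rw [IsScalarTower.algebraMap_apply A (AdicRing.chartAlg f i) (AdicRing.chartCompl I f i), hGa]
    exact congrArg (π n) (hg₀ a)
  have hck : ∀ m, ∀ b, b * φ (f i) ^ m = 0 → b = 0 := fun m => by
    induction m with
    | zero => intro b hb; simpa using hb
    | succ m ih => intro b hb; exact ih b (hc _ (by rw [mul_assoc, ← pow_succ]; exact hb))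
  refine ⟨Ideal.Quotient.lift _ Ψh ?_, fun a => hΨa a⟩
  intro x hx
  refine (iSup_le fun m y hy => ?_ : _ ≤ RingHom.ker Ψh) hx
  rw [Submodule.mem_torsionBy_iff, smul_eq_mul] at hy
  rw [RingHom.mem_ker]
  refine hck m _ ?_
  have := congrArg Ψh hy
  rw [map_mul, map_pow, hΨa, map_zero] at this
  rw [mul_comm]
  exact this

end Chart

end FBlowLib
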