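import Groth.Agent.FBlowLib.GenLocus
import Groth.Agent.FBlowLib.ChartAlg

/-!
# The charts of an admissible blowing-up of a formal spectrum
-/

set_option autoImplicit false
set_option linter.style.haveILetI false

universe u

open CategoryTheory CategoryTheory.Limits AlgebraicGeometry TopologicalSpace Opposite FSch FBlow

noncomputable section

namespace FBlowLib

section Loci

variable {𝔛' : Sys.{u}} (h' : 𝔛'.IsFormal) {A : Type u} [CommRing A]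
  (q : ∀ n, 𝔛'.X n ⟶ Spec (CommRingCat.of A)) (hq : ∀ n, 𝔛'.ι n ≫ q (n + 1) = q n) {ι : Type*} (f : ι → A)

/-- The ideal generated by the images of the family. -/
abbrev famSh : IdealSh (𝔛'.Osh h') :=
  schIdealMap 𝔛' h' q hq (IdealSh.ofData (idealSpec A (Ideal.span (Set.range f))))

theorem famSh_le_spanSh (U : (𝔛'.X 0).Opens) :
    famSh h' q hq f ≤ spanSh (U := U) (pull h' q hq U '' Set.range f) := by
  refine schIdealMap_le h' q hq fun a ha W y hy hyU => ?_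
  refine ⟨W ⊓ U, inf_le_left, inf_le_right, ⟨hy, hyU⟩, ?_⟩
  rw [res_pull]
  have := Ideal.mem_map_of_mem (pull h' q hq (W ⊓ U)) ha
  rw [Ideal.map_span] at this
  refine Ideal.span_mono ?_ this
  rintro _ ⟨a, ha, rfl⟩
  exact ⟨_, ⟨a, ha, rfl⟩, res_pull h' q hq inf_le_right a⟩

theorem exists_gen_index (hinv : (famSh h' q hq f).IsInvertible) (x : 𝔛'.X 0) :
    ∃ (j : ι) (W : (𝔛'.X 0).Opens), x ∈ W ∧ IsGen (famSh h' q hq f) W (pull h' q hq W (f j)) := by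
  obtain ⟨_, ⟨_, ⟨j, rfl⟩, rfl⟩, W, i, hxW, hW⟩ := exists_gen_mem (isLocalSh_Osh h') hinv (U := ⊤)
    (pull h' q hq ⊤ '' Set.range f) (famSh_le_spanSh h' q hq f ⊤)
    (by rintro _ ⟨a, ha, rfl⟩; exact pull_mem_schIdealMap h' q hq (Ideal.subset_span ha) ⊤) (x := x) trivial
  exact ⟨j, W, hxW, res_pull h' q hq i (f j) ▸ hW⟩

theorem gen_iff_sect_eq (hinv : (famSh h' q hq f).IsInvertible) (i : ι) (x : 𝔛'.X 0) :
    (∃ W : (𝔛'.X 0).Opens, x ∈ W ∧ IsGen (famSh h' q hq f) W (pull h' q hq W (f i))) ↔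
      ∃ V : (𝔛'.X 0).Opens, x ∈ V ∧ ∀ V' : (𝔛'.X 0).Opens, V' ≤ V → (famSh h' q hq f).sect V' =
        (schIdealMap 𝔛' h' q hq (IdealSh.ofData (idealSpec A (Ideal.span {f i})))).sect V' := by
  constructor
  · rintro ⟨W, hxW, hW⟩
    refine ⟨W, hxW, fun V' hV' => le_antisymm (fun s hs => ?_) ?_⟩
    · obtain ⟨t, rfl⟩ := (hW.2 V' hV').2 s hs
      refine Ideal.mul_mem_left _ _ ?_
      rw [res_pull]
      exact pull_mem_schIdealMap h' q hq (Ideal.mem_span_singleton_self _) V'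
    · refine schIdealMap_le h' q hq (fun a ha V => ?_) V'
      exact pull_mem_schIdealMap h' q hq (Ideal.span_mono (Set.singleton_subset_iff.2 (Set.mem_range_self i)) ha) V
  · rintro ⟨V, hxV, hV⟩
    obtain ⟨j, U₀, hxU₀, he⟩ := exists_gen_index h' q hq f hinv x
    have he' := he.mono (inf_le_right : V ⊓ U₀ ≤ U₀)
    rw [res_pull] at he'
    have hle : schIdealMap 𝔛' h' q hq (IdealSh.ofData (idealSpec A (Ideal.span {f i}))) ≤
        divSh (pull h' q hq (V ⊓ U₀) (f i)) := by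
      refine schIdealMap_le h' q hq fun a ha W => ?_
      obtain ⟨d, rfl⟩ := Ideal.mem_span_singleton'.1 ha
      refine mem_divSh_of_eq _ fun W' k l => ⟨pull h' q hq W' d, ?_⟩
      rw [res_pull, res_pull, map_mul]
    have hmem : pull h' q hq (V ⊓ U₀) (f j) ∈
        (schIdealMap 𝔛' h' q hq (IdealSh.ofData (idealSpec A (Ideal.span {f i})))).sect (V ⊓ U₀) :=
      (hV _ inf_le_left).le he'.1
    obtain ⟨W, k, l, hxW, t, ht⟩ := hle _ hmem x ⟨hxV, hxU₀⟩ ⟨hxV, hxU₀⟩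
    replace he' := he'.mono k
    rw [res_pull, res_pull] at ht
    rw [res_pull] at he'
    obtain ⟨u, hu⟩ := (he'.2 W le_rfl).2 _ (pull_mem_schIdealMap h' q hq (Ideal.subset_span (Set.mem_range_self i)) W)
    rw [res_pull] at hu
    have htu : t * u = 1 := sub_eq_zero.1 ((he'.2 W le_rfl).1 _ (by
      rw [res_pull, sub_mul, one_mul, mul_assoc, ← hu, ← ht, sub_self]))
    refine ⟨W, hxW, pull_mem_schIdealMap h' q hq (Ideal.subset_span (Set.mem_range_self i)) W, fun V' m => ⟨fun s hs => ?_, fun s hs => ?_⟩⟩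
    · refine (he'.2 V' m).1 s ?_
      rw [res_pull, ← res_pull h' q hq m, ht, res, _root_.map_mul, mul_left_comm]
      exact (congrArg (_ * ·) hs).trans (mul_zero _)
    · obtain ⟨d, hd⟩ := (he'.2 V' m).2 s hs
      refine ⟨d * res _ m t, ?_⟩
      rw [hd, res_pull, ← res_pull h' q hq m (f j), ht, res, _root_.map_mul, mul_assoc]

variable {ℨ : Sys.{u}} (hℨ : ℨ.IsFormal) (u : ℨ ⟶ 𝔛') (q' : ∀ n, ℨ.X n ⟶ Spec (CommRingCat.of A))
  (hq' : ∀ n, ℨ.ι n ≫ q' (n + 1) = q' n) (hqq : ∀ n, (u : Hom ℨ 𝔛').app n ≫ q n = q' n)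

include hqq in
theorem mem_genLocus (hinv : (famSh h' q hq f).IsInvertible) (i : ι)
    (hnz : ∀ (V : (ℨ.X 0).Opens) (t : (ℨ.Osh hℨ).obj.obj (op V)), t * pull hℨ q' hq' V (f i) = 0 → t = 0)
    (hdiv : ∀ (j : ι) (V : (ℨ.X 0).Opens), ∃ d, pull hℨ q' hq' V (f j) = d * pull hℨ q' hq' V (f i))
    (y : ℨ.X 0) :
    ∃ W : (𝔛'.X 0).Opens, (u : Hom ℨ 𝔛').app 0 y ∈ W ∧ IsGen (famSh h' q hq f) W (pull h' q hq W (f i)) := by
  obtain ⟨j, W, hyW, hW⟩ := exists_gen_index h' q hq f hinv ((u : Hom ℨ 𝔛').app 0 y)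
  obtain ⟨t, ht⟩ := (hW.2 W le_rfl).2 _ (pull_mem_schIdealMap h' q hq (Ideal.subset_span (Set.mem_range_self i)) W)
  rw [res_pull] at ht
  have e := congrArg ((Hom.sharp u hℨ h').hom.app (op W)).hom ht
  replace e := e.trans (RingHom.map_mul _ t _)
  obtain ⟨d, hd⟩ := hdiv j ((u : Hom ℨ 𝔛').app 0 ⁻¹ᵁ W)
  have htu : IsUnit ((Hom.sharp u hℨ h').hom.app (op W) t) := by
    refine isUnit_iff_exists_inv.2 ⟨d, sub_eq_zero.1 (hnz _ _ ?_)⟩
    have e1 : (Hom.sharp u hℨ h').hom.app (op W) (pull h' q hq W (f i)) =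
        pull hℨ q' hq' ((u : Hom ℨ 𝔛').app 0 ⁻¹ᵁ W) (f i) := sharp_pull u hℨ h' q hq q' hq' hqq W (f i)
    have e2 : (Hom.sharp u hℨ h').hom.app (op W) (pull h' q hq W (f j)) =
        pull hℨ q' hq' ((u : Hom ℨ 𝔛').app 0 ⁻¹ᵁ W) (f j) := sharp_pull u hℨ h' q hq q' hq' hqq W (f j)
    have e3 : pull hℨ q' hq' ((u : Hom ℨ 𝔛').app 0 ⁻¹ᵁ W) (f i) =
        HMul.hMul (α := (ℨ.Osh hℨ).obj.obj (op ((u : Hom ℨ 𝔛').app 0 ⁻¹ᵁ W)))
          ((Hom.sharp u hℨ h').hom.app (op W) t) (pull hℨ q' hq' ((u : Hom ℨ 𝔛').app 0 ⁻¹ᵁ W) (f j)) :=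
      e1.symm.trans (e.trans (congrArg (fun z => HMul.hMul (α := (ℨ.Osh hℨ).obj.obj (op ((u : Hom ℨ 𝔛').app 0 ⁻¹ᵁ W)))
        ((Hom.sharp u hℨ h').hom.app (op W) t) z) e2))
    refine (sub_mul _ _ _).trans (sub_eq_zero.2 ?_)
    refine Eq.trans ?_ ((one_mul (pull hℨ q' hq' ((u : Hom ℨ 𝔛').app 0 ⁻¹ᵁ W) (f i))).symm)
    refine Eq.trans ?_ e3.symm
    refine (mul_assoc _ _ _).trans ?_
    rw [hd]
  obtain ⟨V, k, hyV, hu⟩ := isUnit_near_of_map h' hℨ u t htu y hyW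
  have hti : ∀ (V' : (𝔛'.X 0).Opens) (l : V' ≤ W), pull h' q hq V' (f i) =
      res (𝔛'.Osh h') l t * pull h' q hq V' (f j) := fun V' l => by
    refine (res_pull h' q hq l (f i)).symm.trans ((congrArg (res (𝔛'.Osh h') l) ht).trans ?_)
    exact ((𝔛'.Osh h').obj.map (homOfLE l).op).hom.map_mul _ _ |>.trans (congrArg (_ * ·) (res_pull h' q hq l (f j)))
  refine ⟨V, hyV, pull_mem_schIdealMap h' q hq (Ideal.subset_span (Set.mem_range_self i)) V,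
    fun V' m => ⟨fun s hs => ?_, fun s hs => ?_⟩⟩
  all_goals
    have hu' : IsUnit (res (𝔛'.Osh h') (m.trans k) t) := by
      rw [res, ← IdealSh.map_comp_apply k m]
      exact hu.map ((𝔛'.Osh h').obj.map (homOfLE m).op).hom
  · rw [res_pull, hti V' (m.trans k), mul_left_comm] at hs
    refine (hW.2 V' (m.trans k)).1 s ?_
    rw [res_pull]
    exact (IsUnit.mul_right_eq_zero hu').1 hs
  · obtain ⟨c, hc⟩ := (hW.2 V' (m.trans k)).2 s hs
    obtain ⟨w, hw⟩ := hu'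
    refine ⟨c * ↑w⁻¹, ?_⟩
    rw [hc, res_pull, res_pull, hti V' (m.trans k), ← hw, ← mul_assoc, mul_assoc c, Units.inv_mul, mul_one]

end Loci

section Main

variable {A : Type u} [CommRing A] {K : Ideal A} {C : Type u} [CommRing C] {J : Ideal C} (φ : A →+* C)
  (hle : K ≤ J.comap φ) {ι : Type} (f : ι → A) (i : ι) {𝔛' : Sys.{u}} (h' : 𝔛'.IsFormal)
  (b : 𝔛' ⟶ spf A K) (hC : (spf C J).IsFormal) (U : (𝔛'.X 0).Opens)

include hC in
theorem mem_of_factor (hgen : ∀ j, φ (f j) ∈ Ideal.span {φ (f i)}) (hc : ∀ x : C, x * φ (f i) = 0 → x = 0) {k : ℕ}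
    (hJ : J ^ k ≤ Ideal.span {φ (f i)}) (hinvX : (famSh h' (toSpecOf b) (toSpecOf_comm b) f).IsInvertible)
    (u : spf C J ⟶ 𝔛') (hu : u ≫ b = spfMap J K φ hle) (y : (spf C J).X 0) :
    ∃ W : (𝔛'.X 0).Opens, (u : Hom _ 𝔛').app 0 y ∈ W ∧ IsGen (famSh h' (toSpecOf b) (toSpecOf_comm b) f) W
      (pull h' (toSpecOf b) (toSpecOf_comm b) W (f i)) := by
  have hP : ∀ W a, pull hC (toSpecOf (𝟙 _ ≫ spfMap J K φ hle)) (toSpecOf_comm _) W a =
      pull hC (toSpecOf (𝟙 (spf C J))) (toSpecOf_comm _) W (φ a) := fun W a => pull_spfMap hC φ hle _ W a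
  refine mem_genLocus h' (toSpecOf b) (toSpecOf_comm b) f hC u (toSpecOf (𝟙 _ ≫ spfMap J K φ hle)) (toSpecOf_comm _)
    (fun n => by rw [Category.id_comp, ← hu]; exact toSpecOf_comp u b n) hinvX i
    (fun V t ht => pull_nzd hC _ (toSpecOf_comm _) (isSpfLike_id C J) hc hJ V t (by rwa [hP] at ht))
    (fun j V => ?_) y
  obtain ⟨d, hd⟩ := Ideal.mem_span_singleton'.1 (hgen j)
  exact ⟨pull hC (toSpecOf (𝟙 (spf C J))) (toSpecOf_comm _) V d, by rw [hP, hP, ← hd, _root_.map_mul]⟩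

variable (hW : (𝔛'.restrictOpen h' U).IsFormal)

theorem isGen_onOpen (hgenU : IsGen (famSh h' (toSpecOf b) (toSpecOf_comm b) f) U
      (pull h' (toSpecOf b) (toSpecOf_comm b) U (f i))) :
    IsGen (famSh hW (toSpecOf (𝔛'.restrictOpenι h' U ≫ b)) (toSpecOf_comm _) f) ⊤
      (pull hW (toSpecOf (𝔛'.restrictOpenι h' U ≫ b)) (toSpecOf_comm _) ⊤ (f i)) := by
  have htop : ⊤ ≤ (𝔛'.restrictOpenι h' U : Hom _ _).app 0 ⁻¹ᵁ U := fun y _ => (lvU_zero h' U).le y.2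
  unfold famSh at *
  rw [← idealMap_schIdealMap hW h' (toSpecOf b) (toSpecOf_comm b) (𝔛'.restrictOpenι h' U) _ (toSpecOf_comm _)
    (toSpecOf_comp _ b)]
  have e := (isGen_restrictOpenι h' hW hgenU).mono htop
  rw [sharp_pull (𝔛'.restrictOpenι h' U) hW h' _ (toSpecOf_comm b) _
    (toSpecOf_comm (𝔛'.restrictOpenι h' U ≫ b)) (toSpecOf_comp _ b) U (f i)] at e
  erw [res_pull hW] at e
  exact e

end Main

section Iso

variable {A : Type u} [CommRing A] {K : Ideal A} {C : Type u} [CommRing C] {J : Ideal C} (φ : A →+* C)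
  (hle : K ≤ J.comap φ) {𝔛' : Sys.{u}} (h' : 𝔛'.IsFormal) (b : 𝔛' ⟶ spf A K) (hC : (spf C J).IsFormal)
  {U : (𝔛'.X 0).Opens} (hW : (𝔛'.restrictOpen h' U).IsFormal)

include hC in
theorem isOpenImmersion_and_range (hmap : K.map φ = J) (u : spf C J ⟶ 𝔛') (hu : u ≫ b = spfMap J K φ hle)
    (huU : ∀ y, (u : Hom _ 𝔛').app 0 y ∈ U)
    (ψ : C →+* ((𝔛'.restrictOpen h' U).Osh hW).obj.obj (op ⊤))
    (hψ : ∀ a, ψ (φ a) = pull hW (toSpecOf (𝔛'.restrictOpenι h' U ≫ b)) (toSpecOf_comm _) ⊤ a)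
    (huniq : ∀ k : 𝔛'.restrictOpen h' U ⟶ 𝔛', k ≫ b = 𝔛'.restrictOpenι h' U ≫ b → k = 𝔛'.restrictOpenι h' U)
    (hext : ∀ g : spf C J ⟶ spf C J, g ≫ spfMap J K φ hle = spfMap J K φ hle → g = 𝟙 _) :
    (∀ n, IsOpenImmersion ((u : Hom _ 𝔛').app n)) ∧ Set.range ((u : Hom _ 𝔛').app 0).base = U := by
  obtain ⟨v, hv⟩ := exists_lift_restrictOpen h' hC u U huU
  have hψk : ∀ n, ∀ a ∈ J ^ (n + 1), topLvl hW n (ψ a) = 0 := by
    intro n a ha
    rw [← hmap, ← Ideal.map_pow] at ha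
    refine (Ideal.map_le_iff_le_comap.2 fun a' ha' => ?_ :
      Ideal.map φ (K ^ (n + 1)) ≤ RingHom.ker ((topLvl hW n).comp ψ)) ha
    rw [Ideal.mem_comap, RingHom.mem_ker, RingHom.comp_apply, hψ]
    exact topLvl_pull_pow hW _ n ha'
  obtain ⟨ρ, hρ⟩ : ∃ ρ : 𝔛'.restrictOpen h' U ⟶ spf C J, ρ ≫ spfMap J K φ hle = 𝔛'.restrictOpenι h' U ≫ b :=
    ⟨homSpf hW J ψ hψk, homSpf_ext hW fun a => by rw [pull_spfMap hW _ hle, pull_homSpf, hψ]⟩
  have hρv : ρ ≫ v = 𝟙 (𝔛'.restrictOpen h' U) := by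
    refine restrictOpenι_cancel h' ?_
    rw [Category.assoc, hv, Category.id_comp]
    exact huniq _ (by rw [Category.assoc, hu, hρ])
  have hvρ : v ≫ ρ = 𝟙 _ := hext _ (by rw [Category.assoc, hρ, ← Category.assoc, hv, hu])
  have e : ∀ n, (u : Hom _ 𝔛').app n = (v : Hom _ _).app n ≫ (𝔛'.lvU h' n U).ι := fun n => by rw [← hv]; rfl
  refine ⟨fun n => ?_, ?_⟩
  · have h3 := app_isIso_of_inverse v ρ hvρ hρv n
    let v' : (spf C J).X n ⟶ (𝔛'.lvU h' n U : Scheme.{u}) := (v : Hom _ _).app n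
    have : IsIso v' := h3
    have h4 : IsOpenImmersion (v' ≫ (𝔛'.lvU h' n U).ι) := inferInstance
    exact (e n).symm ▸ h4
  · have := app_isIso_of_inverse v ρ hvρ hρv 0
    ext x
    refine ⟨fun ⟨y, hy⟩ => hy ▸ huU y, fun hx => ?_⟩
    obtain ⟨y, hy⟩ := ((v : Hom _ _).app 0).surjective ⟨x, (lvU_zero h' U).ge hx⟩
    exact ⟨y, by rw [e]; exact congrArg Subtype.val hy⟩

omit hC hW in
theorem endo_eq_id (hC : (spf C J).IsFormal)
    (hext : ∀ ψ ψ' : C →+* ((spf C J).Osh hC).obj.obj (op ⊤), (∀ a, ψ (φ a) = ψ' (φ a)) →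
      (∀ n, ∀ x ∈ J ^ (n + 1), topLvl hC n (ψ x) = 0) → (∀ n, ∀ x ∈ J ^ (n + 1), topLvl hC n (ψ' x) = 0) →
      (∀ a, ψ' (φ a) = pull hC (toSpecOf (𝟙 (spf C J))) (toSpecOf_comm _) ⊤ (φ a)) → ψ = ψ')
    (g : spf C J ⟶ spf C J) (hg : g ≫ spfMap J K φ hle = spfMap J K φ hle) : g = 𝟙 _ := by
  refine homSpf_ext hC fun c => RingHom.congr_fun (hext _ _ (fun a => ?_)
    (fun n x hx => topLvl_pull_pow hC _ n hx) (fun n x hx => topLvl_pull_pow hC _ n hx) (fun a => rfl)) c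
  rw [← pull_spfMap hC φ hle g ⊤ a, ← pull_spfMap hC φ hle (𝟙 _) ⊤ a]
  refine congrArg (fun g : spf C J ⟶ spf A K => pull hC (toSpecOf g) (toSpecOf_comm g) ⊤ a) ?_
  rw [hg, Category.id_comp]

end Iso

section ChartAdm

variable {R : Type u} [CommRing R] {I : Ideal R} {A : Type u} [CommRing A] [Algebra R A] {ι : Type} (f : ι → A)
  (i : ι) {𝔛' : Sys.{u}} (h' : 𝔛'.IsFormal) (b : 𝔛' ⟶ spf A (I.map (algebraMap R A))) {U : (𝔛'.X 0).Opens}
  (hW : (𝔛'.restrictOpen h' U).IsFormal)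

theorem exists_chartSec (hI : I.FG)
    (hgen : IsGen (famSh hW (toSpecOf (𝔛'.restrictOpenι h' U ≫ b)) (toSpecOf_comm _) f) ⊤
      (pull hW (toSpecOf (𝔛'.restrictOpenι h' U ≫ b)) (toSpecOf_comm _) ⊤ (f i))) :
    ∃ ψ : AdicRing.chartAdm I f i →+* ((𝔛'.restrictOpen h' U).Osh hW).obj.obj (op ⊤),
      ∀ a, ψ (algebraMap A _ a) = pull hW (toSpecOf (𝔛'.restrictOpenι h' U ≫ b)) (toSpecOf_comm _) ⊤ a := by
  generalize 𝔛'.restrictOpenι h' U ≫ b = ιb at hgen ⊢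
  generalize 𝔛'.restrictOpen h' U = 𝔚 at hW ιb hgen ⊢
  refine exists_chart_hom I f i hI (Bn := fun n => Γ(𝔚.X n, ⊤))
    (fun n => ((𝔚.ι n).appLE ⊤ ⊤ le_top).hom) (topLvl hW) (topLvl_succ hW)
    (fun s s' e => FModLib.oSec_ext hW ⊤ e) (exists_oSec hW ⊤)
    (pull hW (toSpecOf ιb) (toSpecOf_comm ιb) ⊤) (fun t ht => ?_) (fun j => ?_)
    (fun n r hr => topLvl_pull_pow hW ιb n (by rw [← Ideal.map_pow]; exact Ideal.mem_map_of_mem _ hr))
  · refine (hgen.2 ⊤ le_rfl).1 t ?_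
    rw [res, IdealSh.map_id_apply]
    exact ht
  · obtain ⟨w, hw⟩ := (hgen.2 ⊤ le_rfl).2 _
      (pull_mem_schIdealMap hW _ (toSpecOf_comm ιb) (Ideal.subset_span (Set.mem_range_self j)) ⊤)
    rw [res, IdealSh.map_id_apply] at hw
    exact ⟨w, hw.trans (mul_comm _ _)⟩

variable {f i}

end ChartAdm

section Abstract

variable {A : Type u} [CommRing A] {K : Ideal A} {C : Type u} [CommRing C] {J : Ideal C} (φ : A →+* C)
  (hle : K ≤ J.comap φ) {ι : Type} (f : ι → A) (i : ι) {𝔛' : Sys.{u}} (h' : 𝔛'.IsFormal) (b : 𝔛' ⟶ spf A K)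
  (hC : (spf C J).IsFormal)

include hC in
theorem exists_chartImm (hmap : K.map φ = J) (hX : (spf A K).IsFormal)
    (hb : IsAdmBlowUp b h' hX (schIdealMap (spf A K) hX (spfToSpec A K) (spfToSpec_comm A K)
      (IdealSh.ofData (idealSpec A (Ideal.span (Set.range f))))))
    (hgen : ∀ j, φ (f j) ∈ Ideal.span {φ (f i)}) (hc : ∀ x : C, x * φ (f i) = 0 → x = 0) {k : ℕ}
    (hJ : J ^ k ≤ Ideal.span {φ (f i)})
    (hext : ∀ ψ ψ' : C →+* ((spf C J).Osh hC).obj.obj (op ⊤), (∀ a, ψ (φ a) = ψ' (φ a)) →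
      (∀ n, ∀ x ∈ J ^ (n + 1), topLvl hC n (ψ x) = 0) → (∀ n, ∀ x ∈ J ^ (n + 1), topLvl hC n (ψ' x) = 0) →
      (∀ a, ψ' (φ a) = pull hC (toSpecOf (𝟙 (spf C J))) (toSpecOf_comm _) ⊤ (φ a)) → ψ = ψ')
    (hsec : ∀ (U : (𝔛'.X 0).Opens) (hW : (𝔛'.restrictOpen h' U).IsFormal),
      IsGen (famSh hW (toSpecOf (𝔛'.restrictOpenι h' U ≫ b)) (toSpecOf_comm _) f) ⊤
        (pull hW (toSpecOf (𝔛'.restrictOpenι h' U ≫ b)) (toSpecOf_comm _) ⊤ (f i)) →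
      ∃ ψ : C →+* ((𝔛'.restrictOpen h' U).Osh hW).obj.obj (op ⊤),
        ∀ a, ψ (φ a) = pull hW (toSpecOf (𝔛'.restrictOpenι h' U ≫ b)) (toSpecOf_comm _) ⊤ a) :
    ∃ u : spf C J ⟶ 𝔛', u ≫ b = spfMap J K φ hle ∧ (∀ n, IsOpenImmersion ((u : Hom _ 𝔛').app n)) ∧
      Set.range ((u : Hom _ 𝔛').app 0).base = {x : 𝔛'.X 0 | ∃ W : (𝔛'.X 0).Opens, x ∈ W ∧
        IsGen (famSh h' (toSpecOf b) (toSpecOf_comm b) f) W (pull h' (toSpecOf b) (toSpecOf_comm b) W (f i))} := by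
  have hinvX : (famSh h' (toSpecOf b) (toSpecOf_comm b) f).IsInvertible := by
    have := hb.2.1
    rwa [idealMap_schIdealMap h' hX (spfToSpec A K) (spfToSpec_comm A K) b (toSpecOf b) (toSpecOf_comm b)
      (fun _ => rfl)] at this
  obtain ⟨u, hu, -⟩ := hb.2.2 _ hC _ (isAdicHom_spfMap J K φ hle hmap)
    (isInvertible_idealMap_spfMap φ hle hX hC (Set.range f) (f i)
      (Set.mem_range_self i) (by rintro _ ⟨j, rfl⟩; exact hgen j) hc k hJ)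
  obtain ⟨U, hU, hgenU⟩ := exists_genOpen (famSh h' (toSpecOf b) (toSpecOf_comm b) f)
    (pull_mem_schIdealMap h' (toSpecOf b) (toSpecOf_comm b) (Ideal.subset_span (Set.mem_range_self i)) ⊤ :
      pull h' (toSpecOf b) (toSpecOf_comm b) ⊤ (f i) ∈ _)
  have hset : ∀ x, x ∈ U ↔ ∃ W : (𝔛'.X 0).Opens, x ∈ W ∧ IsGen (famSh h' (toSpecOf b) (toSpecOf_comm b) f) W
      (pull h' (toSpecOf b) (toSpecOf_comm b) W (f i)) := fun x => by
    rw [hU]
    simp only [res_pull]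
  rw [res_pull] at hgenU
  have hW := isFormal_restrictOpen h' U
  have hgenW := isGen_onOpen f i h' b U hW hgenU
  obtain ⟨ψ, hψ⟩ := hsec U hW hgenW
  have hinvW : (idealMap (𝔛'.restrictOpenι h' U ≫ b) hW hX (schIdealMap (spf A K) hX
      (spfToSpec A K) (spfToSpec_comm A K) (IdealSh.ofData (idealSpec A (Ideal.span (Set.range f)))))).IsInvertible := by
    rw [idealMap_schIdealMap hW hX (spfToSpec A K) (spfToSpec_comm A K) (𝔛'.restrictOpenι h' U ≫ b)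
      (toSpecOf (𝔛'.restrictOpenι h' U ≫ b)) (toSpecOf_comm _) (fun _ => rfl)]
    exact (isInvertible_iff _).2 fun _ => ⟨⊤, trivial, _, hgenW⟩
  obtain ⟨k', -, hk'⟩ := hb.2.2 _ hW _ (isAdicHom_comp (isAdicHom_restrictOpenι h' U) hb.1) hinvW
  obtain ⟨h1, h2⟩ := isOpenImmersion_and_range φ hle h' b hC hW hmap u hu
    (fun y => (hset _).2 (mem_of_factor φ hle f i h' b hC hgen hc hJ hinvX u hu y))
    ψ hψ (fun m e => (hk' m e).trans (hk' _ rfl).symm) (endo_eq_id φ hle hC hext)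
  refine ⟨u, hu, h1, ?_⟩
  rw [h2]
  exact Set.ext hset

end Abstract

theorem nzd_top_of_pull {A : Type u} [CommRing A] {C : Type u} [CommRing C] {J : Ideal C} (φ : A →+* C) (a : A)
    (hC : (spf C J).IsFormal) (hc : ∀ x : C, x * φ a = 0 → x = 0) {k : ℕ} (hJ : J ^ k ≤ Ideal.span {φ a})
    (ψ ψ' : C →+* ((spf C J).Osh hC).obj.obj (op ⊤)) (he : ∀ x, ψ (φ x) = ψ' (φ x))
    (he' : ∀ x, ψ' (φ x) = pull hC (toSpecOf (𝟙 (spf C J))) (toSpecOf_comm _) ⊤ (φ x))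
    (t : ((spf C J).Osh hC).obj.obj (op ⊤)) (ht : t * ψ (φ a) = 0) : t = 0 := by
  rw [he, he'] at ht
  exact pull_nzd hC _ (toSpecOf_comm _) (isSpfLike_id C J) hc hJ ⊤ t ht

theorem oSec_ext_top {𝔜 : Sys.{u}} (h : 𝔜.IsFormal) (s s' : (𝔜.Osh h).obj.obj (op ⊤))
    (e : ∀ n, topLvl h n s = topLvl h n s') : s = s' :=
  FModLib.oSec_ext h ⊤ e

section ChartAdmMain

variable {R : Type u} [CommRing R] {I : Ideal R} {A : Type u} [CommRing A] [Algebra R A] {ι : Type} (f : ι → A)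
  (i : ι)

theorem map_algebraMap_chartAdm :
    (I.map (algebraMap R A)).map (algebraMap A (AdicRing.chartAdm I f i)) =
      I.map (algebraMap R (AdicRing.chartAdm I f i)) := by
  rw [Ideal.map_map, ← IsScalarTower.algebraMap_eq]

theorem pow_le_span_chartAdm (k : ℕ) (hopen : (I ^ k).map (algebraMap R A) ≤ Ideal.span (Set.range f)) :
    I.map (algebraMap R (AdicRing.chartAdm I f i)) ^ k ≤
      Ideal.span {algebraMap A (AdicRing.chartAdm I f i) (f i)} := by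
  rw [← map_algebraMap_chartAdm, ← Ideal.map_pow, ← Ideal.map_pow]
  refine (Ideal.map_mono hopen).trans ?_
  rw [Ideal.map_span, Ideal.span_le]
  rintro _ ⟨_, ⟨j, rfl⟩, rfl⟩
  exact chartAdm_mem_span I f i j

theorem chartAdm_hext (hI : I.FG) {J : Ideal (AdicRing.chartAdm I f i)}
    (hJdef : J = I.map (algebraMap R (AdicRing.chartAdm I f i))) (hC : (spf (AdicRing.chartAdm I f i) J).IsFormal)
    {k : ℕ} (hJ : J ^ k ≤ Ideal.span {algebraMap A (AdicRing.chartAdm I f i) (f i)})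
    (ψ ψ' : AdicRing.chartAdm I f i →+* ((spf (AdicRing.chartAdm I f i) J).Osh hC).obj.obj (op ⊤))
    (he : ∀ a, ψ (algebraMap A _ a) = ψ' (algebraMap A _ a))
    (hk : ∀ n, ∀ x ∈ J ^ (n + 1), topLvl hC n (ψ x) = 0) (hk' : ∀ n, ∀ x ∈ J ^ (n + 1), topLvl hC n (ψ' x) = 0)
    (he' : ∀ a, ψ' (algebraMap A _ a) = pull hC (toSpecOf (𝟙 _)) (toSpecOf_comm _) ⊤ (algebraMap A _ a)) :
    ψ = ψ' := by
  have hc := nzd_top_of_pull (algebraMap A (AdicRing.chartAdm I f i)) (f i) hC (chartAdm_nzd I f i) hJ ψ ψ' he he'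
  subst hJdef
  exact chart_hom_ext (B := ((spf (AdicRing.chartAdm I f i) (I.map (algebraMap R (AdicRing.chartAdm I f i)))).Osh hC).obj.obj (op ⊤))
    (Bn := fun n => Γ((spf (AdicRing.chartAdm I f i) (I.map (algebraMap R (AdicRing.chartAdm I f i)))).X n, ⊤))
    I f i hI (topLvl hC) (oSec_ext_top hC) ψ ψ' hc hk hk' he

end ChartAdmMain

end FBlowLib
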