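import Groth.Agent.FBlowLib.DescendAff
import Groth.Agent.S13658

/-!
# Composites of admissible formal blowing-ups
-/

set_option autoImplicit false
set_option linter.style.haveILetI false

universe u

open CategoryTheory CategoryTheory.Limits AlgebraicGeometry TopologicalSpace Opposite FSch FBlow

noncomputable section

namespace FBlowLib

variable {R : Type u} [CommRing R] {I : Ideal R}

theorem idealMap_id {𝔛 : Sys.{u}} (h : 𝔛.IsFormal) (J : IdealSh (𝔛.Osh h)) : idealMap (𝟙 𝔛) h h J = J := by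
  refine ideal_le_antisymm (IdealSh.map_le fun W a ha V j => ?_) fun V s hs => ?_
  · rw [sharp_id]
    exact J.map_mem j ha
  · have := IdealSh.image_mem_map _ (Hom.sharp (𝟙 𝔛) h h) J hs (le_refl V)
    erw [IdealSh.map_id_apply, sharp_id] at this
    exact this

/-- The pull-back of an invertible open ideal to an admissible blowing-up stays invertible. -/
theorem isInvertible_idealMap_blowUp {𝔛' 𝔛'' : Sys.{u}} (h' : 𝔛'.IsFormal) (h'' : 𝔛''.IsFormal)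
    (p' : 𝔛' ⟶ spf R I) (hp' : IsAdicHom p') (hI : I.FG) {J' : IdealSh (𝔛'.Osh h')}
    (hJ' : IsCohOpen 𝔛' h' J') {b' : 𝔛'' ⟶ 𝔛'} (hb' : IsAdmBlowUp b' h'' h' J') {E : IdealSh (𝔛'.Osh h')}
    (hE : E.IsInvertible) {N : ℕ} (hEN : KerLe h' E N) : (idealMap b' h'' h' E).IsInvertible := by
  have hid : IsAdicHom (𝟙 𝔛') := fun n => by
    show IsPullback (𝔛'.ι n) (𝟙 _) (𝟙 _) (𝔛'.ι n)
    exact IsPullback.of_vert_isIso (CommSq.mk (by simp))
  refine (isInvertible_iff _).2 fun x => ?_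
  obtain ⟨U₁, hxU₁, e₁, he₁⟩ := (isInvertible_iff _).1 hE ((b' : Hom 𝔛'' 𝔛').app 0 x)
  obtain ⟨U₀, hU₀, hxU₀, hle⟩ := Opens.isBasis_iff_nbhd.mp (𝔛'.X 0).isBasis_affineOpens hxU₁
  have he := he₁.mono hle
  generalize res (𝔛'.Osh h') hle e₁ = e₀ at he
  have hEgen : ∀ (V : (𝔛'.X 0).Opens) (i : V ≤ U₀), ∀ r ∈ I ^ (N + 1),
      ∃ t, pull h' (toBase I (𝟙 𝔛' ≫ p')) (toBase_comm I (𝟙 𝔛' ≫ p')) V r = t * res _ i e₀ := fun V i r hr => by
    refine (he.2 V i).2 _ ?_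
    rw [← res_pull h' _ _ i]
    refine E.map_mem i ((kerLe_iff h' (𝟙 𝔛' ≫ p') ?_ hI E N).1 hEN U₀ hU₀ r hr)
    exact isAdicHom_comp hid hp'
  obtain ⟨W, hxW, hW⟩ := nzd_blowUp h' h' h'' p' (𝟙 𝔛') b' hp' hI hJ' hid
    (by rw [idealMap_id]; exact hb') e₀ (fun V i => (he.2 V i).1) N hEgen x hxU₀
  refine ⟨W ⊓ (b' : Hom 𝔛'' 𝔛').app 0 ⁻¹ᵁ U₀, ⟨hxW, hxU₀⟩,
    res _ inf_le_right ((Hom.sharp b' h'' h').hom.app (op U₀) e₀), ?_⟩
  refine isGen_of_le _ (IdealSh.map_mem _ inf_le_right (img_mem_map _ _ _ he.1)) (fun V i t ht => ?_) ?_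
  · rw [res, res, IdealSh.map_comp_apply] at ht
    exact hW V (i.trans inf_le_right) (i.trans inf_le_left) t ht
  · refine ideal_le_trans (map_spanSh_le {e₀} _ _ (le_spanSh_of_isGen he)) ?_
    refine ideal_le_trans (spanSh_le_divSh
      (img ((b' : Hom 𝔛'' 𝔛').app 0).base (Hom.sharp b' h'' h') _ '' {e₀})
      ((Hom.sharp b' h'' h').hom.app (op U₀) e₀) (fun a ha => by
        obtain ⟨a', rfl, rfl⟩ := ha
        exact ⟨1, (one_mul _).symm⟩)) ?_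
    intro V s hs y hy hyU
    obtain ⟨W', i, j, hyW, t, ht⟩ := hs y hy hyU.2
    refine ⟨W' ⊓ (W ⊓ (b' : Hom 𝔛'' 𝔛').app 0 ⁻¹ᵁ U₀), inf_le_left.trans i, inf_le_right, ⟨hyW, hyU⟩,
      res _ inf_le_left t, ?_⟩
    have e1 := congrArg ((𝔛''.Osh h'').obj.map
      (homOfLE (inf_le_left : W' ⊓ (W ⊓ (b' : Hom 𝔛'' 𝔛').app 0 ⁻¹ᵁ U₀) ≤ W')).op) ht
    simp only [res, map_mul, IdealSh.map_comp_apply] at e1 ⊢
    exact e1

/-- `E^k J'`. -/
def powMul {T : TopCat.{u}} {O : Sheaf (Opens.grothendieckTopology T) CommRingCat.{u}} (E J' : IdealSh O) :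
    ℕ → IdealSh O
  | 0 => J'
  | k + 1 => IdealSh.mul E (powMul E J' k)

theorem kerLe_powMul {𝔛 : Sys.{u}} (h : 𝔛.IsFormal) (p : 𝔛 ⟶ spf R I) (hp : IsAdicHom p) (hI : I.FG)
    {E J' : IdealSh (𝔛.Osh h)} {a L : ℕ} (hE : KerLe h E a) (hJ : KerLe h J' L) :
    ∀ k, KerLe h (powMul E J' k) (L + k * (a + 1))
  | 0 => by rw [Nat.zero_mul, Nat.add_zero]; exact hJ
  | k + 1 => by
    have := kerLe_mul h p hp hI hE (kerLe_powMul h p hp hI hE hJ k)
    rwa [show a + (L + k * (a + 1)) + 1 = L + (k + 1) * (a + 1) by rw [Nat.succ_mul]; omega] at this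

theorem powMul_ofLevel {𝔛 : Sys.{u}} (h : 𝔛.IsFormal) (p : 𝔛 ⟶ spf R I) (hp : IsAdicHom p) (hI : I.FG)
    {E J' : IdealSh (𝔛.Osh h)} {a L M : ℕ} (hE : KerLe h E a) (hJ : KerLe h J' L) {ℰ 𝒜' : (𝔛.X M).IdealSheafData}
    (eE : E = ofLevel 𝔛 h M ℰ) (eJ : J' = ofLevel 𝔛 h M 𝒜') :
    ∀ k, L + k * (a + 1) ≤ M → powMul E J' k = ofLevel 𝔛 h M (ℰ ^ k * 𝒜') := fun k => by
  induction k with
  | zero => intro _; rw [pow_zero, one_mul]; exact eJ
  | succ k ih =>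
    intro hk
    have hk' : KerLe h (IdealSh.mul E (powMul E J' k)) M :=
      (kerLe_powMul h p hp hI hE hJ (k + 1)).mono h p hp hI hk
    show IdealSh.mul E (powMul E J' k) = _
    rw [ih (by rw [Nat.succ_mul] at hk; omega), eE] at hk' ⊢
    rw [mul_ofLevel h p hp hI hk', ← mul_assoc, ← pow_succ']

theorem isInvertible_powMul {T : TopCat.{u}} {O : Sheaf (Opens.grothendieckTopology T) CommRingCat.{u}}
    {T' : TopCat.{u}} {O' : Sheaf (Opens.grothendieckTopology T') CommRingCat.{u}} (g : T' ⟶ T)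
    (φ : O ⟶ (TopCat.Sheaf.pushforward CommRingCat.{u} g).obj O') {E J' : IdealSh O}
    (hE : (IdealSh.map g φ E).IsInvertible) (hJ : (IdealSh.map g φ J').IsInvertible) :
    ∀ k, (IdealSh.map g φ (powMul E J' k)).IsInvertible
  | 0 => hJ
  | k + 1 => by
    show (IdealSh.map g φ (IdealSh.mul E _)).IsInvertible
    rw [map_mul_ideal]
    exact isInvertible_mul hE (isInvertible_powMul g φ hE hJ k)

theorem isInvertible_of_powMul {T : TopCat.{u}} {O : Sheaf (Opens.grothendieckTopology T) CommRingCat.{u}}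
    {T' : TopCat.{u}} {O' : Sheaf (Opens.grothendieckTopology T') CommRingCat.{u}} (g : T' ⟶ T)
    (φ : O ⟶ (TopCat.Sheaf.pushforward CommRingCat.{u} g).obj O') (hO : IsLocalSh O') {E J' : IdealSh O} :
    ∀ k, (IdealSh.map g φ (powMul E J' k)).IsInvertible → (IdealSh.map g φ J').IsInvertible
  | 0, h => h
  | k + 1, h => by
    refine isInvertible_of_powMul g φ hO (E := E) k (isInvertible_right_of_mul (J := IdealSh.map g φ E) hO ?_)
    rw [← map_mul_ideal]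
    exact h

/-- Multiplying the centre by a power of an invertible open ideal does not change the blowing-up. -/
theorem isAdmBlowUp_powMul {𝔛' 𝔛'' : Sys.{u}} {h' : 𝔛'.IsFormal} {h'' : 𝔛''.IsFormal}
    (p' : 𝔛' ⟶ spf R I) (hp' : IsAdicHom p') (hI : I.FG) {J' : IdealSh (𝔛'.Osh h')} (hJ' : IsCohOpen 𝔛' h' J')
    {b' : 𝔛'' ⟶ 𝔛'} (hb' : IsAdmBlowUp b' h'' h' J') {E : IdealSh (𝔛'.Osh h')} (hE : E.IsInvertible)
    {a : ℕ} (hEa : KerLe h' E a) (k : ℕ) : IsAdmBlowUp b' h'' h' (powMul E J' k) :=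
  ⟨hb'.1, isInvertible_powMul _ _ (isInvertible_idealMap_blowUp h' h'' p' hp' hI hJ' hb' hE hEa) hb'.2.1 k,
    fun 𝔜 h𝔜 g hg hinv => hb'.2.2 𝔜 h𝔜 g hg (isInvertible_of_powMul _ _ (isLocalSh_Osh h𝔜) k hinv)⟩

variable {𝔛 𝔛' : Sys.{u}} {h : 𝔛.IsFormal} {p : 𝔛 ⟶ spf R I} {h' : 𝔛'.IsFormal} {b : 𝔛' ⟶ 𝔛}
  {J : IdealSh (𝔛.Osh h)}

/-- An admissible formal blowing-up is quasi-compact at every level. -/
theorem quasiCompact_app (hp : IsAdicHom p) (hI : I.FG) (hJ : IsCohOpen 𝔛 h J) (hb : IsAdmBlowUp b h' h J) (n : ℕ) :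
    QuasiCompact ((b : Hom 𝔛' 𝔛).app n) := by
  rw [quasiCompact_iff_forall_isAffineOpen]
  intro W hW
  obtain ⟨V, hV, e⟩ := exists_lvA h n ⟨W, hW⟩
  obtain rfl : W = 𝔛.lvU h n V := congrArg Subtype.val e
  choose U hU hfg hxU hUV using fun x : V => exists_fgGoodOpen (h := h) (J := J) hp hI hJ x.1 x.2
  obtain ⟨t, ht⟩ := hV.isCompact.elim_finite_subcover (fun x : V => (U x : Set (𝔛.X 0))) (fun x => (U x).isOpen)
    fun x hx => Set.mem_iUnion.mpr ⟨⟨x, hx⟩, hxU ⟨x, hx⟩⟩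
  have e : ((b : Hom 𝔛' 𝔛).app n ⁻¹ᵁ 𝔛.lvU h n V : Set (𝔛'.X n)) =
      ⋃ x ∈ t, ((b : Hom 𝔛' 𝔛).app n ⁻¹' (𝔛.lvU h n (U x) : Set (𝔛.X n))) := by
    refine Set.Subset.antisymm (fun z hz => ?_) (Set.iUnion₂_subset fun x _ z hz => lvU_mono 𝔛 h n (hUV x) hz)
    obtain ⟨x, hxt, hx⟩ := Set.mem_iUnion₂.mp (ht hz)
    exact Set.mem_iUnion₂.mpr ⟨x, hxt, hx⟩
  rw [e]
  refine t.isCompact_biUnion fun x _ => ?_
  obtain ⟨P, q, hq⟩ : ∃ (P : Scheme.{u}) (q : P ⟶ Spec (CommRingCat.of ((𝔛.Osh h).obj.obj (op (U x))))),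
      BlowUp.IsBlowUp q (BlowUpLib.specIdeal (J.sect (U x))) := ⟨_, _, BlowUpLib.isBlowUp_proj _⟩
  obtain ⟨N, hN⟩ := (hU x).pow
  let ρA := pull h (toBase I p) (toBase_comm I p) (U x)
  have hgci := fun m => (isClosedImmersion_secFam (p := p) h hp hI (hU x).aff m).1
  have hbU := isAdmBlowUp_pullSys q (secFam h (U x)) (secFam_comm h (U x)) hq (N + 1)
    (show (I.map ρA) ^ (N + 1) ≤ J.sect (U x) by rw [← Ideal.map_pow, Ideal.map_le_iff_le_comap]; exact hN)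
    hgci (fun m => (isClosedImmersion_secFam (p := p) h hp hI (hU x).aff m).2) (isFormal_restrictOpen h (U x))
  rw [← idealMap_goodOpen (hU x)] at hbU
  have hover : IsBlowUpOver h J b h' ⊤ :=
    ⟨hb.1, hb.2.1, fun _ => trivial, fun ℨ hℨ v hv hi _ => hb.2.2 ℨ hℨ v hv hi⟩
  obtain ⟨s, -, hsn⟩ := hover.exists_trans le_top (isBlowUpOver_comp hbU)
  rw [← (hsn n).2]
  haveI := BlowUpLib.isProper_of_isBlowUp hq (idealFT_specIdeal (hfg x))
  haveI := hgci n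
  haveI : CompactSpace P := QuasiCompact.compactSpace_of_compactSpace q
  haveI := (isClosedImmersion_secFam (p := p) h hp hI (hU x).aff n).1
  haveI : IsClosedImmersion (pullback.fst q (secFam h (U x) n)) := MorphismProperty.pullback_fst _ _ this
  haveI : QuasiCompact (pullback.fst q (secFam h (U x) n)) := inferInstance
  haveI : CompactSpace ↑(pullback q (secFam h (U x) n)) :=
    QuasiCompact.compactSpace_of_compactSpace (pullback.fst q (secFam h (U x) n))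
  haveI : CompactSpace ↑((pullSys q (secFam h (U x)) (secFam_comm h (U x))).X n) := by
    show CompactSpace ↑(pullback q (secFam h (U x) n))
    infer_instance
  exact isCompact_range (Scheme.Hom.continuous _)

theorem compactSpace_blowUp [CompactSpace (𝔛.X 0)] (hp : IsAdicHom p) (hI : I.FG) (hJ : IsCohOpen 𝔛 h J)
    (hb : IsAdmBlowUp b h' h J) : CompactSpace (𝔛'.X 0) := by
  haveI := quasiCompact_app hp hI hJ hb 0
  exact QuasiCompact.compactSpace_of_compactSpace ((b : Hom 𝔛' 𝔛).app 0)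

/-- A power of the exceptional ideal times a coherent open ideal of the blowing-up descends. -/
theorem exists_descend_sys [CompactSpace (𝔛.X 0)] [QuasiSeparatedSpace (𝔛.X 0)] (hp : IsAdicHom p) (hI : I.FG)
    (hJ : IsCohOpen 𝔛 h J) (hb : IsAdmBlowUp b h' h J) {J' : IdealSh (𝔛'.Osh h')} (hJ' : IsCohOpen 𝔛' h' J') :
    ∃ (K : IdealSh (𝔛.Osh h)) (k a : ℕ), IsCohOpen 𝔛 h K ∧ KerLe h' (idealMap b h' h J) a ∧
      idealMap b h' h K = powMul (idealMap b h' h J) J' k := by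
  classical
  have hbp : IsAdicHom (b ≫ p) := isAdicHom_comp hb.1 hp
  haveI := compactSpace_blowUp hp hI hJ hb
  obtain ⟨a, hlevJ⟩ := exists_level h p hp hI hJ
  obtain ⟨L, hlev'⟩ := exists_level h' (b ≫ p) hbp hI hJ'
  have hEM : ∀ M (𝒜 : (𝔛.X M).IdealSheafData), J = ofLevel 𝔛 h M 𝒜 →
      idealMap b h' h J = ofLevel 𝔛' h' M (𝒜.comap ((b : Hom 𝔛' 𝔛).app M)) := fun M 𝒜 e => by
    rw [e]; exact idealMap_ofLevel h h' b p hp hI hb.1 M 𝒜
  have hEa : KerLe h' (idealMap b h' h J) a := by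
    obtain ⟨𝒜, -, e⟩ := hlevJ a le_rfl
    rw [hEM a 𝒜 e]
    exact kerLe_ofLevel h' a _
  have hJL : KerLe h' J' L := by
    obtain ⟨𝒜', -, e⟩ := hlev' L le_rfl
    exact e ▸ kerLe_ofLevel h' L 𝒜'
  choose U hU hfg hxU _ using fun x : 𝔛.X 0 =>
    exists_fgGoodOpen (h := h) (J := J) hp hI hJ x (U := ⊤) trivial
  choose N₁ hN₁ using fun x => exists_descend_good hp hI (hU x) (hfg x) hb L hlev'
  obtain ⟨t, ht⟩ := isCompact_univ.elim_finite_subcover (fun x => (U x : Set (𝔛.X 0))) (fun x => (U x).isOpen)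
    fun x _ => Set.mem_iUnion.mpr ⟨x, hxU x⟩
  let k := t.sup N₁
  let M := max a (L + k * (a + 1))
  have hLM : L ≤ M := (Nat.le_add_right L _).trans (le_max_right _ _)
  obtain ⟨𝒜, h𝒜, e𝒜⟩ := hlevJ M (le_max_left _ _)
  obtain ⟨𝒜', h𝒜', e𝒜'⟩ := hlev' M hLM
  let bM := (b : Hom 𝔛' 𝔛).app M
  let H := (𝒜.comap bM) ^ k * 𝒜'
  haveI : QuasiCompact bM := quasiCompact_app hp hI hJ hb M
  haveI : CompactSpace (𝔛.X M) := (𝔛.levelHomeo h M).compactSpace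
  haveI : QuasiSeparatedSpace (𝔛.X M) :=
    QuasiSeparatedSpace.of_isOpenEmbedding (𝔛.levelHomeo h M).symm.isOpenEmbedding
  choose 𝔎 h𝔎fg h𝔎 using fun x : t => hN₁ x.1 k (Finset.le_sup x.2) M hLM 𝒜 e𝒜 𝒜' e𝒜'
  let W : t → (𝔛.X M).affineOpens := fun x => lvA h (hU x.1).aff M
  have hcov : ∀ z : 𝔛'.X M, ∃ x : t, bM z ∈ (W x).1 := fun z => by
    obtain ⟨x, hxt, hx⟩ := Set.mem_iUnion₂.mp (ht (Set.mem_univ (𝔛.gInv h M (bM z))))
    exact ⟨⟨x, hxt⟩, hx⟩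
  have hle : ∀ x : t, 𝔎 x ≤ (H.map bM).ideal (W x) := fun x =>
    RGFlatLib.le_map_ideal H (W x) (𝔎 x) fun z hz => by
      obtain ⟨D, hD, hzD, hDle⟩ := Opens.isBasis_iff_nbhd.mp (𝔛'.X M).isBasis_affineOpens
        (show z ∈ bM ⁻¹ᵁ (W x).1 from hz)
      exact ⟨⟨D, hD⟩, hDle, hzD, (h𝔎 x ⟨D, hD⟩ hDle).le⟩
  choose K hKfg hKle hK using fun x : t => RGFlatLib.exists_ft_le (H.map bM) (W x) (𝔎 x) (h𝔎fg x) (hle x)
  have hsup : ∀ s : Finset t, FSch.IdealFT (s.sup K) ∧ s.sup K ≤ H.map bM := by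
    intro s
    refine ⟨?_, Finset.sup_le fun x _ => hKle x⟩
    induction s using Finset.induction_on with
    | empty => intro V; rw [Finset.sup_empty, Scheme.IdealSheafData.ideal_bot, Pi.bot_apply]; exact Submodule.fg_bot
    | insert x s _ ih => rw [Finset.sup_insert]; exact ModPairLib.fg_sup (hKfg x) ih
  have hcomap : (Finset.univ.sup K).comap bM = H := by
    refine le_antisymm (Scheme.IdealSheafData.le_map_iff_comap_le.mp (hsup _).2) ?_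
    choose x hx using hcov
    choose D hD hzD hDle using fun z => Opens.isBasis_iff_nbhd.mp (𝔛'.X M).isBasis_affineOpens
      (show z ∈ bM ⁻¹ᵁ (W (x z)).1 from hx z)
    refine Scheme.IdealSheafData.le_of_iSup_eq_top (fun z => ⟨D z, hD z⟩)
      (top_le_iff.mp fun z _ => Opens.mem_iSup.mpr ⟨z, hzD z⟩) fun z => ?_
    rw [Groth.Agent.S4666.ideal_comap_eq _ bM (W (x z)) ⟨D z, hD z⟩ (hDle z),
      ← h𝔎 (x z) ⟨D z, hD z⟩ (hDle z)]
    exact Ideal.map_mono ((hK _).trans (Finset.le_sup (f := K) (Finset.mem_univ (x z)) _))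
  refine ⟨ofLevel 𝔛 h M (Finset.univ.sup K), k, a, isCohOpen_ofLevel h (hsup _).1, hEa, ?_⟩
  rw [idealMap_ofLevel h h' b p hp hI hb.1 M, show (Finset.univ.sup K).comap ((b : Hom 𝔛' 𝔛).app M) = H from hcomap,
    powMul_ofLevel h' (b ≫ p) hbp hI hEa hJL (hEM M 𝒜 e𝒜) e𝒜' k (le_max_right _ _)]

end FBlowLib
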