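import Groth.Agent.FBlowLib.BlowLocal
import Groth.Agent.FBlowLib.BlowOver

/-!
# Pull-backs of a scheme blowing-up along the levels of a formal system; descent along open immersions
-/

set_option autoImplicit false
set_option linter.style.haveILetI false

universe u

open CategoryTheory CategoryTheory.Limits AlgebraicGeometry TopologicalSpace Opposite FSch FBlow

noncomputable section

namespace FBlowLib

variable {A : Type u} [CommRing A] {P : Scheme.{u}} (q : P ⟶ Spec (CommRingCat.of A)) {𝔚 : Sys.{u}}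
  (g : ∀ n, 𝔚.X n ⟶ Spec (CommRingCat.of A)) (hg : ∀ n, 𝔚.ι n ≫ g (n + 1) = g n)

/-- The pull-backs of a scheme over `Spec A` to the levels. -/
def pullSys : Sys.{u} where
  X n := pullback q (g n)
  ι n := pullback.lift (pullback.fst q (g n)) (pullback.snd q (g n) ≫ 𝔚.ι n)
    (by rw [Category.assoc, hg, pullback.condition])

theorem pullSys_fst_comm (n : ℕ) :
    (pullSys q g hg).ι n ≫ pullback.fst q (g (n + 1)) = pullback.fst q (g n) :=
  pullback.lift_fst _ _ _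

/-- The projection of the pull-backs. -/
def pullSysSnd : pullSys q g hg ⟶ 𝔚 := ⟨fun n => pullback.snd q (g n), fun _ => (pullback.lift_snd _ _ _).symm⟩

theorem isAdicHom_pullSysSnd : IsAdicHom (pullSysSnd q g hg) := fun n => by
  show IsPullback ((pullSys q g hg).ι n) (pullback.snd q (g n)) (pullback.snd q (g (n + 1))) (𝔚.ι n)
  refine IsPullback.of_right (t := (IsPullback.of_hasPullback q (g (n + 1)))) ?_ (pullback.lift_snd _ _ _)
  erw [pullback.lift_fst]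
  show IsPullback (pullback.fst q (g n)) (pullback.snd q (g n)) q (𝔚.ι n ≫ g (n + 1))
  rw [hg]
  exact IsPullback.of_hasPullback q (g n)

theorem isFormal_pullSys (hW : 𝔚.IsFormal) : (pullSys q g hg).IsFormal := fun n => by
  have := (hW n).1
  have : AlgebraicGeometry.Surjective (𝔚.ι n) := ⟨(hW n).2⟩
  exact ⟨MorphismProperty.of_isPullback (isAdicHom_pullSysSnd q g hg n).flip (‹_› : IsClosedImmersion (𝔚.ι n)),
    (MorphismProperty.of_isPullback (isAdicHom_pullSysSnd q g hg n).flip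
      (‹_› : AlgebraicGeometry.Surjective (𝔚.ι n))).surj⟩

theorem famComp_comm {ℨ : Sys.{u}} (v : ℨ ⟶ 𝔚) {Z : Scheme.{u}} (r : ∀ n, 𝔚.X n ⟶ Z)
    (hr : ∀ n, 𝔚.ι n ≫ r (n + 1) = r n) (n : ℕ) :
    ℨ.ι n ≫ (v : Hom ℨ 𝔚).app (n + 1) ≫ r (n + 1) = (v : Hom ℨ 𝔚).app n ≫ r n := by
  rw [← Category.assoc, ← (v : Hom ℨ 𝔚).comm, Category.assoc, hr]

variable {𝔞 K : Ideal A}

theorem isAdmBlowUp_pullSys (hb : BlowUp.IsBlowUp q (BlowUpLib.specIdeal 𝔞)) (k : ℕ) (hk : K ^ k ≤ 𝔞)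
    (hci : ∀ n, IsClosedImmersion (g n)) (hker : ∀ n, (g n).ker = BlowUpLib.specIdeal (K ^ (n + 1)))
    (hW : 𝔚.IsFormal) :
    IsAdmBlowUp (pullSysSnd q g hg) (isFormal_pullSys q g hg hW) hW
      (schIdealMap 𝔚 hW g hg (IdealSh.ofData (idealSpec A 𝔞))) := by
  refine ⟨isAdicHom_pullSysSnd q g hg, ?_, fun ℨ hℨ v _ hinv => ?_⟩
  · rw [idealMap_schIdealMap _ hW _ _ (pullSysSnd q g hg) _ (famComp_comm (pullSysSnd q g hg) g hg) (fun _ => rfl)]
    refine isInvertible_pullback hb k hk (isFormal_pullSys q g hg hW) (fun n => pullback.fst q (g n))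
      (pullSys_fst_comm q g hg) (fun n => ?_) (fun n => ?_) _ (fun n => pullback.condition) _
    · have := hci n
      exact inferInstanceAs (IsClosedImmersion (pullback.fst q (g n)))
    · have := hci n
      erw [Scheme.IdealSheafData.ker_fst_of_isClosedImmersion]
      rw [hker, FComplLib.specIdeal_pow, FComplLib.comap_pow_succ]
  rw [idealMap_schIdealMap hℨ _ _ _ v _ (famComp_comm v g hg) (fun _ => rfl)] at hinv
  obtain ⟨r, ⟨hr, hrq⟩, hu⟩ := exists_family_factor hb hℨ _ (famComp_comm v g hg) hinv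
  let κ : ℨ ⟶ pullSys q g hg :=
    ⟨fun n => pullback.lift (r n) ((v : Hom _ _).app n) (hrq n), fun n => by
      refine pullback.hom_ext ?_ ?_
      · erw [Category.assoc, Category.assoc, pullSys_fst_comm, pullback.lift_fst, pullback.lift_fst, hr]
      · erw [Category.assoc, Category.assoc, pullback.lift_snd, pullback.lift_snd_assoc, pullback.lift_snd]
        exact (v : Hom _ _).comm n⟩
  refine ⟨κ, Hom.ext (funext fun n => pullback.lift_snd _ _ _), fun m hm => ?_⟩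
  have hmn : ∀ n, (m : Hom _ _).app n ≫ pullback.snd q (g n) = (v : Hom _ _).app n := fun n =>
    congrArg (fun w : ℨ ⟶ 𝔚 => (w : Hom _ _).app n) hm
  have e := hu (fun n => (m : Hom _ _).app n ≫ pullback.fst q (g n))
    ⟨fun n => by
      rw [← Category.assoc, ← (m : Hom _ _).comm, Category.assoc]
      exact congrArg (_ ≫ ·) (pullSys_fst_comm q g hg n),
     fun n => by
      refine (Category.assoc _ _ _).trans ((congrArg (_ ≫ ·) pullback.condition).trans ?_)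
      exact (Category.assoc _ _ _).symm.trans (congrArg (· ≫ g n) (hmn n))⟩
  refine Hom.ext (funext fun n => pullback.hom_ext ?_ ?_)
  · exact (congrFun e n).trans (pullback.lift_fst _ _ _).symm
  · exact (hmn n).trans (pullback.lift_snd _ _ _).symm

section Iso

variable {𝔛 ℭ : Sys.{u}} (h : 𝔛.IsFormal) (c : ℭ ⟶ 𝔛) {W : (𝔛.X 0).Opens}

theorem exists_iso_restrictOpen (hℭ : ℭ.IsFormal) (hop : ∀ n, IsOpenImmersion ((c : Hom ℭ 𝔛).app n))
    (hrange : ∀ n, Set.range ((c : Hom ℭ 𝔛).app n) = (𝔛.lvU h n W : Set (𝔛.X n))) :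
    ∃ (r : 𝔛.restrictOpen h W ⟶ ℭ) (v : ℭ ⟶ 𝔛.restrictOpen h W),
      r ≫ c = 𝔛.restrictOpenι h W ∧ v ≫ 𝔛.restrictOpenι h W = c ∧ r ≫ v = 𝟙 _ ∧ v ≫ r = 𝟙 _ := by
  have hr : ∀ n, Set.range (𝔛.lvU h n W).ι ⊆ Set.range ((c : Hom ℭ 𝔛).app n) := fun n => by
    rw [hrange, Scheme.Opens.range_ι]
  let r : 𝔛.restrictOpen h W ⟶ ℭ := ⟨fun n => IsOpenImmersion.lift ((c : Hom ℭ 𝔛).app n) _ (hr n), fun n => by
    refine (cancel_mono ((c : Hom ℭ 𝔛).app (n + 1))).1 ?_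
    rw [Category.assoc, ← (c : Hom ℭ 𝔛).comm]
    erw [IsOpenImmersion.lift_fac_assoc, Category.assoc, IsOpenImmersion.lift_fac]
    exact ((𝔛.restrictOpenι h W : Hom _ _).comm n)⟩
  have hrc : r ≫ c = 𝔛.restrictOpenι h W := Hom.ext (funext fun n => IsOpenImmersion.lift_fac _ _ (hr n))
  obtain ⟨v, hv⟩ := exists_lift_restrictOpen h hℭ c W fun y => by
    have : (c : Hom ℭ 𝔛).app 0 y ∈ (𝔛.lvU h 0 W : Set (𝔛.X 0)) := hrange 0 ▸ Set.mem_range_self y
    exact (lvU_zero h W).le this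
  refine ⟨r, v, hrc, hv, restrictOpenι_cancel h (by rw [Category.assoc, hv, hrc, Category.id_comp]), ?_⟩
  refine Hom.ext (funext fun n => (cancel_mono ((c : Hom ℭ 𝔛).app n)).1 ?_)
  exact congrArg (fun f : ℭ ⟶ 𝔛 => (f : Hom ℭ 𝔛).app n)
    (show (v ≫ r) ≫ c = 𝟙 ℭ ≫ c by rw [Category.assoc, hrc, hv, Category.id_comp])

theorem isInvertible_restrict_of_openImm (hℭ : ℭ.IsFormal) (hop : ∀ n, IsOpenImmersion ((c : Hom ℭ 𝔛).app n))
    (hrange : ∀ n, Set.range ((c : Hom ℭ 𝔛).app n) = (𝔛.lvU h n W : Set (𝔛.X n)))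
    {K : IdealSh (𝔛.Osh h)} (hK : (idealMap c hℭ h K).IsInvertible) (hW : (𝔛.restrictOpen h W).IsFormal) :
    (idealMap (𝔛.restrictOpenι h W) hW h K).IsInvertible := by
  obtain ⟨r, v, hr, -, h1, h2⟩ := exists_iso_restrictOpen h c hℭ hop hrange
  rw [← hr, ← idealMap_idealMap r c hW hℭ h K]
  exact isInvertible_of_inverse hℭ hW r v h1 h2 hK

/-- Invertibility descends from an open, for a locally finitely generated ideal. -/
theorem exists_gen_descend (hW : (𝔛.restrictOpen h W).IsFormal) {K : IdealSh (𝔛.Osh h)}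
    (hinvW : (idealMap (𝔛.restrictOpenι h W) hW h K).IsInvertible) {x : 𝔛.X 0} {U₂ : (𝔛.X 0).Opens}
    (hxU₂ : x ∈ U₂) (hU₂W : U₂ ≤ W) (S : Set ((𝔛.Osh h).obj.obj (op U₂))) (hspan : K ≤ spanSh S)
    (hS : ∀ a ∈ S, a ∈ K.sect U₂) : ∃ U : (𝔛.X 0).Opens, x ∈ U ∧ ∃ e, IsGen K U e := by
  obtain ⟨x', hx'⟩ := (Scheme.Opens.range_ι (𝔛.lvU h 0 W)).ge ((lvU_zero h W).ge (hU₂W hxU₂))
  obtain ⟨_, ⟨a, ha, rfl⟩, W₁, i₁, hxW₁, hW₁⟩ := exists_gen_mem (isLocalSh_Osh hW) hinvW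
    (img ((𝔛.restrictOpenι h W : Hom _ _).app 0).base (Hom.sharp (𝔛.restrictOpenι h W) hW h) U₂ '' S)
    (map_spanSh_le S _ _ hspan) (by
      rintro _ ⟨b, hb, rfl⟩
      exact img_mem_map _ _ _ (hS b hb)) (x := x')
    (show (𝔛.restrictOpenι h W : Hom _ _).app 0 x' ∈ U₂ from hx' ▸ hxU₂)
  let ι₀ := (𝔛.restrictOpenι h W : Hom (𝔛.restrictOpen h W) 𝔛).app 0
  have : IsOpenImmersion ι₀ := inferInstanceAs (IsOpenImmersion (𝔛.lvU h 0 W).ι)
  obtain ⟨Z, hZ, hxZ, hZle⟩ := Opens.isBasis_iff_nbhd.mp (𝔛.X 0).isBasis_affineOpens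
    (show x ∈ U₂ ⊓ ι₀ ''ᵁ W₁ from ⟨hxU₂, ⟨x', hxW₁, hx'⟩⟩)
  have hZW : Z ≤ W := (hZle.trans inf_le_left).trans hU₂W
  have hpre : ι₀ ⁻¹ᵁ Z ≤ W₁ := fun w hw => by
    obtain ⟨u, hu, huw⟩ := (hZle hw).2
    exact ι₀.isOpenEmbedding.injective huw ▸ hu
  let σ : ∀ Z' : (𝔛.X 0).Opens, (𝔛.Osh h).obj.obj (op Z') →+*
      ((𝔛.restrictOpen h W).Osh hW).obj.obj (op (ι₀ ⁻¹ᵁ Z')) :=
    fun Z' => ((Hom.sharp (𝔛.restrictOpenι h W) hW h).hom.app (op Z')).hom
  have hσ : ∀ (Z' : (𝔛.X 0).Opens) (k : Z' ≤ U₂) (j : ι₀ ⁻¹ᵁ Z' ≤ W₁),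
      res _ j (res _ i₁ (img ι₀.base (Hom.sharp (𝔛.restrictOpenι h W) hW h) U₂ a)) = σ Z' (res _ k a) := fun Z' k j => by
    refine (IdealSh.map_comp_apply (O := (𝔛.restrictOpen h W).Osh hW) _ _ _).trans ?_
    exact (res_sharp (𝔛.restrictOpenι h W) hW h k a).symm
  refine ⟨Z, hxZ, res _ (hZle.trans inf_le_left) a, isGen_of_le _ (K.map_mem _ (hS a ha))
    (fun V' i t ht => ?_) (ideal_le_trans hspan fun V' s hs y hy hyZ => ?_)⟩
  · refine injective_sharp_restrictOpenι h W hW (i.trans hZW) ?_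
    show σ V' t = 0
    have e := congrArg (σ V') ht
    rw [map_mul, map_zero, res, res, IdealSh.map_comp_apply] at e
    refine (hW₁.2 (ι₀ ⁻¹ᵁ V') (((Opens.map ι₀.base).monotone i).trans hpre)).1 _ ?_
    rw [hσ V' (i.trans (hZle.trans inf_le_left))]
    exact e
  · obtain ⟨W', k, j, hyW', hspan'⟩ := hs y hy ((hZle.trans inf_le_left) hyZ)
    obtain ⟨Z', hZ', hyZ', hZ'le⟩ := Opens.isBasis_iff_nbhd.mp (𝔛.X 0).isBasis_affineOpens
      (show y ∈ W' ⊓ Z from ⟨hyW', hyZ⟩)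
    have kU : Z' ≤ U₂ := hZ'le.trans (inf_le_right.trans (hZle.trans inf_le_left))
    refine ⟨Z', (hZ'le.trans inf_le_left).trans k, hZ'le.trans inf_le_right, hyZ', ?_⟩
    rw [res, res, IdealSh.map_comp_apply]
    suffices Ideal.span (res (𝔛.Osh h) kU '' S) ≤ Ideal.span {res (𝔛.Osh h) kU a} by
      have e := res_mem_span S (hZ'le.trans inf_le_left) j kU hspan'
      rw [res, res, IdealSh.map_comp_apply] at e
      exact (Ideal.mem_span_singleton'.1 (this e)).imp fun _ ht => ht.symm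
    rw [Ideal.span_le]
    rintro _ ⟨b, hb, rfl⟩
    have hpre' : ι₀ ⁻¹ᵁ Z' ≤ W₁ := ((Opens.map ι₀.base).monotone (hZ'le.trans inf_le_right)).trans hpre
    obtain ⟨t, ht⟩ := (hW₁.2 (ι₀ ⁻¹ᵁ Z') hpre').2 (σ Z' (res _ kU b))
      (img_mem_map _ _ _ (K.map_mem kU (hS b hb)))
    obtain ⟨t₀, rfl⟩ := surjective_sharp_restrictOpenι h W hW (hZ'le.trans (inf_le_right.trans hZW)) hZ' t
    refine Ideal.mem_span_singleton'.2 ⟨t₀, sub_eq_zero.1 ?_⟩
    refine injective_sharp_restrictOpenι h W hW (hZ'le.trans (inf_le_right.trans hZW)) ?_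
    show σ Z' _ = 0
    rw [map_sub, map_mul, ← hσ Z' kU hpre', sub_eq_zero]
    exact ht.symm

end Iso

end FBlowLib
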