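import Groth.Agent.FBlowLib.LevelMul
import Groth.Agent.FBlowLib.PullSys
import Groth.Agent.RGFlatLib.Compose
import Groth.Agent.HilbPtsLib.ConnOpen

/-!
# Descending an open ideal of a blowing-up over a good open
-/

set_option autoImplicit false
set_option linter.style.haveILetI false

universe u

open CategoryTheory CategoryTheory.Limits AlgebraicGeometry TopologicalSpace Opposite FSch FBlow

noncomputable section

namespace FBlowLib

theorem comap_one {X Y : Scheme.{u}} (f : X ⟶ Y) : (1 : Y.IdealSheafData).comap f = 1 := by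
  have e : ∀ Z : Scheme.{u}, (1 : Z.IdealSheafData) = ⊤ := fun Z =>
    Scheme.IdealSheafData.ext (funext fun U => by simp [Scheme.IdealSheafData.ideal_top])
  simp [e]

theorem comap_pow {X Y : Scheme.{u}} (f : X ⟶ Y) (K : Y.IdealSheafData) :
    ∀ n : ℕ, (K ^ n).comap f = K.comap f ^ n
  | 0 => by rw [pow_zero, pow_zero, comap_one]
  | n + 1 => by rw [pow_succ, pow_succ, BlowUpLib.comap_mul, comap_pow f K n]

theorem idealFT_pow {X : Scheme.{u}} {K : X.IdealSheafData} (hK : FSch.IdealFT K) (n : ℕ) : FSch.IdealFT (K ^ n) :=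
  fun U => by
    rw [Scheme.IdealSheafData.ideal_pow, Pi.pow_apply]
    exact Ideal.FG.pow (hK U)

theorem idealFT_specIdeal {A : Type u} [CommRing A] {𝔞 : Ideal A} (h : 𝔞.FG) :
    FSch.IdealFT (BlowUpLib.specIdeal 𝔞) := fun U => by
  rw [← (BlowUpLib.specIdeal 𝔞).map_ideal (U := U) (V := ⟨⊤, isAffineOpen_top _⟩) (fun _ _ => trivial : U.1 ≤ (⊤ : (Spec (CommRingCat.of A)).Opens)), BlowUpLib.specIdeal_top]
  exact (h.map _).map _

theorem idealFT_map_closedImm {Z Y : Scheme.{u}} (i : Z ⟶ Y) [IsClosedImmersion i] (hker : FSch.IdealFT i.ker)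
    {K : Z.IdealSheafData} (hK : FSch.IdealFT K) : FSch.IdealFT (K.map i) := fun U => by
  have hU : IsAffineOpen (i ⁻¹ᵁ U.1) := U.2.preimage i
  have hs : Function.Surjective (i.app U.1) := by
    have := FComplLib.surjective_appLE i _ U.2 (i ⁻¹ᵁ U.1) le_rfl rfl
    rwa [Scheme.Hom.app_eq_appLE]
  rw [Scheme.IdealSheafData.ideal_map _ _ _ hU]
  refine Ideal.fg_of_fg_map_of_fg_inf_ker_of_surjective (f := (i.app U.1).hom) ?_ ?_ hs
  · exact (congrArg Submodule.FG (Ideal.map_comap_of_surjective _ hs _)).mpr (hK ⟨_, hU⟩)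
  · rw [inf_eq_right.2 (Ideal.ker_le_comap _), ← Scheme.Hom.ker_apply]
    exact hker U

theorem appLE_sq {B Y Z X : Scheme.{u}} (s : B ⟶ Y) (b : Y ⟶ X) (t : B ⟶ Z) (j : Z ⟶ X) (hsq : s ≫ b = t ≫ j)
    {W : X.Opens} {D : Y.Opens} {T : Z.Opens} {D' : B.Opens} (e : D ≤ b ⁻¹ᵁ W) (e' : D' ≤ s ⁻¹ᵁ D)
    (f : T ≤ j ⁻¹ᵁ W) (f' : D' ≤ t ⁻¹ᵁ T) :
    b.appLE W D e ≫ s.appLE D D' e' = j.appLE W T f ≫ t.appLE T D' f' := by
  rw [Scheme.Hom.appLE_comp_appLE, Scheme.Hom.appLE_comp_appLE]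
  simp only [hsq]

variable {R : Type u} [CommRing R] {I : Ideal R} {𝔛 𝔛' : Sys.{u}} {h : 𝔛.IsFormal} {p : 𝔛 ⟶ spf R I}
  {h' : 𝔛'.IsFormal} {b : 𝔛' ⟶ 𝔛} {J : IdealSh (𝔛.Osh h)} {J' : IdealSh (𝔛'.Osh h')}

omit h p in
/-- Comparison of two inverse images on an affine scheme. -/
theorem comap_specIdeal_eq_comap {A : Type u} [CommRing A] {X Z : Scheme.{u}} [IsAffine Z]
    (g : Z ⟶ Spec (CommRingCat.of A)) (j : Z ⟶ X) (W : X.affineOpens) (e : ⊤ ≤ j ⁻¹ᵁ W.1) (𝔞 : Ideal A)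
    (π : A →+* Γ(X, W.1)) (𝒜 : X.IdealSheafData) (h𝒜 : 𝔞.map π = 𝒜.ideal W)
    (hπ : ∀ a, g.appLE ⊤ ⊤ le_top ((Scheme.ΓSpecIso (CommRingCat.of A)).inv a) = j.appLE W.1 ⊤ e (π a)) :
    (BlowUpLib.specIdeal 𝔞).comap g = 𝒜.comap j := by
  refine Scheme.IdealSheafData.ext_of_isAffine ?_
  rw [Groth.Agent.S4666.ideal_comap_eq _ j W ⟨⊤, isAffineOpen_top _⟩ e, ← h𝒜,
    Groth.Agent.S4666.ideal_comap_eq _ g ⟨⊤, isAffineOpen_top _⟩ ⟨⊤, isAffineOpen_top _⟩ le_top,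
    BlowUpLib.specIdeal_top, Ideal.map_map, Ideal.map_map]
  exact congrArg (fun φ => Ideal.map φ 𝔞) (RingHom.ext hπ)

theorem idealMap_ofLevel_ideal {U : (𝔛.X 0).Opens} (hp : IsAdicHom p) (hI : I.FG) (hU : IsGoodOpen I h p J U)
    {M : ℕ} {𝒜 : (𝔛.X M).IdealSheafData} (e : J = ofLevel 𝔛 h M 𝒜) :
    (BlowUpLib.specIdeal (J.sect U)).comap (secFam h U M) = 𝒜.comap (𝔛.lvU h M U).ι := by
  have : IsAffine ((𝔛.restrictOpen h U).X M) := FModLib.isAffineOpen_lvU h hU.aff M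
  obtain ⟨e', -⟩ := pullLvl_secFam h U M 0
  refine comap_specIdeal_eq_comap (Z := (𝔛.restrictOpen h U).X M) (secFam h U M) _ (lvA h hU.aff M) e' _
    (lvPr h U M) 𝒜 ?_ fun a => ?_
  · exact (congrArg (fun K : IdealSh (𝔛.Osh h) => (K.sect U).map (lvPr h U M)) e).trans
      (map_sect_ofLevel h p hp hI hU.aff M 𝒜)
  · obtain ⟨e'', he''⟩ := pullLvl_secFam h U M a
    exact he''

/-- Over a good open, a power of the exceptional ideal times a coherent open ideal of the blowing-up comes from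
finitely generated ideals on the levels. -/
theorem exists_descend_good (hp : IsAdicHom p) (hI : I.FG) {U : (𝔛.X 0).Opens} (hU : IsGoodOpen I h p J U)
    (hfg : (J.sect U).FG) (hb : IsAdmBlowUp b h' h J) (L : ℕ)
    (hJ' : ∀ M, L ≤ M → ∃ 𝒜' : (𝔛'.X M).IdealSheafData, FSch.IdealFT 𝒜' ∧ J' = ofLevel 𝔛' h' M 𝒜') :
    ∃ N₁ : ℕ, ∀ N, N₁ ≤ N → ∀ M, L ≤ M → ∀ 𝒜 : (𝔛.X M).IdealSheafData, J = ofLevel 𝔛 h M 𝒜 →
      ∀ 𝒜' : (𝔛'.X M).IdealSheafData, J' = ofLevel 𝔛' h' M 𝒜' →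
      ∃ 𝔎 : Ideal Γ(𝔛.X M, 𝔛.lvU h M U), 𝔎.FG ∧
        ∀ (D : (𝔛'.X M).affineOpens) (e : D.1 ≤ (b : Hom 𝔛' 𝔛).app M ⁻¹ᵁ 𝔛.lvU h M U),
          𝔎.map (((b : Hom 𝔛' 𝔛).app M).appLE _ D.1 e).hom =
            ((𝒜.comap ((b : Hom 𝔛' 𝔛).app M)) ^ N * 𝒜').ideal D := by
  obtain ⟨N₀, hN₀⟩ := hU.pow
  let ρA := pull h (toBase I p) (toBase_comm I p) U
  obtain ⟨P, q, hq⟩ : ∃ (P : Scheme.{u}) (q : P ⟶ Spec (CommRingCat.of ((𝔛.Osh h).obj.obj (op U)))),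
      BlowUp.IsBlowUp q (BlowUpLib.specIdeal (J.sect U)) := ⟨_, _, BlowUpLib.isBlowUp_proj _⟩
  let g := secFam h U
  have hgci := fun n => (isClosedImmersion_secFam (p := p) h hp hI hU.aff n).1
  have hgker := fun n => (isClosedImmersion_secFam (p := p) h hp hI hU.aff n).2
  have hbU := isAdmBlowUp_pullSys q g (secFam_comm h U) hq (N₀ + 1)
    (show (I.map ρA) ^ (N₀ + 1) ≤ J.sect U by rw [← Ideal.map_pow, Ideal.map_le_iff_le_comap]; exact hN₀)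
    hgci hgker (isFormal_restrictOpen h U)
  rw [← idealMap_goodOpen hU] at hbU
  have hover : IsBlowUpOver h J b h' ⊤ :=
    ⟨hb.1, hb.2.1, fun _ => trivial, fun ℨ hℨ v hv hi _ => hb.2.2 ℨ hℨ v hv hi⟩
  obtain ⟨s, hs, hsn⟩ := hover.exists_trans le_top (isBlowUpOver_comp hbU)
  let B := pullSys q g (secFam_comm h U)
  have hB : B.IsFormal := isFormal_pullSys q g (secFam_comm h U) (isFormal_restrictOpen h U)
  have hsa : IsAdicHom s := isAdicHom_of_comp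
    (show IsAdicHom (s ≫ b) from hs.symm ▸ isAdicHom_comp (isAdicHom_pullSysSnd q g (secFam_comm h U))
      (isAdicHom_restrictOpenι h U)) hb.1
  have hbp : IsAdicHom (b ≫ p) := isAdicHom_comp hb.1 hp
  have hsp : IsAdicHom (s ≫ b ≫ p) := isAdicHom_comp hsa hbp
  let i : ∀ n, B.X n ⟶ P := fun n => pullback.fst q (g n)
  have hici : ∀ n, IsClosedImmersion (i n) := fun n => by
    have := hgci n
    exact inferInstanceAs (IsClosedImmersion (pullback.fst q (g n)))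
  have hG : ∃ G : P.IdealSheafData, BlowUp.IsFiniteTypeIdeal G ∧ ∀ M, L ≤ M → ∀ 𝒜' : (𝔛'.X M).IdealSheafData,
      J' = ofLevel 𝔛' h' M 𝒜' → G.comap (i M) = 𝒜'.comap ((s : Hom B 𝔛').app M) := by
    obtain ⟨𝒜L, hAL, eL⟩ := hJ' L le_rfl
    have := hici L
    refine ⟨(𝒜L.comap ((s : Hom B 𝔛').app L)).map (i L), idealFT_map_closedImm _ ?_
      (RGFlatLib.isFiniteTypeIdeal_comap hAL _), fun M hM 𝒜' e' => ?_⟩
    · have := hgci L
      show FSch.IdealFT (Scheme.Hom.ker (pullback.fst q (g L)))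
      rw [Scheme.IdealSheafData.ker_fst_of_isClosedImmersion, hgker L]
      exact RGFlatLib.isFiniteTypeIdeal_comap (idealFT_specIdeal (Ideal.FG.pow (hI.map _))) q
    have key : ∀ M, L ≤ M → ∃ ℬ : (B.X M).IdealSheafData, idealMap s hB h' J' = ofLevel B hB M ℬ ∧
        ℬ.map (i M) = (𝒜L.comap ((s : Hom B 𝔛').app L)).map (i L) := fun M hM => by
      induction M, hM using Nat.le_induction with
      | base => exact ⟨_, eL ▸ idealMap_ofLevel h' hB s (b ≫ p) hbp hI hsa L 𝒜L, rfl⟩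
      | succ M _ ih =>
        obtain ⟨ℬ, eℬ, hℬ⟩ := ih
        refine ⟨ℬ.map (B.ι M), eℬ.trans (ofLevel_succ hB (s ≫ b ≫ p) hsp hI M ℬ).symm, ?_⟩
        rw [← Scheme.IdealSheafData.map_comp]
        exact (congrArg ℬ.map (pullSys_fst_comm q g (secFam_comm h U) M)).trans hℬ
    obtain ⟨ℬ, eℬ, hℬ⟩ := key M hM
    have := hici M
    rw [← hℬ, HilbPts.Conn.comap_map_of_isClosedImmersion]
    refine ofLevel_injective hB (s ≫ b ≫ p) hsp hI M ?_
    rw [← eℬ, e']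
    exact idealMap_ofLevel h' hB s (b ≫ p) hbp hI hsa M 𝒜'
  obtain ⟨G, hGft, hGi⟩ := hG
  obtain ⟨N₁, K₀, hK₀, eK₀⟩ := RGFlatLib.exists_descend hq (idealFT_specIdeal hfg) G hGft
  refine ⟨N₁, fun N hN M hM 𝒜 eA 𝒜' eA' => ?_⟩
  let W := 𝔛.lvU h M U
  let sM : B.X M ⟶ 𝔛'.X M := (s : Hom B 𝔛').app M
  let snd : B.X M ⟶ (𝔛.restrictOpen h U).X M := pullback.snd q (g M)
  let bM := (b : Hom 𝔛' 𝔛).app M
  have hW : IsAffineOpen W := FModLib.isAffineOpen_lvU h hU.aff M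
  have : IsAffine ((𝔛.restrictOpen h U).X M) := hW
  have hsb : sM ≫ bM = snd ≫ W.ι :=
    congrArg (fun f : B ⟶ 𝔛 => (f : Hom B 𝔛).app M) hs
  let S := BlowUpLib.specIdeal (J.sect U)
  let KM : ((𝔛.restrictOpen h U).X M).IdealSheafData := (S ^ (N - N₁) * K₀).comap (g M)
  have hKM : KM.comap snd = ((𝒜.comap bM) ^ N * 𝒜').comap sM := by
    rw [← Scheme.IdealSheafData.comap_comp, show snd ≫ g M = i M ≫ q from pullback.condition.symm,
      Scheme.IdealSheafData.comap_comp, BlowUpLib.comap_mul q, comap_pow, eK₀, ← mul_assoc, ← pow_add,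
      Nat.sub_add_cancel hN, BlowUpLib.comap_mul (i M), comap_pow, hGi M hM 𝒜' eA', BlowUpLib.comap_mul sM, comap_pow]
    congr 2
    rw [← Scheme.IdealSheafData.comap_comp, show i M ≫ q = snd ≫ g M from pullback.condition,
      Scheme.IdealSheafData.comap_comp]
    erw [idealMap_ofLevel_ideal hp hI hU eA]
    erw [← Scheme.IdealSheafData.comap_comp, ← hsb, Scheme.IdealSheafData.comap_comp]
  obtain ⟨e₁, -⟩ := pullLvl_secFam h U M 0
  have hbij := bijective_appLE_top h U M e₁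
  let φ : Γ(𝔛.X M, W) →+* Γ((𝔛.restrictOpen h U).X M, ⊤) := (W.ι.appLE W ⊤ e₁).hom
  have hKMfg : (KM.ideal ⟨⊤, isAffineOpen_top _⟩).FG :=
    RGFlatLib.isFiniteTypeIdeal_comap (idealFT_mul (idealFT_pow (idealFT_specIdeal hfg) _) hK₀) (g M) _
  refine ⟨(KM.ideal ⟨⊤, isAffineOpen_top _⟩).comap φ, ?_, fun D e => ?_⟩
  · refine Ideal.fg_of_fg_map_of_fg_inf_ker_of_surjective (f := φ) ?_ ?_ hbij.2
    · exact (congrArg Submodule.FG (Ideal.map_comap_of_surjective φ hbij.2 _)).mpr hKMfg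
    · rw [(RingHom.injective_iff_ker_eq_bot φ).1 hbij.1, inf_bot_eq]
      exact Submodule.fg_bot
  have := (hsn M).1
  have hDr : (D.1 : Set (𝔛'.X M)) ⊆ Set.range sM := fun z hz => (hsn M).2.ge (e hz)
  have hle : D.1 ≤ sM.opensRange := hDr
  let D' : (B.X M).affineOpens := ⟨sM ⁻¹ᵁ D.1, D.2.preimage_of_isOpenImmersion sM hle⟩
  have : IsIso (sM.app D.1) := Scheme.Hom.isIso_app _ _ hle
  let ψ : Γ(𝔛'.X M, D.1) →+* Γ(B.X M, D'.1) := (sM.appLE D.1 D'.1 le_rfl).hom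
  have hψ : Function.Bijective ψ := by
    show Function.Bijective (sM.appLE D.1 (sM ⁻¹ᵁ D.1) le_rfl)
    rw [← Scheme.Hom.app_eq_appLE]
    exact ConcreteCategory.bijective_of_isIso _
  refine ((Ideal.comap_map_of_bijective ψ hψ).symm.trans ?_).trans (Ideal.comap_map_of_bijective ψ hψ)
  refine congrArg (Ideal.comap ψ) ?_
  refine Eq.trans ?_ (Groth.Agent.S4666.ideal_comap_eq _ sM D D' le_rfl)
  rw [← hKM, Groth.Agent.S4666.ideal_comap_eq _ snd ⟨⊤, isAffineOpen_top _⟩ D' le_top, Ideal.map_map]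
  refine Eq.trans ?_ (congrArg (Ideal.map _) (Ideal.map_comap_of_surjective φ hbij.2 _))
  refine Eq.trans ?_ (Ideal.map_map _ _).symm
  refine congrArg (fun χ => Ideal.map χ _) ?_
  change (bM.appLE W D.1 e ≫ sM.appLE D.1 D'.1 le_rfl).hom = (W.ι.appLE W ⊤ e₁ ≫ snd.appLE ⊤ D'.1 le_top).hom
  exact congrArg CommRingCat.Hom.hom (appLE_sq sM bM snd W.ι hsb _ _ _ _)

end FBlowLib
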