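import Groth.Agent.FBlowLib.Ideal

/-!
# Divisibility by a section, as an ideal sheaf
-/

set_option autoImplicit false

universe u

open CategoryTheory TopologicalSpace Opposite FBlow

noncomputable section

namespace FBlowLib

variable {T : TopCat.{u}} {O : Sheaf (Opens.grothendieckTopology T) CommRingCat.{u}}
  {U : Opens T} (g : O.obj.obj (op U))

/-- The sections locally divisible by `g` inside `U` (and arbitrary outside). -/
def divSh : IdealSh O where
  sect V :=
    { carrier := {s | ∀ y ∈ V, y ∈ U → ∃ (W : Opens T) (i : W ≤ V) (j : W ≤ U), y ∈ W ∧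
        ∃ t : O.obj.obj (op W), res O i s = t * res O j g}
      add_mem' := fun {a b} ha hb y hy hyU => by
        obtain ⟨W₁, i₁, j₁, hy₁, t₁, h₁⟩ := ha y hy hyU
        obtain ⟨W₂, i₂, j₂, hy₂, t₂, h₂⟩ := hb y hy hyU
        refine ⟨W₁ ⊓ W₂, inf_le_left.trans i₁, inf_le_left.trans j₁, ⟨hy₁, hy₂⟩,
          res O inf_le_left t₁ + res O inf_le_right t₂, ?_⟩
        have e₁ := congrArg (O.obj.map (homOfLE (inf_le_left : W₁ ⊓ W₂ ≤ W₁)).op) h₁
        have e₂ := congrArg (O.obj.map (homOfLE (inf_le_right : W₁ ⊓ W₂ ≤ W₂)).op) h₂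
        simp only [res, map_mul, IdealSh.map_comp_apply] at e₁ e₂ ⊢
        rw [map_add, add_mul, e₁]
        exact congrArg (_ + ·) e₂
      zero_mem' := fun y hy hyU => ⟨V ⊓ U, inf_le_left, inf_le_right, ⟨hy, hyU⟩, 0, by
        rw [res, map_zero, zero_mul]⟩
      smul_mem' := fun c {a} ha y hy hyU => by
        obtain ⟨W, i, j, hyW, t, ht⟩ := ha y hy hyU
        exact ⟨W, i, j, hyW, res O i c * t, by rw [smul_eq_mul, res, map_mul, mul_assoc, ← ht]⟩ }
  map_mem {V V'} i s hs y hy hyU := by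
    obtain ⟨W, k, j, hyW, t, ht⟩ := hs y (i hy) hyU
    refine ⟨W ⊓ V', inf_le_right, inf_le_left.trans j, ⟨hyW, hy⟩, res O inf_le_left t, ?_⟩
    have e := congrArg (O.obj.map (homOfLE (inf_le_left : W ⊓ V' ≤ W)).op) ht
    simp only [res, map_mul, IdealSh.map_comp_apply] at e ⊢
    exact e
  mem_of_local {V s} hs y hy hyU := by
    obtain ⟨V', i, hyV', hs'⟩ := hs y hy
    obtain ⟨W, k, j, hyW, t, ht⟩ := hs' y hyV' hyU
    refine ⟨W, k.trans i, j, hyW, t, ?_⟩
    rw [res, IdealSh.map_comp_apply] at ht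
    exact ht

theorem mem_divSh_of_eq {V : Opens T} {s : O.obj.obj (op V)}
    (h : ∀ (W : Opens T) (i : W ≤ V) (j : W ≤ U), ∃ t : O.obj.obj (op W), res O i s = t * res O j g) :
    s ∈ (divSh g).sect V :=
  fun _ hy hyU => ⟨V ⊓ U, inf_le_left, inf_le_right, ⟨hy, hyU⟩, h _ _ _⟩

theorem isGen_of_le {J : IdealSh O} (hg : g ∈ J.sect U)
    (hz : ∀ (V : Opens T) (i : V ≤ U) (t : O.obj.obj (op V)), t * res O i g = 0 → t = 0)
    (hle : J ≤ divSh g) : IsGen J U g :=
  ⟨hg, fun V i => ⟨hz V i, fun s hs => exists_eq_mul_of_local _ s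
    (fun W k t ht => hz W (k.trans i) t (by rwa [res, res, IdealSh.map_comp_apply] at ht))
    fun y hy => by
      obtain ⟨W, k, j, hyW, t, ht⟩ := hle V hs y hy (i hy)
      exact ⟨W, k, hyW, t, by rw [res, res, IdealSh.map_comp_apply]; exact ht⟩⟩⟩

end FBlowLib
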