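import Groth.Agent.FBlowLib.LevelMap
import Groth.Agent.RGFlatLib.Dominate

/-!
# Products of open ideals given by level data
-/

set_option autoImplicit false
set_option linter.style.haveILetI false

universe u

open CategoryTheory CategoryTheory.Limits AlgebraicGeometry TopologicalSpace Opposite FSch FBlow

noncomputable section

namespace FBlowLib

variable {R : Type u} [CommRing R] {I : Ideal R} {𝔛 : Sys.{u}} (h : 𝔛.IsFormal) (p : 𝔛 ⟶ spf R I)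
  (hp : IsAdicHom p) (hI : I.FG)

theorem idealFT_mul {X : Scheme.{u}} {𝒜 ℬ : X.IdealSheafData} (hA : FSch.IdealFT 𝒜) (hB : FSch.IdealFT ℬ) :
    FSch.IdealFT (𝒜 * ℬ) := fun U => by
  rw [Scheme.IdealSheafData.ideal_mul, Pi.mul_apply]
  exact Submodule.FG.mul (hA U) (hB U)

include hp hI

theorem kerLe_mul {J K : IdealSh (𝔛.Osh h)} {a b : ℕ} (hJ : KerLe h J a) (hK : KerLe h K b) :
    KerLe h (IdealSh.mul J K) (a + b + 1) :=
  (kerLe_iff h p hp hI _ _).2 fun V hV r hr => by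
    have hle : I ^ (a + b + 1 + 1) ≤
        ((IdealSh.mul J K).sect V).comap (pull h (toBase I p) (toBase_comm I p) V) := by
      rw [show a + b + 1 + 1 = (a + 1) + (b + 1) by omega, pow_add, Ideal.mul_le]
      intro x hx y hy
      rw [Ideal.mem_comap, map_mul]
      exact mem_mul ((kerLe_iff h p hp hI J a).1 hJ V hV x hx) ((kerLe_iff h p hp hI K b).1 hK V hV y hy)
    exact Ideal.mem_comap.1 (hle hr)

theorem mul_ofLevel {M : ℕ} {𝒜 ℬ : (𝔛.X M).IdealSheafData}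
    (hk : KerLe h (IdealSh.mul (ofLevel 𝔛 h M 𝒜) (ofLevel 𝔛 h M ℬ)) M) :
    IdealSh.mul (ofLevel 𝔛 h M 𝒜) (ofLevel 𝔛 h M ℬ) = ofLevel 𝔛 h M (𝒜 * ℬ) := by
  refine ideal_le_antisymm (mul_le fun W a b ha hb => ?_)
    (ideal_le_of_loc fun x => ⟨⊤, trivial, fun V hV _ s hs => ?_⟩)
  · refine (ofLevel 𝔛 h M (𝒜 * ℬ)).mem_of_local fun y hy => ?_
    obtain ⟨V, hV, hyV, hle⟩ := Opens.isBasis_iff_nbhd.mp (𝔛.X 0).isBasis_affineOpens hy
    refine ⟨V, hle, hyV, ?_⟩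
    rw [map_mul, mem_ofLevel_affine h hV, map_mul, Scheme.IdealSheafData.ideal_mul, Pi.mul_apply]
    exact Ideal.mul_mem_mul ((mem_ofLevel_affine h hV M 𝒜 _).1 ((ofLevel 𝔛 h M 𝒜).map_mem hle ha))
      ((mem_ofLevel_affine h hV M ℬ _).1 ((ofLevel 𝔛 h M ℬ).map_mem hle hb))
  · rw [mem_ofLevel_affine h hV, Scheme.IdealSheafData.ideal_mul, Pi.mul_apply,
      ← map_sect_ofLevel h p hp hI hV M 𝒜, ← map_sect_ofLevel h p hp hI hV M ℬ, ← Ideal.map_mul] at hs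
    obtain ⟨t, ht, e⟩ := (Ideal.mem_map_iff_of_surjective _ (surjective_lvPr h p hp hI hV M)).1 hs
    have hle : (ofLevel 𝔛 h M 𝒜).sect V * (ofLevel 𝔛 h M ℬ).sect V ≤
        (IdealSh.mul (ofLevel 𝔛 h M 𝒜) (ofLevel 𝔛 h M ℬ)).sect V :=
      Ideal.mul_le.2 fun a ha b hb => mem_mul ha hb
    rw [show s = t + (s - t) by abel]
    refine Ideal.add_mem _ (hle ht) (hk V ((IdealSh.mem_ker_iff _ _ _).2 ?_))
    show lvPr h V M (s - t) = 0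
    rw [map_sub, sub_eq_zero]
    exact e.symm

theorem isCohOpen_mul {J K : IdealSh (𝔛.Osh h)} (hJ : IsCohOpen 𝔛 h J) (hK : IsCohOpen 𝔛 h K) :
    IsCohOpen 𝔛 h (IdealSh.mul J K) := by
  intro x
  obtain ⟨U, hxU, a, 𝒜, h𝒜, eA⟩ := hJ x
  obtain ⟨U', hxU', b, ℬ, hℬ, eB⟩ := hK x
  obtain ⟨𝒜', h𝒜', e𝒜⟩ := exists_raise h p hp hI h𝒜 (show a ≤ a + b + 1 by omega)
  obtain ⟨ℬ', hℬ', eℬ⟩ := exists_raise h p hp hI hℬ (show b ≤ a + b + 1 by omega)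
  have e := mul_ofLevel h p hp hI (M := a + b + 1) (𝒜 := 𝒜') (ℬ := ℬ') (by
    rw [e𝒜, eℬ]
    exact kerLe_mul h p hp hI (kerLe_ofLevel h a 𝒜) (kerLe_ofLevel h b ℬ))
  refine ⟨U ⊓ U', ⟨hxU, hxU'⟩, a + b + 1, 𝒜' * ℬ', idealFT_mul h𝒜' hℬ', fun V hV => ?_⟩
  rw [← e, e𝒜, eℬ]
  have key : ∀ (J' K' J₁ K₁ : IdealSh (𝔛.Osh h)), (∀ W, W ≤ U ⊓ U' → J₁.sect W = J'.sect W) →
      (∀ W, W ≤ U ⊓ U' → K₁.sect W = K'.sect W) → (IdealSh.mul J₁ K₁).sect V ≤ (IdealSh.mul J' K').sect V := by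
    intro J' K' J₁ K₁ h1 h2 s hs y hy
    obtain ⟨W, i, hyW, hW⟩ := hs y hy
    refine ⟨W, i, hyW, Ideal.span_le.2 ?_ hW⟩
    rintro _ ⟨W₁, j, _, ⟨u, hu, v, hv, rfl⟩, rfl⟩
    rw [map_mul]
    refine Ideal.subset_span ⟨W, le_rfl, _, ⟨_, h1 W (i.trans hV) ▸ J₁.map_mem j hu, _,
      h2 W (i.trans hV) ▸ K₁.map_mem j hv, rfl⟩, ?_⟩
    rw [IdealSh.map_id_apply]
  exact le_antisymm (key _ _ _ _ (fun W hW => eA W (hW.trans inf_le_left)) fun W hW => eB W (hW.trans inf_le_right))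
    (key _ _ _ _ (fun W hW => (eA W (hW.trans inf_le_left)).symm) fun W hW => (eB W (hW.trans inf_le_right)).symm)

end FBlowLib
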