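import Groth.Agent.FBlowLib.NoethTop
import Groth.Agent.FBlowLib.LevelMul
import Groth.Agent.RGFlatLib.ExtendGlobal

/-!
# Extension of coherent open ideals from quasi-compact opens
-/

set_option autoImplicit false
set_option linter.style.haveILetI false

universe u

open CategoryTheory CategoryTheory.Limits AlgebraicGeometry TopologicalSpace Opposite FSch FBlow

noncomputable section

namespace FBlowLib

theorem ideal_eq_top_of_disjoint {X : Scheme.{u}} (I : X.IdealSheafData) (D : X.affineOpens)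
    (hd : ∀ x ∈ D.1, x ∉ (I.support : Set X)) : I.ideal D = ⊤ := by
  have hW2 : IsAffineOpen D.1 := D.2
  by_contra hne
  obtain ⟨m, hm, hle⟩ := Ideal.exists_le_maximal _ hne
  haveI := hm.isPrime
  have hxW : hW2.fromSpec ⟨m, hm.isPrime⟩ ∈ D.1 := by
    rw [← SetLike.mem_coe, ← hW2.range_fromSpec]; exact ⟨_, rfl⟩
  refine hd _ hxW ((Scheme.IdealSheafData.mem_support_iff_of_mem hxW).mpr
    ((Scheme.mem_zeroLocus_iff _ _ _).mpr fun a ha hxa => ?_))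
  have : (⟨m, hm.isPrime⟩ : PrimeSpectrum Γ(X, D.1)) ∈ hW2.fromSpec ⁻¹ᵁ X.basicOpen a := hxa
  rw [hW2.fromSpec_preimage_basicOpen] at this
  exact this (hle ha)

theorem fg_of_comap_openImm {X Z : Scheme.{u}} (g : Z ⟶ X) [IsOpenImmersion g] {K : X.IdealSheafData}
    (hK : FSch.IdealFT (K.comap g)) (D : X.affineOpens) (hD : (D.1 : Set X) ⊆ Set.range g) : (K.ideal D).FG := by
  have hle : D.1 ≤ g.opensRange := hD
  let D' : Z.affineOpens := ⟨g ⁻¹ᵁ D.1, D.2.preimage_of_isOpenImmersion g hle⟩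
  have : IsIso (g.app D.1) := Scheme.Hom.isIso_app _ _ hle
  let ψ : Γ(X, D.1) →+* Γ(Z, D'.1) := (g.appLE D.1 D'.1 le_rfl).hom
  have hψ : Function.Bijective ψ := by
    show Function.Bijective (g.appLE D.1 (g ⁻¹ᵁ D.1) le_rfl)
    rw [← Scheme.Hom.app_eq_appLE]
    exact ConcreteCategory.bijective_of_isIso _
  refine Ideal.fg_of_fg_map_of_fg_inf_ker_of_surjective (f := ψ) ?_ ?_ hψ.2
  · exact (congrArg Submodule.FG (Groth.Agent.S4666.ideal_comap_eq K g D D' le_rfl)).mp (hK D')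
  · rw [(RingHom.injective_iff_ker_eq_bot ψ).1 hψ.1, inf_bot_eq]
    exact Submodule.fg_bot

/-- Extension of finite type data from a quasi-compact open to the scheme, trivial outside its closure. -/
theorem exists_extend_data {X : Scheme.{u}} [QuasiSeparatedSpace X] (U Y E : X.Opens)
    (hUY : U ≤ Y) (hcov : ∀ x : X, x ∈ Y ∨ x ∈ E) (hEU : Disjoint (E : Set X) (U : Set X))
    (hY : IsCompact (Y : Set X)) (hU : IsCompact (U : Set X)) (hEY : IsCompact ((E : Set X) ∩ (Y : Set X)))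
    (𝒜 : (U : Scheme.{u}).IdealSheafData) (h𝒜 : FSch.IdealFT 𝒜) :
    ∃ ℬ : X.IdealSheafData, FSch.IdealFT ℬ ∧ ℬ.comap U.ι = 𝒜 ∧
      ∀ D : X.affineOpens, D.1 ≤ E → ℬ.ideal D = ⊤ := by
  haveI : CompactSpace (Y : Scheme.{u}) := isCompact_iff_compactSpace.1 hY
  haveI : QuasiSeparatedSpace (Y : Scheme.{u}) := QuasiSeparatedSpace.of_isOpenEmbedding Y.ι.isOpenEmbedding
  haveI : QuasiCompact Y.ι := by
    refine ⟨fun T hT hTc => ?_⟩
    rw [Y.ι.isOpenEmbedding.isCompact_iff, Set.image_preimage_eq_inter_range, Scheme.Opens.range_ι]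
    exact QuasiSeparatedSpace.inter_isCompact _ _ hT hTc Y.isOpen hY
  let V : (Y : Scheme.{u}).Opens := Y.ι ⁻¹ᵁ U
  let E' : (Y : Scheme.{u}).Opens := Y.ι ⁻¹ᵁ E
  have hV : IsCompact (V : Set (Y : Scheme.{u})) := by
    show IsCompact (Y.ι ⁻¹' (U : Set X))
    rw [Y.ι.isOpenEmbedding.isCompact_iff, Set.image_preimage_eq_inter_range, Scheme.Opens.range_ι,
      Set.inter_eq_left.2 hUY]
    exact hU
  have hE' : IsCompact (E' : Set (Y : Scheme.{u})) := by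
    show IsCompact (Y.ι ⁻¹' (E : Set X))
    rw [Y.ι.isOpenEmbedding.isCompact_iff, Set.image_preimage_eq_inter_range, Scheme.Opens.range_ι]
    exact hEY
  have hr1 : Set.range (V.ι ≫ Y.ι) ⊆ Set.range U.ι := by
    rw [Scheme.Opens.range_ι]
    rintro _ ⟨z, rfl⟩
    exact z.2
  let ρ : (V : Scheme.{u}) ⟶ (U : Scheme.{u}) := IsOpenImmersion.lift U.ι (V.ι ≫ Y.ι) hr1
  have hr2 : Set.range U.ι ⊆ Set.range (V.ι ≫ Y.ι) := by
    rw [Scheme.Opens.range_ι]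
    intro z hz
    exact ⟨⟨⟨z, hUY hz⟩, hz⟩, rfl⟩
  let σ : (U : Scheme.{u}) ⟶ (V : Scheme.{u}) := IsOpenImmersion.lift (V.ι ≫ Y.ι) U.ι hr2
  have hσρ : σ ≫ ρ = 𝟙 _ := (cancel_mono U.ι).1 (by
    rw [Category.assoc, IsOpenImmersion.lift_fac, IsOpenImmersion.lift_fac, Category.id_comp])
  have hd : Disjoint ((𝒜.comap ρ).support : Set (V : Scheme.{u}))
      ((V.ι ⁻¹ᵁ E' : (V : Scheme.{u}).Opens) : Set (V : Scheme.{u})) :=
    Set.disjoint_left.2 fun z _ hz => Set.disjoint_left.1 hEU hz z.2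
  obtain ⟨𝓙, ⟨h𝓙, hdis⟩, h𝓙V⟩ := RGFlatLib.exists_extend_ideal_global E' hE' V hV (𝒜.comap ρ)
    (RGFlatLib.isFiniteTypeIdeal_comap h𝒜 ρ) hd
  have hℬ : (𝓙.map Y.ι).comap Y.ι = 𝓙 := RGFlatLib.map_comap_of_isOpenImmersion _ _
  have htop : ∀ D : X.affineOpens, D.1 ≤ E → (𝓙.map Y.ι).ideal D = ⊤ := fun D hD =>
    ideal_eq_top_of_disjoint _ D fun x hx hs => by
      rw [Scheme.IdealSheafData.support_map] at hs
      refine Set.disjoint_left.1 (Disjoint.closure_left (Set.disjoint_left.2 ?_) E.isOpen) hs (hD hx)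
      rintro _ ⟨z, hz, rfl⟩ hzE
      exact Set.disjoint_left.1 hdis hz hzE
  refine ⟨𝓙.map Y.ι, idealFT_of_local fun x => ?_, ?_, htop⟩
  · rcases hcov x with hx | hx
    · refine ⟨Y, hx, fun D hD => fg_of_comap_openImm Y.ι (hℬ.symm ▸ h𝓙) D ?_⟩
      rw [Scheme.Opens.range_ι]
      exact hD
    · exact ⟨E, hx, fun D hD => by rw [htop D hD]; exact ⟨{1}, by simp⟩⟩
  · rw [← IsOpenImmersion.lift_fac (V.ι ≫ Y.ι) U.ι hr2]
    show (𝓙.map Y.ι).comap (σ ≫ V.ι ≫ Y.ι) = 𝒜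
    rw [Scheme.IdealSheafData.comap_comp, Scheme.IdealSheafData.comap_comp, hℬ, h𝓙V,
      ← Scheme.IdealSheafData.comap_comp, hσρ, Scheme.IdealSheafData.comap_id]

variable {R : Type u} [CommRing R] {I : Ideal R} {𝔛 : Sys.{u}} {h : 𝔛.IsFormal} {p : 𝔛 ⟶ spf R I}

theorem isCompact_lvU {U : (𝔛.X 0).Opens} (hU : IsCompact (U : Set (𝔛.X 0))) (n : ℕ) :
    IsCompact (𝔛.lvU h n U : Set (𝔛.X n)) :=
  (𝔛.levelHomeo h n).symm.isClosedEmbedding.isCompact_preimage hU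

/-- A coherent open ideal on a quasi-compact open extends, trivially outside the closure of the open. -/
theorem exists_extension [QuasiSeparatedSpace (𝔛.X 0)] (hR : AdicRing.IsBase R I) (hp : IsAdicHom p)
    (hfp : LocallyOfFinitePresentation ((p : Hom 𝔛 (spf R I)).app 0))
    (hqp : ∃ (ι : Type u) (V : ι → (𝔛.X 0).Opens), (⨆ i, V i) = ⊤ ∧ (∀ i, IsCompact (V i : Set (𝔛.X 0))) ∧
      ∀ i, Set.Finite {j : ι | V i ⊓ V j ≠ ⊥})
    {U : (𝔛.X 0).Opens} (hUc : IsCompact (U : Set (𝔛.X 0))) (hU : (𝔛.restrictOpen h U).IsFormal)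
    {JU : IdealSh ((𝔛.restrictOpen h U).Osh hU)} (hJU : IsCohOpen (𝔛.restrictOpen h U) hU JU) :
    ∃ J : IdealSh (𝔛.Osh h), IsCohOpen 𝔛 h J ∧ idealMap (𝔛.restrictOpenι h U) hU h J = JU ∧
      ∀ V : (𝔛.X 0).Opens, V ⊓ U = ⊥ → J.sect V = ⊤ := by
  classical
  have hI := AdicRingLib.fg_of_isBase hR
  obtain ⟨ι, W, hW, hWc, hWf⟩ := hqp
  have hcovW : ∀ x : 𝔛.X 0, ∃ i, x ∈ W i := fun x => Opens.mem_iSup.mp (hW.ge (show x ∈ (⊤ : (𝔛.X 0).Opens) from trivial))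
  obtain ⟨t, ht⟩ := hUc.elim_finite_subcover (fun i => (W i : Set (𝔛.X 0))) (fun i => (W i).isOpen)
    fun x _ => Set.mem_iUnion.mpr (hcovW x)
  have hT : Set.Finite {i : ι | W i ⊓ U ≠ ⊥} := by
    refine ((t.finite_toSet).biUnion fun j _ => hWf j).subset fun i hi => ?_
    obtain ⟨x, hxi, hxU⟩ := (Opens.ne_bot_iff_nonempty _).1 hi
    obtain ⟨j, hjt, hxj⟩ := Set.mem_iUnion₂.mp (ht hxU)
    exact Set.mem_biUnion hjt ((Opens.ne_bot_iff_nonempty _).2 ⟨x, hxj, hxi⟩)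
  let Y : (𝔛.X 0).Opens := ⨆ i ∈ hT.toFinset, W i
  have hYc : IsCompact (Y : Set (𝔛.X 0)) := by
    have : (Y : Set (𝔛.X 0)) = ⋃ i ∈ hT.toFinset, (W i : Set (𝔛.X 0)) := by simp [Y]
    rw [this]
    exact hT.toFinset.isCompact_biUnion fun i _ => hWc i
  have hmemY : ∀ {i x}, W i ⊓ U ≠ ⊥ → x ∈ W i → x ∈ Y := fun {i x} hi hx =>
    Opens.mem_iSup.mpr ⟨i, Opens.mem_iSup.mpr ⟨hT.mem_toFinset.2 hi, hx⟩⟩
  have hUY : U ≤ Y := fun x hx => by
    obtain ⟨i, hi⟩ := hcovW x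
    exact hmemY ((Opens.ne_bot_iff_nonempty _).2 ⟨x, hi, hx⟩) hi
  let E : (𝔛.X 0).Opens := ⟨(closure (U : Set (𝔛.X 0)))ᶜ, isClosed_closure.isOpen_compl⟩
  have hle_E : ∀ V : (𝔛.X 0).Opens, V ⊓ U = ⊥ → V ≤ E := fun V hV x hx hxc => by
    obtain ⟨y, hy⟩ := mem_closure_iff.1 hxc V V.isOpen hx
    exact absurd ((Opens.ne_bot_iff_nonempty (V ⊓ U)).2 ⟨y, hy⟩) (not_not.2 hV)
  have hcov : ∀ x, x ∈ Y ∨ x ∈ E := fun x => by
    by_cases hx : x ∈ Y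
    · exact Or.inl hx
    obtain ⟨i, hi⟩ := hcovW x
    exact Or.inr (hle_E (W i) (by_contra fun hne => hx (hmemY hne hi)) hi)
  haveI : CompactSpace ((𝔛.restrictOpen h U).X 0) := isCompact_iff_compactSpace.1 (isCompact_lvU hUc 0)
  have hιp : IsAdicHom (𝔛.restrictOpenι h U ≫ p) := isAdicHom_comp (isAdicHom_restrictOpenι h U) hp
  obtain ⟨N, hlev⟩ := exists_level hU (𝔛.restrictOpenι h U ≫ p) hιp hI hJU
  obtain ⟨𝒜, h𝒜, e𝒜⟩ := hlev N le_rfl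
  haveI : QuasiSeparatedSpace (𝔛.X N) :=
    QuasiSeparatedSpace.of_isOpenEmbedding (𝔛.levelHomeo h N).symm.isOpenEmbedding
  obtain ⟨ℬ, hℬ, hℬU, hℬE⟩ := exists_extend_data (X := 𝔛.X N) (𝔛.lvU h N U) (𝔛.lvU h N Y) (𝔛.lvU h N E)
    (lvU_mono 𝔛 h N hUY) (fun z => hcov (𝔛.gInv h N z))
    (Set.disjoint_left.2 fun z hE hzU => hE (subset_closure hzU)) (isCompact_lvU hYc N) (isCompact_lvU hUc N)
    ((𝔛.levelHomeo h N).symm.isClosedEmbedding.isCompact_preimage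
      (isCompact_of_subset p hR hfp hYc (Set.inter_subset_right : (E : Set (𝔛.X 0)) ∩ Y ⊆ Y)))
    𝒜 h𝒜
  refine ⟨ofLevel 𝔛 h N ℬ, isCohOpen_ofLevel h hℬ, ?_, fun V hV => ?_⟩
  · rw [idealMap_ofLevel h hU (𝔛.restrictOpenι h U) p hp hI (isAdicHom_restrictOpenι h U) N, e𝒜]
    exact congrArg (ofLevel (𝔛.restrictOpen h U) hU N) hℬU
  · rw [Ideal.eq_top_iff_one, mem_ofLevel_iff, map_one]
    intro z hz
    obtain ⟨D, hD, hzD, hDle⟩ := Opens.isBasis_iff_nbhd.mp (𝔛.X N).isBasis_affineOpens hz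
    refine ⟨⟨D, hD⟩, hDle, hzD, ?_⟩
    rw [hℬE ⟨D, hD⟩ (hDle.trans (lvU_mono 𝔛 h N (hle_E V hV)))]
    trivial

end FBlowLib
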