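import Groth.Agent.FBlowLib.LevelMul
import Groth.Agent.FBlowLib.BlowExists
import Groth.Agent.RGFlatLib.Dominate

/-!
# Restriction of admissible formal schemes and of blowing-ups to opens
-/

set_option autoImplicit false
set_option linter.style.haveILetI false

universe u

open CategoryTheory CategoryTheory.Limits AlgebraicGeometry TopologicalSpace Opposite FSch FBlow

noncomputable section

namespace FBlowLib

variable {R : Type u} [CommRing R] {I : Ideal R} {𝔛 𝔜 : Sys.{u}} (h : 𝔛.IsFormal) (h𝔜 : 𝔜.IsFormal) (f : 𝔜 ⟶ 𝔛)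

/-- The inverse image over the preimage of an open only depends on the ideal there. -/
theorem idealMap_le_on (U : (𝔛.X 0).Opens) {J K : IdealSh (𝔛.Osh h)} (hJK : ∀ W ≤ U, J.sect W ≤ K.sect W)
    {V : (𝔜.X 0).Opens} (hV : V ≤ (f : Hom 𝔜 𝔛).app 0 ⁻¹ᵁ U) :
    (idealMap f h𝔜 h J).sect V ≤ (idealMap f h𝔜 h K).sect V := fun s hs =>
  (idealMap f h𝔜 h K).mem_of_local fun y hy => by
    obtain ⟨V', i, hyV', hs'⟩ := hs y hy
    refine ⟨V', i, hyV', Ideal.span_le.2 ?_ hs'⟩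
    rintro _ ⟨V₁, e, _, ⟨W, j, a, ha, rfl⟩, rfl⟩
    rw [IdealSh.map_comp_apply]
    have hle : V' ≤ (f : Hom 𝔜 𝔛).app 0 ⁻¹ᵁ (W ⊓ U) := le_inf (e.trans j) (i.trans hV)
    have h1 := secPush_mem_idealMap h h𝔜 f hle (hJK _ inf_le_right (J.map_mem (inf_le_left : W ⊓ U ≤ W) ha))
    have e1 : secPush h h𝔜 f hle ((𝔛.Osh h).obj.map (homOfLE (inf_le_left : W ⊓ U ≤ W)).op a) =
        (𝔜.Osh h𝔜).obj.map (homOfLE (e.trans j)).op ((Hom.sharp f h𝔜 h).hom.app (op W) a) := by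
      show (𝔜.Osh h𝔜).obj.map (homOfLE hle).op _ = _
      erw [res_sharp f h𝔜 h (inf_le_left : W ⊓ U ≤ W) a]
      exact IdealSh.map_comp_apply (O := 𝔜.Osh h𝔜) _ _ _
    rwa [e1] at h1

theorem idealMap_eq_on (U : (𝔛.X 0).Opens) {J K : IdealSh (𝔛.Osh h)} (hJK : ∀ W ≤ U, J.sect W = K.sect W)
    {V : (𝔜.X 0).Opens} (hV : V ≤ (f : Hom 𝔜 𝔛).app 0 ⁻¹ᵁ U) :
    (idealMap f h𝔜 h J).sect V = (idealMap f h𝔜 h K).sect V :=
  le_antisymm (idealMap_le_on h h𝔜 f U (fun W hW => (hJK W hW).le) hV)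
    (idealMap_le_on h h𝔜 f U (fun W hW => (hJK W hW).ge) hV)

theorem idealMap_congr (U : (𝔛.X 0).Opens) {J K : IdealSh (𝔛.Osh h)} (hJK : ∀ W ≤ U, J.sect W = K.sect W)
    (hmem : ∀ y, (f : Hom 𝔜 𝔛).app 0 y ∈ U) : idealMap f h𝔜 h J = idealMap f h𝔜 h K :=
  IdealSh.ext (funext fun V => idealMap_eq_on h h𝔜 f U hJK fun y _ => hmem y)

theorem isCohOpen_idealMap (p : 𝔛 ⟶ spf R I) (hp : IsAdicHom p) (hI : I.FG) (hf : IsAdicHom f)
    {J : IdealSh (𝔛.Osh h)} (hJ : IsCohOpen 𝔛 h J) : IsCohOpen 𝔜 h𝔜 (idealMap f h𝔜 h J) := fun y => by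
  obtain ⟨U, hyU, n, 𝒜, h𝒜, e⟩ := hJ ((f : Hom 𝔜 𝔛).app 0 y)
  exact ⟨(f : Hom 𝔜 𝔛).app 0 ⁻¹ᵁ U, hyU, n, 𝒜.comap ((f : Hom 𝔜 𝔛).app n),
    RGFlatLib.isFiniteTypeIdeal_comap h𝒜 _, fun V hV => by
    rw [idealMap_eq_on h h𝔜 f U e hV, idealMap_ofLevel h h𝔜 f p hp hI hf n 𝒜]⟩

theorem lfp_restrict (p : 𝔛 ⟶ spf R I) (U : (𝔛.X 0).Opens) (n : ℕ)
    (hfp : LocallyOfFinitePresentation ((p : Hom 𝔛 (spf R I)).app n)) :
    LocallyOfFinitePresentation ((𝔛.restrictOpenι h U ≫ p : Hom _ (spf R I)).app n) := by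
  show LocallyOfFinitePresentation ((𝔛.lvU h n U).ι ≫ (p : Hom 𝔛 (spf R I)).app n)
  infer_instance

theorem pull_mem_ker (p : 𝔛 ⟶ spf R I) (V : (𝔛.X 0).Opens) {r : R} (hr : r ∈ I) :
    pull h (toBase I p) (toBase_comm I p) V r ∈ (IdealSh.ker (𝔛.OshProj h 0)).sect V := by
  refine (IdealSh.mem_ker_iff _ _ _).2 ((oProj_pull h _ (toBase_comm I p) 0 V r).trans ?_)
  rw [pullLvl_toBase]
  have h0 : spfEl I 0 r = 0 := by
    show (Scheme.ΓSpecIso (CommRingCat.of (R ⧸ I ^ (0 + 1)))).inv (Ideal.Quotient.mk _ r) = 0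
    rw [Ideal.Quotient.eq_zero_iff_mem.2 (by rwa [zero_add, pow_one]), map_zero]
  rw [h0, map_zero]
  rfl

theorem noTorsion_restrict (p : 𝔛 ⟶ spf R I) (hp : IsAdicHom p) (hI : I.FG) (U : (𝔛.X 0).Opens)
    (hU : (𝔛.restrictOpen h U).IsFormal)
    (htf : ∀ (V : (𝔛.X 0).Opens) (s : (𝔛.Osh h).obj.obj (op V)),
      (∀ a ∈ (IdealSh.ker (𝔛.OshProj h 0)).sect V, a * s = 0) → s = 0)
    (V : ((𝔛.restrictOpen h U).X 0).Opens) (s : ((𝔛.restrictOpen h U).Osh hU).obj.obj (op V))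
    (hs : ∀ a ∈ (IdealSh.ker ((𝔛.restrictOpen h U).OshProj hU 0)).sect V, a * s = 0) : s = 0 := by
  let ι₀ := (𝔛.restrictOpenι h U : Hom (𝔛.restrictOpen h U) 𝔛).app 0
  have : IsOpenImmersion ι₀ := inferInstanceAs (IsOpenImmersion (𝔛.lvU h 0 U).ι)
  refine TopCat.Sheaf.eq_of_locally_eq' ((𝔛.restrictOpen h U).Osh hU)
    (fun Z : {Z : (𝔛.X 0).Opens // IsAffineOpen Z ∧ Z ≤ U ∧ ι₀ ⁻¹ᵁ Z ≤ V} => ι₀ ⁻¹ᵁ Z.1) V
    (fun Z => homOfLE Z.2.2.2) (fun z hz => ?_) s 0 fun Z => ?_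
  · obtain ⟨Z, hZ, hzZ, hZle⟩ := Opens.isBasis_iff_nbhd.mp (𝔛.X 0).isBasis_affineOpens
      (show ι₀ z ∈ U ⊓ ι₀ ''ᵁ V from ⟨restrictOpenι_mem h U z, ⟨z, hz, rfl⟩⟩)
    refine Opens.mem_iSup.mpr ⟨⟨Z, hZ, hZle.trans inf_le_left, fun w hw => ?_⟩, hzZ⟩
    obtain ⟨v, hv, hvw⟩ := (hZle hw).2
    exact ι₀.isOpenEmbedding.injective hvw ▸ hv
  obtain ⟨Z, hZ, hZU, hZV⟩ := Z
  let σ : (𝔛.Osh h).obj.obj (op Z) →+* ((𝔛.restrictOpen h U).Osh hU).obj.obj (op (ι₀ ⁻¹ᵁ Z)) :=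
    ((Hom.sharp (𝔛.restrictOpenι h U) hU h).hom.app (op Z)).hom
  obtain ⟨t, ht⟩ := surjective_sharp_restrictOpenι h U hU hZU hZ
    (res ((𝔛.restrictOpen h U).Osh hU) hZV s)
  have ht0 : t = 0 := htf Z t fun a ha => by
    refine injective_sharp_restrictOpenι h U hU hZU ?_
    show σ (a * t) = 0
    rw [ker_sect h p hp hI hZ 0, zero_add, pow_one] at ha
    let K : Ideal ((𝔛.Osh h).obj.obj (op Z)) :=
      { carrier := {a | σ (a * t) = 0}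
        add_mem' := fun {a b} (ha : σ (a * t) = 0) (hb : σ (b * t) = 0) => by
          show σ ((a + b) * t) = 0
          rw [add_mul, map_add, ha, hb, add_zero]
        zero_mem' := by show σ (0 * t) = 0; rw [zero_mul, map_zero]
        smul_mem' := fun c a (ha : σ (a * t) = 0) => by
          show σ (c * a * t) = 0
          rw [mul_assoc, map_mul, ha, mul_zero] }
    refine (Ideal.map_le_iff_le_comap.2 fun r hr => ?_ : _ ≤ K) ha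
    show σ (pull h (toBase I p) (toBase_comm I p) Z r * t) = 0
    have e0 := hs _ (pull_mem_ker hU (𝔛.restrictOpenι h U ≫ p) V hr)
    have e1 := congrArg (((𝔛.restrictOpen h U).Osh hU).obj.map (homOfLE hZV).op) e0
    rw [map_mul, map_zero] at e1
    rw [map_mul]
    refine Eq.trans (congrArg₂ (fun a b : ((𝔛.restrictOpen h U).Osh hU).obj.obj (op (ι₀ ⁻¹ᵁ Z)) => a * b) ?_ ht) e1
    exact (pull_sharp h hU p (𝔛.restrictOpenι h U) Z r).trans (res_pull hU _ _ hZV r).symm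
  rw [map_zero]
  refine ht.symm.trans ?_
  show σ t = 0
  rw [ht0, map_zero]

theorem isAdicHom_restrict {b : 𝔜 ⟶ 𝔛} (hb : IsAdicHom b) (U : (𝔛.X 0).Opens) :
    IsAdicHom (Hom.restrictOpen b h𝔜 h U) :=
  isAdicHom_of_comp
    (show IsAdicHom (Hom.restrictOpen b h𝔜 h U ≫ 𝔛.restrictOpenι h U) from
      (Hom.restrictOpen_ι b h𝔜 h U).symm ▸ isAdicHom_comp (isAdicHom_restrictOpenι h𝔜 _) hb)
    (isAdicHom_restrictOpenι h U)

theorem isAdmBlowUp_restrict {J : IdealSh (𝔛.Osh h)} {b : 𝔜 ⟶ 𝔛} (hb : IsAdmBlowUp b h𝔜 h J) (U : (𝔛.X 0).Opens) :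
    IsAdmBlowUp (Hom.restrictOpen b h𝔜 h U) (isFormal_restrictOpen h𝔜 _) (isFormal_restrictOpen h U)
      (idealMap (𝔛.restrictOpenι h U) (isFormal_restrictOpen h U) h J) := by
  have hover : IsBlowUpOver h J b h𝔜 ⊤ :=
    ⟨hb.1, hb.2.1, fun _ => trivial, fun ℨ hℨ v hv hi _ => hb.2.2 ℨ hℨ v hv hi⟩
  have hres := hover.restrict (le_top (a := U))
  have eι : Hom.restrictOpen b h𝔜 h U ≫ 𝔛.restrictOpenι h U =
      𝔜.restrictOpenι h𝔜 ((b : Hom 𝔜 𝔛).app 0 ⁻¹ᵁ U) ≫ b := Hom.restrictOpen_ι b h𝔜 h U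
  refine ⟨isAdicHom_restrict h h𝔜 hb.1 U, ?_, fun ℨ hℨ g hg hinv => ?_⟩
  · rw [idealMap_idealMap, eι]
    exact hres.inv
  rw [idealMap_idealMap] at hinv
  obtain ⟨k, hk, hu⟩ := hres.lift ℨ hℨ (g ≫ 𝔛.restrictOpenι h U)
    (isAdicHom_comp hg (isAdicHom_restrictOpenι h U)) hinv (fun z => restrictOpenι_mem h U _)
  refine ⟨k, restrictOpenι_cancel h ?_, fun k' hk' => hu k' ?_⟩
  · rw [Category.assoc, eι]
    exact hk
  · show k' ≫ 𝔜.restrictOpenι h𝔜 _ ≫ b = _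
    rw [← eι, ← Category.assoc, hk']

end FBlowLib
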