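import Groth.Agent.FBlowLib.ProdIdeal
import Groth.Agent.FBlowLib.RestrictBlow
import Groth.Agent.FBlowLib.ExtendOpen
import Groth.Agent.S13652

/-!
# Dominating families of admissible formal blowing-ups
-/

set_option autoImplicit false
set_option linter.style.haveILetI false

universe u

open CategoryTheory CategoryTheory.Limits AlgebraicGeometry TopologicalSpace Opposite FSch FBlow

noncomputable section

namespace FBlowLib

variable {R : Type u} [CommRing R] {I : Ideal R} {𝔛 : Sys.{u}} {h : 𝔛.IsFormal} {p : 𝔛 ⟶ spf R I}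

/-- Admissible blowing-ups of the members of a covering of finite type are dominated by one admissible blowing-up. -/
theorem exists_dominating_aux [QuasiSeparatedSpace (𝔛.X 0)] (hR : AdicRing.IsBase R I) (hp : IsAdicHom p)
    (hfp : ∀ n, LocallyOfFinitePresentation ((p : Hom 𝔛 (spf R I)).app n))
    (htf : ∀ (U : (𝔛.X 0).Opens) (s : (𝔛.Osh h).obj.obj (op U)),
      (∀ a ∈ (IdealSh.ker (𝔛.OshProj h 0)).sect U, a * s = 0) → s = 0)
    {ι : Type u} (V : ι → (𝔛.X 0).Opens) (hV : (⨆ i, V i) = ⊤) (hVc : ∀ i, IsCompact (V i : Set (𝔛.X 0)))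
    (hVf : ∀ i, Set.Finite {j : ι | V i ⊓ V j ≠ ⊥}) (hVi : ∀ i, (𝔛.restrictOpen h (V i)).IsFormal)
    {Ji : ∀ i, IdealSh ((𝔛.restrictOpen h (V i)).Osh (hVi i))}
    (hJi : ∀ i, IsCohOpen (𝔛.restrictOpen h (V i)) (hVi i) (Ji i))
    {𝔛i : ι → Sys.{u}} {hi : ∀ i, (𝔛i i).IsFormal} {bi : ∀ i, 𝔛i i ⟶ 𝔛.restrictOpen h (V i)}
    (hbi : ∀ i, IsAdmBlowUp (bi i) (hi i) (hVi i) (Ji i)) :
    ∃ (J : IdealSh (𝔛.Osh h)) (𝔛' : Sys.{u}) (h' : 𝔛'.IsFormal) (b : 𝔛' ⟶ 𝔛),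
      IsCohOpen 𝔛 h J ∧ IsAdmBlowUp b h' h J ∧
      (∀ i, ∃! k : 𝔛'.restrictOpen h' (((b : Hom 𝔛' 𝔛).app 0) ⁻¹ᵁ (V i)) ⟶ 𝔛i i,
        k ≫ bi i = Hom.restrictOpen b h' h (V i)) ∧
      ∀ i (ℨ : Sys.{u}) (hℨ : ℨ.IsFormal) (g : ℨ ⟶ 𝔛.restrictOpen h (V i)),
        (idealMap (g ≫ 𝔛.restrictOpenι h (V i)) hℨ h J).IsInvertible →
          (idealMap g hℨ (hVi i) (Ji i)).IsInvertible := by
  classical
  have hI := AdicRingLib.fg_of_isBase hR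
  choose Jt hJt hJte hJttop using fun i => exists_extension hR hp (hfp 0) ⟨ι, V, hV, hVc, hVf⟩ (hVc i) (hVi i) (hJi i)
  let F : ι → Finset ι := fun j => insert j (hVf j).toFinset
  obtain ⟨P, hP, hPeq⟩ := exists_locFinProd h p hp hI V hV F Jt hJt fun j i hji W hW => hJttop i W (by
    by_contra hne
    refine hji (Finset.mem_insert_of_mem ((hVf j).mem_toFinset.2 ?_))
    intro e
    exact hne (eq_bot_iff.2 ((inf_le_inf_right _ hW).trans e.le)))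
  obtain ⟨𝔛', h', b, hb⟩ := Groth.Agent.S13652.result R I hR 𝔛 h p hp hfp htf P hP
  have key : ∀ i (ℨ : Sys.{u}) (hℨ : ℨ.IsFormal) (g : ℨ ⟶ 𝔛.restrictOpen h (V i)),
      (idealMap (g ≫ 𝔛.restrictOpenι h (V i)) hℨ h P).IsInvertible →
        (idealMap g hℨ (hVi i) (Ji i)).IsInvertible := fun i ℨ hℨ g hinv => by
    rw [← hJte i, idealMap_idealMap]
    rw [idealMap_congr h hℨ (g ≫ 𝔛.restrictOpenι h (V i)) (V i) (fun W' hW' => hPeq i W' hW')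
      (fun y => restrictOpenι_mem h (V i) _)] at hinv
    have eF : F i = insert i ((F i).erase i) := (Finset.insert_erase (Finset.mem_insert_self i _)).symm
    rw [eF, prodFin_insert (Finset.notMem_erase i (F i)), idealMap, map_mul_ideal] at hinv
    exact isInvertible_left_of_mul (isLocalSh_Osh hℨ) hinv
  refine ⟨P, 𝔛', h', b, hP, hb, fun i => ?_, key⟩
  refine (hbi i).2.2 _ (isFormal_restrictOpen h' _) (Hom.restrictOpen b h' h (V i))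
    (isAdicHom_restrict h h' hb.1 (V i)) (key i _ _ _ ?_)
  rw [Hom.restrictOpen_ι, ← idealMap_idealMap _ _ _ h']
  exact isInvertible_idealMap_restrictOpenι h' _ _ hb.2.1

/-- The statement without the auxiliary clause. -/
theorem exists_dominating [QuasiSeparatedSpace (𝔛.X 0)] (hR : AdicRing.IsBase R I) (hp : IsAdicHom p)
    (hfp : ∀ n, LocallyOfFinitePresentation ((p : Hom 𝔛 (spf R I)).app n))
    (htf : ∀ (U : (𝔛.X 0).Opens) (s : (𝔛.Osh h).obj.obj (op U)),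
      (∀ a ∈ (IdealSh.ker (𝔛.OshProj h 0)).sect U, a * s = 0) → s = 0)
    {ι : Type u} (V : ι → (𝔛.X 0).Opens) (hV : (⨆ i, V i) = ⊤) (hVc : ∀ i, IsCompact (V i : Set (𝔛.X 0)))
    (hVf : ∀ i, Set.Finite {j : ι | V i ⊓ V j ≠ ⊥}) (hVi : ∀ i, (𝔛.restrictOpen h (V i)).IsFormal)
    {Ji : ∀ i, IdealSh ((𝔛.restrictOpen h (V i)).Osh (hVi i))}
    (hJi : ∀ i, IsCohOpen (𝔛.restrictOpen h (V i)) (hVi i) (Ji i))
    {𝔛i : ι → Sys.{u}} {hi : ∀ i, (𝔛i i).IsFormal} {bi : ∀ i, 𝔛i i ⟶ 𝔛.restrictOpen h (V i)}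
    (hbi : ∀ i, IsAdmBlowUp (bi i) (hi i) (hVi i) (Ji i)) :
    ∃ (J : IdealSh (𝔛.Osh h)) (𝔛' : Sys.{u}) (h' : 𝔛'.IsFormal) (b : 𝔛' ⟶ 𝔛),
      IsCohOpen 𝔛 h J ∧ IsAdmBlowUp b h' h J ∧
      ∀ i, ∃! k : 𝔛'.restrictOpen h' (((b : Hom 𝔛' 𝔛).app 0) ⁻¹ᵁ (V i)) ⟶ 𝔛i i,
        k ≫ bi i = Hom.restrictOpen b h' h (V i) := by
  obtain ⟨J, 𝔛', h', b, hJ, hb, hk, -⟩ := exists_dominating_aux hR hp hfp htf V hV hVc hVf hVi hJi hbi
  exact ⟨J, 𝔛', h', b, hJ, hb, hk⟩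

end FBlowLib
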