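import Groth.Agent.FBlowLib.Dominate
import Groth.Agent.S13653

/-!
# A composite of admissible formal blowing-ups is dominated by one
-/

set_option autoImplicit false
set_option linter.style.haveILetI false

universe u

open CategoryTheory CategoryTheory.Limits AlgebraicGeometry TopologicalSpace Opposite FSch FBlow

noncomputable section

namespace FBlowLib

variable {R : Type u} [CommRing R] {I : Ideal R} {𝔛 : Sys.{u}} {h : 𝔛.IsFormal} {p : 𝔛 ⟶ spf R I}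

theorem compactSpace_restrict {U : (𝔛.X 0).Opens} (hU : IsCompact (U : Set (𝔛.X 0))) :
    CompactSpace ((𝔛.restrictOpen h U).X 0) :=
  isCompact_iff_compactSpace.1 (isCompact_lvU hU 0)

theorem quasiSeparatedSpace_restrict [QuasiSeparatedSpace (𝔛.X 0)] (U : (𝔛.X 0).Opens) :
    QuasiSeparatedSpace ((𝔛.restrictOpen h U).X 0) :=
  QuasiSeparatedSpace.of_isOpenEmbedding (𝔛.lvU h 0 U).ι.isOpenEmbedding

/-- On a quasi-paracompact quasi-separated admissible formal scheme a composite of two admissible blowing-ups is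
dominated by an admissible blowing-up. -/
theorem exists_dominating_comp [QuasiSeparatedSpace (𝔛.X 0)] (hR : AdicRing.IsBase R I) (hp : IsAdicHom p)
    (hfp : ∀ n, LocallyOfFinitePresentation ((p : Hom 𝔛 (spf R I)).app n))
    (htf : ∀ (U : (𝔛.X 0).Opens) (s : (𝔛.Osh h).obj.obj (op U)),
      (∀ a ∈ (IdealSh.ker (𝔛.OshProj h 0)).sect U, a * s = 0) → s = 0)
    (hqp : ∃ (ι : Type u) (V : ι → (𝔛.X 0).Opens), (⨆ i, V i) = ⊤ ∧ (∀ i, IsCompact (V i : Set (𝔛.X 0))) ∧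
      ∀ i, Set.Finite {j : ι | V i ⊓ V j ≠ ⊥})
    {J : IdealSh (𝔛.Osh h)} (hJ : IsCohOpen 𝔛 h J) {𝔛' : Sys.{u}} {h' : 𝔛'.IsFormal} {b : 𝔛' ⟶ 𝔛}
    (hb : IsAdmBlowUp b h' h J) {J' : IdealSh (𝔛'.Osh h')} (hJ' : IsCohOpen 𝔛' h' J') {𝔛'' : Sys.{u}}
    {h'' : 𝔛''.IsFormal} {b' : 𝔛'' ⟶ 𝔛'} (hb' : IsAdmBlowUp b' h'' h' J') :
    ∃ (J''' : IdealSh (𝔛.Osh h)) (𝔛''' : Sys.{u}) (h''' : 𝔛'''.IsFormal) (c : 𝔛''' ⟶ 𝔛),
      IsCohOpen 𝔛 h J''' ∧ IsAdmBlowUp c h''' h J''' ∧ ∃ s : 𝔛''' ⟶ 𝔛'', s ≫ b' ≫ b = c := by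
  classical
  have hI := AdicRingLib.fg_of_isBase hR
  obtain ⟨ι, W, hW, hWc, hWf⟩ := hqp
  let U' : ι → (𝔛'.X 0).Opens := fun j => (b : Hom 𝔛' 𝔛).app 0 ⁻¹ᵁ W j
  let U'' : ι → (𝔛''.X 0).Opens := fun j => (b' : Hom 𝔛'' 𝔛').app 0 ⁻¹ᵁ U' j
  let bb : ∀ j, 𝔛''.restrictOpen h'' (U'' j) ⟶ 𝔛.restrictOpen h (W j) := fun j =>
    Hom.restrictOpen b' h'' h' (U' j) ≫ Hom.restrictOpen b h' h (W j)
  have hbbι : ∀ j, bb j ≫ 𝔛.restrictOpenι h (W j) = 𝔛''.restrictOpenι h'' (U'' j) ≫ b' ≫ b := fun j => by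
    show (Hom.restrictOpen b' h'' h' (U' j) ≫ Hom.restrictOpen b h' h (W j)) ≫ _ = _
    rw [Category.assoc, Hom.restrictOpen_ι, ← Category.assoc, Hom.restrictOpen_ι, Category.assoc]
  have hcomp : ∀ j, ∃ Jj, IsCohOpen (𝔛.restrictOpen h (W j)) (isFormal_restrictOpen h _) Jj ∧
      IsAdmBlowUp (bb j) (isFormal_restrictOpen h'' (U'' j)) (isFormal_restrictOpen h (W j)) Jj := fun j => by
    haveI := compactSpace_restrict (h := h) (hWc j)
    haveI := quasiSeparatedSpace_restrict (h := h) (W j)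
    exact Groth.Agent.S13653.result R I hR _ (isFormal_restrictOpen h (W j)) (𝔛.restrictOpenι h (W j) ≫ p)
      (isAdicHom_comp (isAdicHom_restrictOpenι h _) hp) (fun n => lfp_restrict h p (W j) n (hfp n))
      (noTorsion_restrict h p hp hI (W j) _ htf) _
      (isCohOpen_idealMap h _ _ p hp hI (isAdicHom_restrictOpenι h _) hJ)
      _ (isFormal_restrictOpen h' (U' j)) (Hom.restrictOpen b h' h (W j)) (isAdmBlowUp_restrict h h' hb (W j)) _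
      (isCohOpen_idealMap h' _ _ (b ≫ p) (isAdicHom_comp hb.1 hp) hI (isAdicHom_restrictOpenι h' _) hJ')
      _ (isFormal_restrictOpen h'' (U'' j)) (Hom.restrictOpen b' h'' h' (U' j)) (isAdmBlowUp_restrict h' h'' hb' (U' j))
  choose Jj hJj hbj using hcomp
  obtain ⟨P, 𝔛₃, h₃, c, hP, hc, hk, hinv⟩ := exists_dominating_aux hR hp hfp htf W hW hWc hWf
    (fun j => isFormal_restrictOpen h (W j)) hJj hbj
  choose k hkb _ using hk
  choose jy hjy using fun y : 𝔛₃.X 0 =>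
    Opens.mem_iSup.mp (hW.ge (show (c : Hom 𝔛₃ 𝔛).app 0 y ∈ (⊤ : (𝔛.X 0).Opens) from trivial))
  let Z : 𝔛₃.X 0 → (𝔛₃.X 0).Opens := fun y => (c : Hom 𝔛₃ 𝔛).app 0 ⁻¹ᵁ W (jy y)
  let ky : ∀ y, 𝔛₃.restrictOpen h₃ (Z y) ⟶ 𝔛'' := fun y => k (jy y) ≫ 𝔛''.restrictOpenι h'' (U'' (jy y))
  have hky : ∀ y, ky y ≫ b' ≫ b = 𝔛₃.restrictOpenι h₃ (Z y) ≫ c := fun y => by
    show (k (jy y) ≫ _) ≫ b' ≫ b = _
    rw [Category.assoc, ← hbbι, ← Category.assoc, hkb, Hom.restrictOpen_ι]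
  obtain ⟨s, hs⟩ := exists_glue_sys h₃ Z hjy ky fun y y' v v' hv hv' => by
    let O := Z y ⊓ Z y'
    have e1 : (v' ≫ ky y') ≫ b' ≫ b = 𝔛₃.restrictOpenι h₃ O ≫ c := by
      rw [Category.assoc, hky, ← Category.assoc, hv']
    have hmem : ∀ z, (v' ≫ ky y' : Hom _ _).app 0 z ∈ U'' (jy y) := fun z => by
      have e0 := congrArg (fun f : 𝔛₃.restrictOpen h₃ O ⟶ 𝔛 => (f : Hom _ _).app 0 z) e1
      show (b' ≫ b : Hom 𝔛'' 𝔛).app 0 ((v' ≫ ky y' : Hom _ _).app 0 z) ∈ W (jy y)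
      exact (congrArg (· ∈ W (jy y)) e0).mpr (restrictOpenι_mem h₃ O z).1
    obtain ⟨u', hu'⟩ := exists_lift_restrictOpen h'' (isFormal_restrictOpen h₃ O) (v' ≫ ky y') (U'' (jy y)) hmem
    have hu'b : u' ≫ bb (jy y) = v ≫ Hom.restrictOpen c h₃ h (W (jy y)) := restrictOpenι_cancel h (by
      rw [Category.assoc, hbbι, ← Category.assoc, hu', e1, Category.assoc, Hom.restrictOpen_ι, ← Category.assoc, hv])
    have hadic : IsAdicHom (v ≫ Hom.restrictOpen c h₃ h (W (jy y))) :=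
      isAdicHom_comp (isAdicHom_of_comp (show IsAdicHom (v ≫ 𝔛₃.restrictOpenι h₃ (Z y)) from
        hv.symm ▸ isAdicHom_restrictOpenι h₃ O) (isAdicHom_restrictOpenι h₃ _)) (isAdicHom_restrict h h₃ hc.1 _)
    have hinv' := hinv (jy y) _ (isFormal_restrictOpen h₃ O) (v ≫ Hom.restrictOpen c h₃ h (W (jy y))) (by
      rw [Category.assoc, Hom.restrictOpen_ι, ← Category.assoc, hv, ← idealMap_idealMap _ _ _ h₃]
      exact isInvertible_idealMap_restrictOpenι h₃ _ _ hc.2.1)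
    obtain ⟨w, -, hu⟩ := (hbj (jy y)).2.2 _ (isFormal_restrictOpen h₃ O) _ hadic hinv'
    have e2 : v ≫ k (jy y) = u' := (hu _ (by
      show (v ≫ k (jy y)) ≫ bb (jy y) = _
      rw [Category.assoc, hkb])).trans (hu _ hu'b).symm
    show v ≫ k (jy y) ≫ 𝔛''.restrictOpenι h'' (U'' (jy y)) = v' ≫ ky y'
    rw [← Category.assoc, e2, hu']
  refine ⟨P, 𝔛₃, h₃, c, hP, hc, s, hom_ext_sys h₃ fun y => ⟨Z y, hjy y, ?_⟩⟩
  rw [← Category.assoc, hs y]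
  exact hky y

end FBlowLib
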