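import Groth.Agent.FBlowLib.PullSys
import Groth.Agent.BlowUpLib.Exists
import Groth.Agent.FComplLib.Levels

/-!
# Flat base change of admissible formal blowing-ups
-/

set_option autoImplicit false
set_option linter.style.haveILetI false

universe u

open CategoryTheory CategoryTheory.Limits AlgebraicGeometry TopologicalSpace Opposite FSch FBlow

noncomputable section

namespace FBlowLib

theorem schIdealMap_specMap {𝔜 : Sys.{u}} (h : 𝔜.IsFormal) {A C : Type u} [CommRing A] [CommRing C] (σ : A →+* C)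
    (l : ∀ n, 𝔜.X n ⟶ Spec (CommRingCat.of C)) (hl : ∀ n, 𝔜.ι n ≫ l (n + 1) = l n)
    (g : ∀ n, 𝔜.X n ⟶ Spec (CommRingCat.of A)) (hg : ∀ n, 𝔜.ι n ≫ g (n + 1) = g n)
    (e : ∀ n, l n ≫ Spec.map (CommRingCat.ofHom σ) = g n) (𝔞 : Ideal A) :
    schIdealMap 𝔜 h g hg (IdealSh.ofData (idealSpec A 𝔞)) =
      schIdealMap 𝔜 h l hl (IdealSh.ofData (idealSpec C (𝔞.map σ))) := by
  refine ideal_le_antisymm (schIdealMap_le h g hg fun a ha W => ?_) (schIdealMap_le h l hl fun c hc W => ?_)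
  · rw [← pullLvl_comp_specMap h σ l hl g hg e W a]
    exact pull_mem_schIdealMap h l hl (Ideal.mem_map_of_mem σ ha) W
  · refine (Ideal.map_le_iff_le_comap.2 fun a ha => ?_ :
      𝔞.map σ ≤ ((schIdealMap 𝔜 h g hg (IdealSh.ofData (idealSpec A 𝔞))).sect W).comap (pull h l hl W)) hc
    rw [Ideal.mem_comap, Ideal.mem_comap, pullLvl_comp_specMap h σ l hl g hg e W a]
    exact pull_mem_schIdealMap h g hg ha W

variable {𝔛 𝔜 : Sys.{u}} (h : 𝔛.IsFormal) (hY : 𝔜.IsFormal) (φ : 𝔜 ⟶ 𝔛)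
  {U : (𝔛.X 0).Opens} {U' : (𝔜.X 0).Opens} (e : U' ≤ (φ : Hom 𝔜 𝔛).app 0 ⁻¹ᵁ U)

/-- The map of sections of a morphism over a pair of opens. -/
abbrev secRes : (𝔛.Osh h).obj.obj (op U) →+* (𝔜.Osh hY).obj.obj (op U') :=
  ((𝔜.Osh hY).obj.map (homOfLE e).op).hom.comp ((Hom.sharp φ hY h).hom.app (op U)).hom

theorem lift_secFam (φ' : 𝔜.restrictOpen hY U' ⟶ 𝔛.restrictOpen h U)
    (hφ' : φ' ≫ 𝔛.restrictOpenι h U = 𝔜.restrictOpenι hY U' ≫ φ) (n : ℕ) :
    (φ' : Hom _ _).app n ≫ secFam h U n = secFam hY U' n ≫ Spec.map (CommRingCat.ofHom (secRes h hY φ e)) := by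
  have hℨ := isFormal_restrictOpen hY U'
  have hU := isFormal_restrictOpen h U
  rw [famOfHom_specMap, ← famOfHom_pull hℨ (fun m => (φ' : Hom _ _).app m ≫ secFam h U m)
    (fun m => by rw [← Category.assoc, ← (φ' : Hom _ _).comm, Category.assoc, secFam_comm]) n]
  refine congrArg (fun ψ => famOfHom hℨ ψ n) (RingHom.ext fun a => ?_)
  refine ((sharp_pull φ' hℨ hU _ (secFam_comm h U) _ _ (fun _ => rfl) ⊤ a).symm.trans ?_).trans rfl
  rw [pull_famOfHom]
  refine (res_sharp φ' hℨ hU (top_le_restrictOpenι h U) _).trans ?_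
  have e1 := sharp_comp φ' (𝔛.restrictOpenι h U) hℨ hU h U a
  refine (congrArg _ e1.symm).trans ?_
  have e2 : ∀ (f : 𝔜.restrictOpen hY U' ⟶ 𝔛) (_ : f = 𝔜.restrictOpenι hY U' ≫ φ)
      (j : ⊤ ≤ (f : Hom _ _).app 0 ⁻¹ᵁ U),
      res _ j ((Hom.sharp f hℨ h).hom.app (op U) a) = secHom hY U' (secRes h hY φ e a) := by
    rintro f rfl j
    rw [sharp_comp (𝔜.restrictOpenι hY U') φ hℨ hY h U a]
    refine Eq.symm ((congrArg _ (res_sharp (𝔜.restrictOpenι hY U') hℨ hY e _)).trans ?_)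
    exact IdealSh.map_comp_apply (O := (𝔜.restrictOpen hY U').Osh hℨ) _ _ _
  exact e2 _ hφ' _

theorem secRes_pull {R : Type u} [CommRing R] {I : Ideal R} (p : 𝔛 ⟶ spf R I) (r : R) :
    secRes h hY φ e (pull h (toBase I p) (toBase_comm I p) U r) =
      pull hY (toBase I (φ ≫ p)) (toBase_comm I (φ ≫ p)) U' r :=
  (congrArg _ (pull_sharp h hY p φ U r)).trans (res_pull hY _ _ e r)

variable {R : Type u} [CommRing R] {I : Ideal R} {p : 𝔛 ⟶ spf R I} {J : IdealSh (𝔛.Osh h)}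
  {𝔛' : Sys.{u}} {h' : 𝔛'.IsFormal} {b : 𝔛' ⟶ 𝔛}

theorem isInvertible_baseChange_over (hI : I.FG) (hp : IsAdicHom p) (hYp : IsAdicHom (φ ≫ p))
    (hb : IsAdmBlowUp b h' h J) (hP : (pullbackSys b φ).IsFormal)
    (hU : IsGoodOpen I h p J U) (hU' : IsAffineOpen U') (hflat : (secRes h hY φ e).Flat)
    (hW : ((pullbackSys b φ).restrictOpen hP ((pullbackSnd b φ : Hom _ _).app 0 ⁻¹ᵁ U')).IsFormal) :
    (idealMap ((pullbackSys b φ).restrictOpenι hP ((pullbackSnd b φ : Hom _ _).app 0 ⁻¹ᵁ U')) hW hP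
      (idealMap (pullbackSnd b φ) hP hY (idealMap φ hY h J))).IsInvertible := by
  let σ := secRes h hY φ e
  let g := secFam h U
  let g' := secFam hY U'
  obtain ⟨N, hN⟩ := hU.pow
  obtain ⟨P, q, hq⟩ : ∃ (P : Scheme.{u}) (q : P ⟶ Spec (CommRingCat.of ((𝔛.Osh h).obj.obj (op U)))),
      BlowUp.IsBlowUp q (BlowUpLib.specIdeal (J.sect U)) := ⟨_, _, BlowUpLib.isBlowUp_proj _⟩
  let σm := Spec.map (CommRingCat.ofHom σ)
  have : Flat σm := (HasRingHomProperty.Spec_iff (P := @Flat)).2 hflat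
  let q' := pullback.snd q σm
  have hq' : BlowUp.IsBlowUp q' (BlowUpLib.specIdeal ((J.sect U).map σ)) := by
    rw [← BlowUpLib.comap_specIdeal σ]
    exact BlowUpLib.isBlowUp_of_isPullback (IsPullback.of_hasPullback q σm) hq
  obtain ⟨φ', hφ'⟩ := exists_lift_restrictOpen h (isFormal_restrictOpen hY U') (𝔜.restrictOpenι hY U' ≫ φ) U
    fun z => e (restrictOpenι_mem hY U' z)
  have hgφ : ∀ n, (φ' : Hom _ _).app n ≫ g n = g' n ≫ σm := fun n => lift_secFam h hY φ e φ' hφ' n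
  have hk : ∀ {𝔷 : Sys.{u}} (h𝔷 : 𝔷.IsFormal) (r : 𝔷 ⟶ spf R I) (V : (𝔷.X 0).Opens) (𝔞 : Ideal ((𝔷.Osh h𝔷).obj.obj (op V))),
      (∀ x ∈ I ^ (N + 1), pull h𝔷 (toBase I r) (toBase_comm I r) V x ∈ 𝔞) →
      (I.map (pull h𝔷 (toBase I r) (toBase_comm I r) V)) ^ (N + 1) ≤ 𝔞 := fun h𝔷 r V 𝔞 H => by
    rw [← Ideal.map_pow, Ideal.map_le_iff_le_comap]
    exact H
  have hbU := isAdmBlowUp_pullSys q g (secFam_comm h U) hq (N + 1) (hk h p U _ hN)
    (fun n => (isClosedImmersion_secFam (p := p) h hp hI hU.aff n).1)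
    (fun n => (isClosedImmersion_secFam (p := p) h hp hI hU.aff n).2) (isFormal_restrictOpen h U)
  have hbU' := isAdmBlowUp_pullSys q' g' (secFam_comm hY U') hq' (N + 1) (hk hY (φ ≫ p) U' _ fun x hx => by
      rw [← secRes_pull h hY φ e p x]
      exact Ideal.mem_map_of_mem _ (hN x hx))
    (fun n => (isClosedImmersion_secFam (p := φ ≫ p) hY hYp hI hU' n).1)
    (fun n => (isClosedImmersion_secFam (p := φ ≫ p) hY hYp hI hU' n).2) (isFormal_restrictOpen hY U')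
  rw [← idealMap_goodOpen hU] at hbU
  have hover : IsBlowUpOver h J b h' ⊤ :=
    ⟨hb.1, hb.2.1, fun _ => trivial, fun ℨ hℨ v hv hi _ => hb.2.2 ℨ hℨ v hv hi⟩
  obtain ⟨s, hs, hsn⟩ := hover.exists_trans le_top (isBlowUpOver_comp hbU)
  let B := pullSys q g (secFam_comm h U)
  let ℭ := pullSys q' g' (secFam_comm hY U')
  have hℭ : ℭ.IsFormal := isFormal_pullSys q' g' (secFam_comm hY U') (isFormal_restrictOpen hY U')
  let v : ℭ ⟶ B := ⟨fun n => pullback.lift (pullback.fst q' (g' n) ≫ pullback.fst q σm)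
      (pullback.snd q' (g' n) ≫ (φ' : Hom _ _).app n)
      (by
        rw [Category.assoc, pullback.condition, Category.assoc, hgφ, ← Category.assoc, ← Category.assoc]
        exact congrArg (· ≫ σm) pullback.condition),
    fun n => by
      refine pullback.hom_ext ?_ ?_
      · refine (Category.assoc _ _ _).trans (Eq.trans ?_ (Category.assoc _ _ _).symm)
        refine (congrArg (_ ≫ ·) (pullSys_fst_comm q g (secFam_comm h U) n)).trans ?_
        refine (pullback.lift_fst _ _ _).trans ?_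
        refine Eq.trans ?_ (congrArg (ℭ.ι n ≫ ·) (pullback.lift_fst _ _ _).symm)
        exact ((Category.assoc _ _ _).symm.trans
          (congrArg (· ≫ _) (pullSys_fst_comm q' g' (secFam_comm hY U') n))).symm
      · refine (Category.assoc _ _ _).trans (Eq.trans ?_ (Category.assoc _ _ _).symm)
        refine (congrArg (_ ≫ ·) (pullback.lift_snd _ _ _ : B.ι n ≫ pullback.snd q (g (n + 1)) = _)).trans ?_
        refine ((Category.assoc _ _ _).symm.trans (congrArg (· ≫ _) (pullback.lift_snd _ _ _))).trans ?_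
        refine Eq.trans ?_ (congrArg (ℭ.ι n ≫ ·) (pullback.lift_snd _ _ _).symm)
        refine Eq.trans ?_ (Category.assoc _ _ _)
        refine Eq.trans ?_ (congrArg (· ≫ _)
          (pullback.lift_snd _ _ _ : ℭ.ι n ≫ pullback.snd q' (g' (n + 1)) = _)).symm
        refine (Category.assoc _ _ _).trans (Eq.trans ?_ (Category.assoc _ _ _).symm)
        exact congrArg (_ ≫ ·) ((φ' : Hom _ _).comm n)⟩
  let c : ℭ ⟶ pullbackSys b φ := (FComplLib.isPullback_pullbackSys b φ).lift (v ≫ s)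
    (pullSysSnd q' g' (secFam_comm hY U') ≫ 𝔜.restrictOpenι hY U') (by
      rw [Category.assoc, hs, Category.assoc, ← hφ', ← Category.assoc, ← Category.assoc]
      exact congrArg (· ≫ _) (Hom.ext (funext fun n => pullback.lift_snd _ _ _)))
  have hcsnd : c ≫ pullbackSnd b φ = pullSysSnd q' g' (secFam_comm hY U') ≫ 𝔜.restrictOpenι hY U' :=
    IsPullback.lift_snd _ _ _ _
  have hsq : ∀ n, IsPullback ((c : Hom _ _).app n) (pullback.snd q' (g' n))
      ((pullbackSnd b φ : Hom _ _).app n) (𝔜.lvU hY n U').ι := fun n => by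
    have hA : IsPullback ((v : Hom _ _).app n) (pullback.snd q' (g' n)) (pullback.snd q (g n))
        ((φ' : Hom _ _).app n) := by
      refine IsPullback.of_right (t := IsPullback.of_hasPullback q (g n)) ?_ (pullback.lift_snd _ _ _)
      erw [pullback.lift_fst, hgφ]
      exact (IsPullback.of_hasPullback q' (g' n)).paste_horiz (IsPullback.of_hasPullback q σm)
    have hop := (hsn n).1
    have hB : IsPullback ((s : Hom B 𝔛').app n) (pullback.snd q (g n)) ((b : Hom _ _).app n) (𝔛.lvU h n U).ι := by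
      refine (IsOpenImmersion.isPullback (U := B.X n) (V := (𝔛.lvU h n U : Scheme.{u})) (pullback.snd q (g n)) ((s : Hom B 𝔛').app n) (𝔛.lvU h n U).ι
        ((b : Hom _ _).app n) ?_ ?_).flip
      · exact congrArg (fun f : B ⟶ 𝔛 => (f : Hom B 𝔛).app n) hs
      · rw [Scheme.Opens.opensRange_ι]
        exact TopologicalSpace.Opens.ext (hsn n).2.symm
    refine IsPullback.of_right (t := IsPullback.of_hasPullback ((b : Hom _ _).app n) ((φ : Hom _ _).app n)) ?_
      (congrArg (fun f : ℭ ⟶ 𝔜 => (f : Hom ℭ 𝔜).app n) hcsnd)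
    have e1 : (c : Hom _ _).app n ≫ pullback.fst ((b : Hom _ _).app n) ((φ : Hom _ _).app n) =
        (v : Hom _ _).app n ≫ (s : Hom B 𝔛').app n :=
      congrArg (fun f : ℭ ⟶ 𝔛' => (f : Hom ℭ 𝔛').app n) (IsPullback.lift_fst (FComplLib.isPullback_pullbackSys b φ) _ _ _)
    have e2 : (φ' : Hom _ _).app n ≫ (𝔛.lvU h n U).ι = (𝔜.lvU hY n U').ι ≫ (φ : Hom _ _).app n :=
      congrArg (fun f : 𝔜.restrictOpen hY U' ⟶ 𝔛 => (f : Hom _ _).app n) hφ'
    rw [e1]
    have := hA.paste_horiz hB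
    erw [e2] at this
    exact this
  refine isInvertible_restrict_of_openImm hP c hℭ (fun n => MorphismProperty.of_isPullback (hsq n).flip
    (inferInstanceAs (IsOpenImmersion (𝔜.lvU hY n U').ι))) (fun n => ?_) ?_ hW
  · refine Eq.trans ?_ (congrArg SetLike.coe (Hom.lvU_preimage (pullbackSnd b φ) hP hY n U'))
    refine Set.Subset.antisymm ?_ fun z hz => ?_
    · rintro _ ⟨y, rfl⟩
      show (pullbackSnd b φ : Hom _ _).app n ((c : Hom _ _).app n y) ∈ 𝔜.lvU hY n U'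
      rw [← Scheme.Hom.comp_apply, (hsq n).w]
      exact (pullback.snd q' (g' n) y).2
    · obtain ⟨w, hw, -⟩ := Scheme.exists_preimage_of_isPullback (hsq n) z ⟨_, hz⟩ rfl
      exact ⟨w, hw⟩
  · rw [idealMap_idealMap c (pullbackSnd b φ) hℭ hP hY, hcsnd,
      ← idealMap_idealMap (pullSysSnd q' g' (secFam_comm hY U')) (𝔜.restrictOpenι hY U') hℭ (isFormal_restrictOpen hY U') hY,
      idealMap_idealMap (𝔜.restrictOpenι hY U') φ (isFormal_restrictOpen hY U') hY h, ← hφ',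
      ← idealMap_idealMap φ' (𝔛.restrictOpenι h U) (isFormal_restrictOpen hY U') (isFormal_restrictOpen h U) h,
      idealMap_goodOpen hU,
      idealMap_schIdealMap (isFormal_restrictOpen hY U') _ _ _ φ' _ (famComp_comm φ' g (secFam_comm h U)) (fun _ => rfl),
      schIdealMap_specMap (isFormal_restrictOpen hY U') σ g' (secFam_comm hY U') _ _ (fun n => (hgφ n).symm)]
    exact hbU'.2.1

theorem isAdmBlowUp_baseChange (hI : I.FG) (hp : IsAdicHom p) (hφ : IsAdicHom φ)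
    (hflat : ∀ (U : (𝔛.X 0).Opens) (U' : (𝔜.X 0).Opens), IsAffineOpen U → IsAffineOpen U' →
      ∀ e : U' ≤ (φ : Hom 𝔜 𝔛).app 0 ⁻¹ᵁ U, (secRes h hY φ e).Flat)
    (hJ : IsCohOpen 𝔛 h J) (hb : IsAdmBlowUp b h' h J) (hP : (pullbackSys b φ).IsFormal) :
    IsAdmBlowUp (pullbackSnd b φ) hP hY (idealMap φ hY h J) := by
  have hYp : IsAdicHom (φ ≫ p) := isAdicHom_comp hφ hp
  refine ⟨FComplLib.pullbackSnd_isAdicHom b φ hb.1, ?_, fun ℨ hℨ v hv hinv => ?_⟩
  · rw [idealMap_idealMap (pullbackSnd b φ) φ hP hY h J]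
    refine (isInvertible_iff _).2 fun z => ?_
    obtain ⟨U, hU, hxU, -⟩ := exists_isGoodOpen (h := h) (J := J) hp hI hJ
      ((φ : Hom _ _).app 0 ((pullbackSnd b φ : Hom _ _).app 0 z)) (U := ⊤) trivial
    obtain ⟨U', hU', hzU', hU'le⟩ := Opens.isBasis_iff_nbhd.mp (𝔜.X 0).isBasis_affineOpens
      (show (pullbackSnd b φ : Hom _ _).app 0 z ∈ (φ : Hom _ _).app 0 ⁻¹ᵁ U from hxU)
    let W := (pullbackSnd b φ : Hom _ _).app 0 ⁻¹ᵁ U'
    have hW := isFormal_restrictOpen hP W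
    have hinvW := isInvertible_baseChange_over h hY φ hU'le hI hp hYp hb hP hU hU' (hflat U U' hU.aff hU' hU'le) hW
    rw [idealMap_idealMap (pullbackSnd b φ) φ hP hY h J] at hinvW
    obtain ⟨U₂, S, -, -, hxU₂, hU₂W, hspan, hS, -⟩ := exists_genSet h hP p (pullbackSnd b φ ≫ φ) hp hI hJ W z hzU'
    exact exists_gen_descend hP hW hinvW hxU₂ hU₂W S hspan hS
  rw [idealMap_idealMap v φ hℨ hY h J] at hinv
  obtain ⟨k, hk, hu⟩ := hb.2.2 ℨ hℨ (v ≫ φ) (isAdicHom_comp hv hφ) hinv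
  have hpb := FComplLib.isPullback_pullbackSys b φ
  refine ⟨hpb.lift k v hk, hpb.lift_snd _ _ _, fun m hm => hpb.hom_ext ?_ ?_⟩
  · rw [hpb.lift_fst]
    refine hu _ ?_
    show (m ≫ pullbackFst b φ) ≫ b = v ≫ φ
    rw [Category.assoc, hpb.w, ← Category.assoc, hm]
  · rw [hpb.lift_snd]
    exact hm

end FBlowLib
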