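import Groth.Agent.FBlowLib.AffSec

/-!
# Generators of ideals of a spectrum and of coherent open ideals
-/

set_option autoImplicit false
set_option linter.style.haveILetI false

universe u

open CategoryTheory CategoryTheory.Limits AlgebraicGeometry TopologicalSpace Opposite FSch FBlow

noncomputable section

namespace FBlowLib

variable {𝔛 : Sys.{u}} (h : 𝔛.IsFormal)

theorem pull_mem_schIdealMap {A : Type u} [CommRing A] (q : ∀ n, 𝔛.X n ⟶ Spec (CommRingCat.of A))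
    (hq : ∀ n, 𝔛.ι n ≫ q (n + 1) = q n) {𝔞 : Ideal A} {a : A} (ha : a ∈ 𝔞) (W : (𝔛.X 0).Opens) :
    pull h q hq W a ∈ (schIdealMap 𝔛 h q hq (IdealSh.ofData (idealSpec A 𝔞))).sect W := by
  refine IdealSh.image_mem_map (q 0).base (schSharp 𝔛 h q hq) _ (W := (⊤ : (Spec (CommRingCat.of A)).Opens)) ?_
    (le_top : W ≤ (Opens.map (q 0).base).obj ⊤)
  intro x _
  refine ⟨⟨⊤, isAffineOpen_top _⟩, le_rfl, trivial, ?_⟩
  rw [FComplLib.idealSpec_eq, BlowUpLib.specIdeal_top]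
  refine (IdealSh.map_id_apply (O := (Spec (CommRingCat.of A)).sheaf) le_rfl _).symm ▸ ?_
  exact Ideal.mem_map_of_mem _ ha

theorem schIdealMap_le {A : Type u} [CommRing A] (q : ∀ n, 𝔛.X n ⟶ Spec (CommRingCat.of A))
    (hq : ∀ n, 𝔛.ι n ≫ q (n + 1) = q n) {𝔞 : Ideal A} {L : IdealSh (𝔛.Osh h)}
    (hL : ∀ a ∈ 𝔞, ∀ W, pull h q hq W a ∈ L.sect W) :
    schIdealMap 𝔛 h q hq (IdealSh.ofData (idealSpec A 𝔞)) ≤ L := by
  refine (map_le_iff (q 0).base (schSharp 𝔛 h q hq)).2 fun W k hk => ?_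
  refine (comap (q 0).base (schSharp 𝔛 h q hq) L).mem_of_local fun x hx => ?_
  obtain ⟨V, i, hxV, hV⟩ := hk x hx
  refine ⟨V.1, i, hxV, ?_⟩
  have htop := BlowUpLib.specIdeal_top 𝔞
  rw [← FComplLib.idealSpec_eq] at htop
  rw [← Scheme.IdealSheafData.map_ideal (idealSpec A 𝔞)
    (show V ≤ (⟨⊤, isAffineOpen_top _⟩ : (Spec (CommRingCat.of A)).affineOpens) from le_top (a := V.1)),
    htop, Ideal.map_map] at hV
  refine (Ideal.map_le_iff_le_comap.2 fun a ha => ?_ :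
    Ideal.map _ 𝔞 ≤ (comap (q 0).base (schSharp 𝔛 h q hq) L).sect V.1) hV
  have key := hL a ha ((Opens.map (q 0).base).obj V.1)
  rw [Ideal.mem_comap]
  show img (q 0).base (schSharp 𝔛 h q hq) V.1 (res (Spec (CommRingCat.of A)).sheaf le_top
    ((Scheme.ΓSpecIso (CommRingCat.of A)).inv a)) ∈ L.sect ((Opens.map (q 0).base).obj V.1)
  rw [img_res]
  exact key

variable {R : Type u} [CommRing R] {I : Ideal R} (p : 𝔛 ⟶ spf R I)

theorem exists_span_of_isCohOpen (hp : IsAdicHom p) (hI : I.FG) {J : IdealSh (𝔛.Osh h)}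
    (hJ : IsCohOpen 𝔛 h J) (x : 𝔛.X 0) :
    ∃ U : (𝔛.X 0).Opens, IsAffineOpen U ∧ x ∈ U ∧ ∃ N : ℕ,
      (∀ (V : (𝔛.X 0).Opens), V ≤ U → ∀ r ∈ I ^ (N + 1), pull h (toBase I p) (toBase_comm I p) V r ∈ J.sect V) ∧
      ∀ (V : (𝔛.X 0).Opens), V ≤ U → ∀ k ∈ J.sect V, ∀ y ∈ V, ∃ (W : (𝔛.X 0).Opens) (i : W ≤ V) (j : W ≤ U),
        y ∈ W ∧ res (𝔛.Osh h) i k ∈ Ideal.span (res (𝔛.Osh h) j '' J.sect U) := by
  obtain ⟨U', hxU', N, 𝒜, -, h𝒜⟩ := hJ x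
  obtain ⟨U, hU, hxU, hUU'⟩ := Opens.isBasis_iff_nbhd.mp (𝔛.X 0).isBasis_affineOpens hxU'
  refine ⟨U, hU, hxU, N, ?_⟩
  have hopen : ∀ (V : (𝔛.X 0).Opens), V ≤ U → ∀ r ∈ I ^ (N + 1),
      pull h (toBase I p) (toBase_comm I p) V r ∈ J.sect V := by
    intro V hV r hr
    rw [← res_pull h _ _ hV]
    refine J.map_mem hV ?_
    rw [h𝒜 U hUU', mem_ofLevel_iff]
    have : FModLib.oProj h U N (pull h (toBase I p) (toBase_comm I p) U r) = 0 := by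
      have := (ker_oProj h p hp hI hU N).1.ge (Ideal.mem_map_of_mem _ hr)
      rwa [RingHom.mem_ker] at this
    exact this.symm ▸ Ideal.zero_mem _
  refine ⟨hopen, fun V hV k hk y hy => ?_⟩
  rw [h𝒜 V (hV.trans hUU'), mem_ofLevel_iff] at hk
  have hyN : (𝔛.toX N) y ∈ 𝔛.lvU h N V := (FModLib.toX_preimage h N V).ge hy
  obtain ⟨Wn, i, hyW, hW⟩ := hk _ hyN
  have := Sys.toX_isClosedImmersion 𝔛 h N
  let W : (𝔛.X 0).Opens := 𝔛.toX N ⁻¹ᵁ Wn.1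
  have hWaff : IsAffineOpen W := Wn.2.preimage _
  have hWV : W ≤ V := (Scheme.Hom.preimage_mono _ i).trans (FModLib.toX_preimage h N V).le
  have hWn : 𝔛.lvU h N W ≤ Wn.1 := fun z hz => by
    have e : (𝔛.toX N) ((𝔛.gInv h N) z) = z := congr($(Sys.gInv_toX_base 𝔛 h N) z)
    exact e ▸ (hz : (𝔛.toX N) ((𝔛.gInv h N) z) ∈ Wn.1)
  refine ⟨W, hWV, hWV.trans hV, hyW, ?_⟩
  let Wn' : (𝔛.X N).affineOpens := ⟨_, FModLib.isAffineOpen_lvU h hWaff N⟩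
  let Un : (𝔛.X N).affineOpens := ⟨_, FModLib.isAffineOpen_lvU h hU N⟩
  have h1 : FModLib.oProj h W N (res (𝔛.Osh h) hWV k) ∈ 𝒜.ideal Wn' := by
    have := res_mem_ofData 𝒜 (V := Wn) (W := Wn') hWn hW
    rw [sch_map_comp_apply] at this
    rw [oProj_res h hWV N k]
    exact this
  have hle : 𝒜.ideal Wn' ≤ (Ideal.span (res (𝔛.Osh h) (hWV.trans hV) '' J.sect U)).map
      (FModLib.oProj h W N).hom := by
    rw [← Scheme.IdealSheafData.map_ideal 𝒜 (U := Wn') (V := Un)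
      ((Opens.map (𝔛.gInv h N)).monotone (hWV.trans hV)), Ideal.map_le_iff_le_comap]
    intro a' ha'
    obtain ⟨a, rfl⟩ := (ker_oProj h p hp hI hU N).2 a'
    rw [Ideal.mem_comap]
    have ha : a ∈ J.sect U := by
      rw [h𝒜 U hUU', mem_ofLevel_iff]
      exact fun z hz => ⟨Un, le_rfl, hz, (IdealSh.map_id_apply (O := (𝔛.X N).sheaf) le_rfl _).symm ▸ ha'⟩
    exact oProj_res h (hWV.trans hV) N a ▸ Ideal.mem_map_of_mem _ (Ideal.subset_span ⟨a, ha, rfl⟩)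
  obtain ⟨b, hb, hbk⟩ := (Ideal.mem_map_iff_of_surjective _ (ker_oProj h p hp hI hWaff N).2).1 (hle h1)
  have hker : res (𝔛.Osh h) hWV k - b ∈ RingHom.ker (FModLib.oProj h W N).hom := by
    rw [RingHom.mem_ker, map_sub, sub_eq_zero]
    exact hbk.symm
  rw [(ker_oProj h p hp hI hWaff N).1] at hker
  refine sub_add_cancel (res (𝔛.Osh h) hWV k) b ▸ Ideal.add_mem _ (?_ : _ ∈ _) hb
  refine (Ideal.map_le_iff_le_comap.2 fun r hr => ?_ : Ideal.map _ _ ≤ _) hker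
  rw [Ideal.mem_comap, ← res_pull h _ _ (hWV.trans hV)]
  exact Ideal.subset_span ⟨_, hopen U le_rfl r hr, rfl⟩

end FBlowLib
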