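import Groth.Agent.FBlowLib.AffSec
import Groth.Prelude.Def_FSch3

/-!
# Morphisms into formal spectra
-/

set_option autoImplicit false

universe u

open CategoryTheory CategoryTheory.Limits AlgebraicGeometry TopologicalSpace Opposite FSch

noncomputable section

namespace FBlowLib

section Spec

variable {Y : Scheme.{u}} {C : Type u} [CommRing C]

theorem homSpec_ext {f g : Y ⟶ Spec (CommRingCat.of C)}
    (e : ∀ c : C, f.appLE ⊤ ⊤ le_top ((Scheme.ΓSpecIso (CommRingCat.of C)).inv c) =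
      g.appLE ⊤ ⊤ le_top ((Scheme.ΓSpecIso (CommRingCat.of C)).inv c)) : f = g := by
  refine ext_of_isAffine ((cancel_epi (Scheme.ΓSpecIso (CommRingCat.of C)).inv).1 ?_)
  ext c
  have := e c
  rw [Scheme.Hom.appLE, Scheme.Hom.appLE] at this
  refine Eq.trans ?_ (this.trans ?_)
  · exact congr($((congrArg (f.appTop ≫ ·) ((congrArg Y.presheaf.map (Subsingleton.elim (homOfLE le_top).op (𝟙 _))).trans
      (Y.presheaf.map_id _))).trans (Category.comp_id _)) ((Scheme.ΓSpecIso (CommRingCat.of C)).inv c)).symm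
  · exact congr($((congrArg (g.appTop ≫ ·) ((congrArg Y.presheaf.map (Subsingleton.elim (homOfLE le_top).op (𝟙 _))).trans
      (Y.presheaf.map_id _))).trans (Category.comp_id _)) ((Scheme.ΓSpecIso (CommRingCat.of C)).inv c))

/-- The morphism to a spectrum given by a ring map to global sections. -/
def homSpec (ψ : C →+* Γ(Y, ⊤)) : Y ⟶ Spec (CommRingCat.of C) :=
  Y.toSpecΓ ≫ Spec.map (CommRingCat.ofHom ψ)

theorem homSpec_top (ψ : C →+* Γ(Y, ⊤)) (c : C) :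
    (homSpec ψ).appLE ⊤ ⊤ le_top ((Scheme.ΓSpecIso (CommRingCat.of C)).inv c) = ψ c := by
  have e : (homSpec ψ).appLE ⊤ ⊤ le_top = (homSpec ψ).appTop :=
    (Scheme.Hom.app_eq_appLE (homSpec ψ)).symm
  rw [e, homSpec, Scheme.Hom.comp_appTop, Scheme.toSpecΓ_appTop]
  have h1 := congr($(Scheme.ΓSpecIso_inv_naturality (CommRingCat.ofHom ψ)) c)
  refine (congrArg (Scheme.ΓSpecIso Γ(Y, ⊤)).hom h1.symm).trans ?_
  exact congr($((Scheme.ΓSpecIso Γ(Y, ⊤)).inv_hom_id) (ψ c))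

theorem specMap_top {A : Type u} [CommRing A] (φ : A →+* C) (a : A) :
    (Spec.map (CommRingCat.ofHom φ)).appLE ⊤ ⊤ le_top ((Scheme.ΓSpecIso (CommRingCat.of A)).inv a) =
      (Scheme.ΓSpecIso (CommRingCat.of C)).inv (φ a) := by
  have e : (Spec.map (CommRingCat.ofHom φ)).appLE ⊤ ⊤ le_top = (Spec.map (CommRingCat.ofHom φ)).appTop :=
    (Scheme.Hom.app_eq_appLE (Spec.map (CommRingCat.ofHom φ))).symm
  rw [e]
  exact congr($((Scheme.ΓSpecIso_inv_naturality (CommRingCat.ofHom φ)).symm) a)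

theorem comp_specMap_top {A : Type u} [CommRing A] (φ : A →+* C) (f : Y ⟶ Spec (CommRingCat.of C))
    (W : Y.Opens) (a : A) :
    (f ≫ Spec.map (CommRingCat.ofHom φ)).appLE ⊤ W le_top ((Scheme.ΓSpecIso (CommRingCat.of A)).inv a) =
      f.appLE ⊤ W le_top ((Scheme.ΓSpecIso (CommRingCat.of C)).inv (φ a)) := by
  rw [← specMap_top φ a]
  exact congr($((Scheme.Hom.appLE_comp_appLE f (Spec.map (CommRingCat.ofHom φ)) ⊤ ⊤ W le_top le_top).symm) _)

end Spec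

variable {𝔜 : Sys.{u}} (h : 𝔜.IsFormal) {C : Type u} [CommRing C] {J : Ideal C}

/-- The projection of global sections to a level. -/
abbrev topLvl (n : ℕ) : (𝔜.Osh h).obj.obj (op ⊤) →+* Γ(𝔜.X n, ⊤) := (FModLib.oProj h ⊤ n).hom

theorem topLvl_succ (n : ℕ) (b : (𝔜.Osh h).obj.obj (op ⊤)) :
    (𝔜.ι n).appLE ⊤ ⊤ le_top (topLvl h (n + 1) b) = topLvl h n b :=
  FModLib.oProj_succ h ⊤ n b

theorem topLvl_pull (q : ∀ n, 𝔜.X n ⟶ Spec (CommRingCat.of C)) (hq : ∀ n, 𝔜.ι n ≫ q (n + 1) = q n)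
    (n : ℕ) (c : C) : topLvl h n (pull h q hq ⊤ c) = pullLvl q n ⊤ c :=
  oProj_pull h q hq n ⊤ c

variable (J) in
/-- The morphism to the formal spectrum given by a ring map to global sections. -/
def homSpf (ψ : C →+* (𝔜.Osh h).obj.obj (op ⊤)) (hψ : ∀ n, ∀ j ∈ J ^ (n + 1), topLvl h n (ψ j) = 0) :
    𝔜 ⟶ spf C J where
  app n := homSpec (Ideal.Quotient.lift (J ^ (n + 1)) ((topLvl h n).comp ψ) (hψ n))
  comm n := by
    refine homSpec_ext fun z => ?_
    obtain ⟨c, rfl⟩ := Ideal.Quotient.mk_surjective z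
    refine (comp_specMap_top _ _ ⊤ (Ideal.Quotient.mk _ c)).trans ?_
    refine (homSpec_top _ _).trans ?_
    refine Eq.trans ?_ (congr($(Scheme.Hom.appLE_comp_appLE (𝔜.ι n)
      (homSpec (Ideal.Quotient.lift (J ^ (n + 1 + 1)) ((topLvl h (n + 1)).comp ψ) (hψ (n + 1))))
      ⊤ ⊤ ⊤ le_top le_top) ((Scheme.ΓSpecIso (CommRingCat.of (C ⧸ J ^ (n + 1 + 1)))).inv (Ideal.Quotient.mk _ c))))
    refine Eq.trans ?_ (congrArg ((𝔜.ι n).appLE ⊤ ⊤ le_top) (homSpec_top _ _)).symm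
    exact (topLvl_succ h n (ψ c)).symm

/-- The maps to the spectrum of a morphism to a formal spectrum. -/
abbrev toSpecOf (k : 𝔜 ⟶ spf C J) (n : ℕ) : 𝔜.X n ⟶ Spec (CommRingCat.of C) :=
  (k : Hom 𝔜 (spf C J)).app n ≫ spfToSpec C J n

theorem toSpecOf_comm (k : 𝔜 ⟶ spf C J) (n : ℕ) : 𝔜.ι n ≫ toSpecOf k (n + 1) = toSpecOf k n :=
  toBase_comm J k n

theorem pull_homSpf (ψ : C →+* (𝔜.Osh h).obj.obj (op ⊤)) (hψ : ∀ n, ∀ j ∈ J ^ (n + 1), topLvl h n (ψ j) = 0)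
    (c : C) : pull h (toSpecOf (homSpf h J ψ hψ)) (toSpecOf_comm _) ⊤ c = ψ c :=
  FModLib.oSec_ext h ⊤ fun n => by
    refine (oProj_pull h _ (toSpecOf_comm _) n ⊤ c).trans ?_
    refine (comp_specMap_top (Ideal.Quotient.mk (J ^ (n + 1))) _ ⊤ c).trans ?_
    exact homSpec_top _ _

theorem homSpf_ext {k k' : 𝔜 ⟶ spf C J}
    (e : ∀ c, pull h (toSpecOf k) (toSpecOf_comm k) ⊤ c = pull h (toSpecOf k') (toSpecOf_comm k') ⊤ c) :
    k = k' := by
  refine Hom.ext (funext fun n => homSpec_ext fun z => ?_)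
  obtain ⟨c, rfl⟩ := Ideal.Quotient.mk_surjective z
  have := congrArg (topLvl h n) (e c)
  rw [topLvl_pull, topLvl_pull] at this
  refine (comp_specMap_top (Ideal.Quotient.mk (J ^ (n + 1))) _ ⊤ c).symm.trans ?_
  exact this.trans (comp_specMap_top (Ideal.Quotient.mk (J ^ (n + 1))) _ ⊤ c)

theorem toSpecOf_spfMap {A : Type u} [CommRing A] {K : Ideal A} (φ : A →+* C) (hle : K ≤ J.comap φ)
    (k : 𝔜 ⟶ spf C J) (n : ℕ) :
    toSpecOf (k ≫ spfMap J K φ hle) n = toSpecOf k n ≫ Spec.map (CommRingCat.ofHom φ) := by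
  show ((k : Hom 𝔜 (spf C J)).app n ≫ Spec.map (CommRingCat.ofHom (quotPowMap J K φ hle n))) ≫
      Spec.map (CommRingCat.ofHom (Ideal.Quotient.mk (K ^ (n + 1)))) =
    ((k : Hom 𝔜 (spf C J)).app n ≫ Spec.map (CommRingCat.ofHom (Ideal.Quotient.mk (J ^ (n + 1))))) ≫
      Spec.map (CommRingCat.ofHom φ)
  erw [Category.assoc, Category.assoc, ← Spec.map_comp, ← Spec.map_comp]
  rfl

theorem pull_spfMap {A : Type u} [CommRing A] {K : Ideal A} (φ : A →+* C) (hle : K ≤ J.comap φ)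
    (k : 𝔜 ⟶ spf C J) (W : (𝔜.X 0).Opens) (a : A) :
    pull h (toSpecOf (k ≫ spfMap J K φ hle)) (toSpecOf_comm _) W a =
      pull h (toSpecOf k) (toSpecOf_comm k) W (φ a) :=
  FModLib.oSec_ext h W fun n => by
    refine (oProj_pull h _ (toSpecOf_comm _) n W a).trans ?_
    refine Eq.trans ?_ (oProj_pull h _ (toSpecOf_comm k) n W (φ a)).symm
    show (toSpecOf (k ≫ spfMap J K φ hle) n).appLE ⊤ _ le_top _ = _
    rw [toSpecOf_spfMap φ hle k n]
    exact comp_specMap_top φ (toSpecOf k n) _ a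

end FBlowLib
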