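import Groth.Prelude.Def_FBlow

/-!
# Ideal sheaves: inverse images, products, invertibility
-/

set_option autoImplicit false

universe u

open CategoryTheory TopologicalSpace Opposite AlgebraicGeometry FBlow

noncomputable section

namespace FBlowLib

variable {T : TopCat.{u}} {O : Sheaf (Opens.grothendieckTopology T) CommRingCat.{u}}

/-- Restriction of sections. -/
abbrev res (O : Sheaf (Opens.grothendieckTopology T) CommRingCat.{u}) {U V : Opens T} (i : V ≤ U)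
    (s : O.obj.obj (op U)) : O.obj.obj (op V) := O.obj.map (homOfLE i).op s

theorem ideal_le_antisymm {J K : IdealSh O} (h₁ : J ≤ K) (h₂ : K ≤ J) : J = K :=
  IdealSh.ext (funext fun U => le_antisymm (h₁ U) (h₂ U))

theorem ideal_le_trans {J K L : IdealSh O} (h₁ : J ≤ K) (h₂ : K ≤ L) : J ≤ L :=
  fun U => (h₁ U).trans (h₂ U)

theorem mem_mul {J K : IdealSh O} {W : Opens T} {a b : O.obj.obj (op W)} (ha : a ∈ J.sect W)
    (hb : b ∈ K.sect W) : a * b ∈ (IdealSh.mul J K).sect W :=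
  IdealSh.subset_gen _ W ⟨a, ha, b, hb, rfl⟩

theorem mul_le {J K L : IdealSh O}
    (h : ∀ (W : Opens T) (a b : O.obj.obj (op W)), a ∈ J.sect W → b ∈ K.sect W → a * b ∈ L.sect W) :
    IdealSh.mul J K ≤ L :=
  IdealSh.gen_le fun W => by
    rintro _ ⟨a, ha, b, hb, rfl⟩
    exact h W a b ha hb

theorem mul_comm_ideal (J K : IdealSh O) : IdealSh.mul J K = IdealSh.mul K J :=
  ideal_le_antisymm (mul_le fun _ a b ha hb => mul_comm a b ▸ mem_mul hb ha)
    (mul_le fun _ a b ha hb => mul_comm a b ▸ mem_mul hb ha)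

theorem gen_mul_gen_le {S₁ S₂ : ∀ W : Opens T, Set (O.obj.obj (op W))} {L : IdealSh O}
    (h : ∀ (V : Opens T), ∀ a ∈ IdealSh.seed S₁ V, ∀ b ∈ IdealSh.seed S₂ V, a * b ∈ L.sect V) :
    IdealSh.mul (IdealSh.gen S₁) (IdealSh.gen S₂) ≤ L := by
  refine mul_le fun W a b ha hb => L.mem_of_local fun x hx => ?_
  obtain ⟨V₁, i₁, hx₁, h₁⟩ := ha x hx
  obtain ⟨V₂, i₂, hx₂, h₂⟩ := hb x hx
  refine ⟨V₁ ⊓ V₂, inf_le_left.trans i₁, ⟨hx₁, hx₂⟩, ?_⟩
  rw [map_mul]
  have h₁' : O.obj.map (homOfLE (inf_le_left.trans i₁)).op a ∈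
      Ideal.span (IdealSh.seed S₁ (V₁ ⊓ V₂)) := by
    rw [← IdealSh.map_comp_apply i₁ inf_le_left]
    exact IdealSh.map_span_seed inf_le_left h₁
  have h₂' : O.obj.map (homOfLE (inf_le_left.trans i₁)).op b ∈
      Ideal.span (IdealSh.seed S₂ (V₁ ⊓ V₂)) := by
    rw [show (inf_le_left.trans i₁ : V₁ ⊓ V₂ ≤ W) = inf_le_right.trans i₂ from rfl,
      ← IdealSh.map_comp_apply i₂ inf_le_right]
    exact IdealSh.map_span_seed inf_le_right h₂
  have key := Ideal.mul_mem_mul h₁' h₂'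
  rw [Ideal.span_mul_span'] at key
  refine (Ideal.span_le.mpr ?_) key
  rintro _ ⟨p, hp, q, hq, rfl⟩
  exact h _ p hp q hq

section Map

variable {T' : TopCat.{u}} {O' : Sheaf (Opens.grothendieckTopology T') CommRingCat.{u}} (g : T' ⟶ T)
  (φ : O ⟶ (TopCat.Sheaf.pushforward CommRingCat.{u} g).obj O')

/-- The image of a section along a morphism of ringed spaces. -/
abbrev img (W : Opens T) (a : O.obj.obj (op W)) : O'.obj.obj (op ((Opens.map g).obj W)) :=
  φ.hom.app (op W) a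

theorem img_res {U V : Opens T} (i : V ≤ U) (a : O.obj.obj (op U)) :
    img g φ V (res O i a) = res O' ((Opens.map g).monotone i) (img g φ U a) :=
  congr($(φ.hom.naturality (homOfLE i).op) a)

theorem img_mem_map (J : IdealSh O) {W : Opens T} {a : O.obj.obj (op W)} (ha : a ∈ J.sect W) :
    img g φ W a ∈ (IdealSh.map g φ J).sect ((Opens.map g).obj W) := by
  have := IdealSh.image_mem_map g φ J ha (le_refl ((Opens.map g).obj W))
  rwa [IdealSh.map_id_apply] at this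

/-- The preimage of an ideal sheaf. -/
def comap (L : IdealSh O') : IdealSh O where
  sect W := (L.sect ((Opens.map g).obj W)).comap (φ.hom.app (op W)).hom
  map_mem {U V} i s hs := by
    rw [Ideal.mem_comap] at hs ⊢
    show img g φ V (res O i s) ∈ L.sect ((Opens.map g).obj V)
    rw [img_res]
    exact L.map_mem ((Opens.map g).monotone i) hs
  mem_of_local {U s} hs := by
    rw [Ideal.mem_comap]
    refine L.mem_of_local fun y hy => ?_
    obtain ⟨V, i, hxV, hV⟩ := hs (g y) hy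
    refine ⟨(Opens.map g).obj V, (Opens.map g).monotone i, hxV, ?_⟩
    rw [Ideal.mem_comap] at hV
    have hV' : img g φ V (res O i s) ∈ L.sect ((Opens.map g).obj V) := hV
    rw [img_res] at hV'
    exact hV'

theorem map_le_iff {J : IdealSh O} {L : IdealSh O'} :
    IdealSh.map g φ J ≤ L ↔ J ≤ comap g φ L := by
  refine ⟨fun h W a ha => ?_, fun h => IdealSh.map_le fun W a ha V j => L.map_mem j (h W ha)⟩
  exact h _ (img_mem_map g φ J ha)

theorem map_mul_ideal (J K : IdealSh O) :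
    IdealSh.map g φ (IdealSh.mul J K) = IdealSh.mul (IdealSh.map g φ J) (IdealSh.map g φ K) := by
  refine ideal_le_antisymm ((map_le_iff g φ).2 (mul_le fun W a b ha hb => ?_)) ?_
  · show img g φ W (a * b) ∈ (IdealSh.mul (IdealSh.map g φ J) (IdealSh.map g φ K)).sect ((Opens.map g).obj W)
    have e : img g φ W (a * b) = img g φ W a * img g φ W b := _root_.map_mul (φ.hom.app (op W)).hom a b
    rw [e]
    exact mem_mul (img_mem_map g φ J ha) (img_mem_map g φ K hb)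
  · refine gen_mul_gen_le fun V p hp q hq => ?_
    obtain ⟨V₁, j₁, _, ⟨W₁, k₁, a, ha, rfl⟩, rfl⟩ := hp
    obtain ⟨V₂, j₂, _, ⟨W₂, k₂, b, hb, rfl⟩, rfl⟩ := hq
    rw [IdealSh.map_comp_apply, IdealSh.map_comp_apply]
    have hV : V ≤ (Opens.map g).obj (W₁ ⊓ W₂) := le_inf (j₁.trans k₁) (j₂.trans k₂)
    have := IdealSh.image_mem_map g φ (IdealSh.mul J K)
      (mem_mul (J.map_mem (inf_le_left : W₁ ⊓ W₂ ≤ W₁) ha) (K.map_mem (inf_le_right : W₁ ⊓ W₂ ≤ W₂) hb)) hV
    have e : φ.hom.app (op (W₁ ⊓ W₂)) (O.obj.map (homOfLE inf_le_left).op a * O.obj.map (homOfLE inf_le_right).op b) =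
        (φ.hom.app (op (W₁ ⊓ W₂)) (O.obj.map (homOfLE inf_le_left).op a) *
          φ.hom.app (op (W₁ ⊓ W₂)) (O.obj.map (homOfLE inf_le_right).op b) : O'.obj.obj (op ((Opens.map g).obj (W₁ ⊓ W₂)))) :=
      _root_.map_mul (φ.hom.app (op (W₁ ⊓ W₂))).hom _ _
    erw [e, _root_.map_mul] at this
    have e₁ := img_res g φ (inf_le_left : W₁ ⊓ W₂ ≤ W₁) a
    have e₂ := img_res g φ (inf_le_right : W₁ ⊓ W₂ ≤ W₂) b
    dsimp only [img, res] at e₁ e₂
    erw [e₁, e₂, IdealSh.map_comp_apply, IdealSh.map_comp_apply] at this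
    exact this

theorem map_map {T'' : TopCat.{u}} {O'' : Sheaf (Opens.grothendieckTopology T'') CommRingCat.{u}} (g' : T'' ⟶ T')
    (φ' : O' ⟶ (TopCat.Sheaf.pushforward CommRingCat.{u} g').obj O'')
    (χ : O ⟶ (TopCat.Sheaf.pushforward CommRingCat.{u} (g' ≫ g)).obj O'')
    (hχ : ∀ (W : Opens T) (a : O.obj.obj (op W)),
      img (g' ≫ g) χ W a = img g' φ' ((Opens.map g).obj W) (img g φ W a))
    (J : IdealSh O) : IdealSh.map g' φ' (IdealSh.map g φ J) = IdealSh.map (g' ≫ g) χ J := by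
  refine ideal_le_antisymm ((map_le_iff g' φ').2 ((map_le_iff g φ).2 fun W a ha => ?_))
    ((map_le_iff (g' ≫ g) χ).2 fun W a ha => ?_)
  · show img g' φ' ((Opens.map g).obj W) (img g φ W a) ∈
      (IdealSh.map (g' ≫ g) χ J).sect ((Opens.map (g' ≫ g)).obj W)
    rw [← hχ]
    exact img_mem_map _ χ J ha
  · show img (g' ≫ g) χ W a ∈
      (IdealSh.map g' φ' (IdealSh.map g φ J)).sect ((Opens.map g').obj ((Opens.map g).obj W))
    rw [hχ]
    exact img_mem_map g' φ' _ (img_mem_map g φ J ha)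

end Map

section Invertible

/-- `g` generates `J` over the opens inside `U` and is a non-zero-divisor there. -/
def IsGen (J : IdealSh O) (U : Opens T) (g : O.obj.obj (op U)) : Prop :=
  g ∈ J.sect U ∧ ∀ (V : Opens T) (i : V ≤ U),
    (∀ t : O.obj.obj (op V), t * res O i g = 0 → t = 0) ∧
    (∀ s ∈ J.sect V, ∃ t : O.obj.obj (op V), s = t * res O i g)

theorem IsGen.mono {J : IdealSh O} {U U' : Opens T} {g : O.obj.obj (op U)} (h : IsGen J U g) (e : U' ≤ U) :
    IsGen J U' (res O e g) :=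
  ⟨J.map_mem e h.1, fun V i => by
    have := h.2 V (i.trans e)
    rw [res, res, IdealSh.map_comp_apply]
    exact this⟩

theorem isInvertible_iff (J : IdealSh O) :
    J.IsInvertible ↔ ∀ x : T, ∃ (U : Opens T), x ∈ U ∧ ∃ g, IsGen J U g :=
  ⟨fun h x => let ⟨U, hx, g, hg, h'⟩ := h x; ⟨U, hx, g, hg, h'⟩,
    fun h x => let ⟨U, hx, g, hg, h'⟩ := h x; ⟨U, hx, g, hg, h'⟩⟩

theorem nzd_of_local {U : Opens T} (g : O.obj.obj (op U))
    (h : ∀ x ∈ U, ∃ (W : Opens T), x ∈ W ∧ ∀ (V : Opens T) (i : V ≤ U), V ≤ W →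
      ∀ t : O.obj.obj (op V), t * res O i g = 0 → t = 0)
    (V : Opens T) (i : V ≤ U) (t : O.obj.obj (op V)) (ht : t * res O i g = 0) : t = 0 := by
  choose W hxW hW using h
  refine TopCat.Sheaf.eq_of_locally_eq' O (fun x : V => V ⊓ W x.1 (i x.2)) V (fun x => homOfLE inf_le_left)
    (fun x hx => Opens.mem_iSup.mpr ⟨⟨x, hx⟩, hx, hxW x (i hx)⟩) t 0 fun x => ?_
  rw [map_zero]
  refine hW x.1 (i x.2) _ (inf_le_left.trans i) inf_le_right _ ?_
  have := congrArg (O.obj.map (homOfLE (inf_le_left : V ⊓ W x.1 (i x.2) ≤ V)).op) ht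
  rw [map_zero, _root_.map_mul, res, IdealSh.map_comp_apply] at this
  exact this

theorem exists_eq_mul_of_local {V : Opens T} (g s : O.obj.obj (op V))
    (hg : ∀ (W : Opens T) (i : W ≤ V) (t : O.obj.obj (op W)), t * res O i g = 0 → t = 0)
    (h : ∀ x ∈ V, ∃ (W : Opens T) (i : W ≤ V), x ∈ W ∧
      ∃ t : O.obj.obj (op W), res O i s = t * res O i g) :
    ∃ t : O.obj.obj (op V), s = t * g := by
  choose W i hxW t ht using h
  obtain ⟨u, hu, -⟩ := TopCat.Sheaf.existsUnique_gluing' O (fun x : V => W x.1 x.2) V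
    (fun x => homOfLE (i x.1 x.2)) (fun x hx => Opens.mem_iSup.mpr ⟨⟨x, hx⟩, hxW x hx⟩)
    (fun x => t x.1 x.2) (fun x y => by
      refine sub_eq_zero.1 (hg (W x.1 x.2 ⊓ W y.1 y.2) (inf_le_left.trans (i x.1 x.2)) _ ?_)
      rw [sub_mul, sub_eq_zero]
      have hx := congrArg (O.obj.map (homOfLE (inf_le_left : W x.1 x.2 ⊓ W y.1 y.2 ≤ _)).op) (ht x.1 x.2)
      have hy := congrArg (O.obj.map (homOfLE (inf_le_right : W x.1 x.2 ⊓ W y.1 y.2 ≤ _)).op) (ht y.1 y.2)
      rw [_root_.map_mul, res, res, IdealSh.map_comp_apply, IdealSh.map_comp_apply] at hx hy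
      exact hx.symm.trans hy)
  refine ⟨u, TopCat.Sheaf.eq_of_locally_eq' O (fun x : V => W x.1 x.2) V (fun x => homOfLE (i x.1 x.2))
    (fun x hx => Opens.mem_iSup.mpr ⟨⟨x, hx⟩, hxW x hx⟩) _ _ fun x => ?_⟩
  rw [_root_.map_mul]
  erw [hu x]
  exact ht x.1 x.2

theorem isInvertible_mul {J K : IdealSh O} (hJ : J.IsInvertible) (hK : K.IsInvertible) :
    (IdealSh.mul J K).IsInvertible := by
  rw [isInvertible_iff] at hJ hK ⊢
  intro x
  obtain ⟨U₁, hx₁, a, ha⟩ := hJ x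
  obtain ⟨U₂, hx₂, b, hb⟩ := hK x
  have ha := ha.mono (inf_le_left : U₁ ⊓ U₂ ≤ U₁)
  have hb := hb.mono (inf_le_right : U₁ ⊓ U₂ ≤ U₂)
  generalize res O (inf_le_left : U₁ ⊓ U₂ ≤ U₁) a = a at ha
  generalize res O (inf_le_right : U₁ ⊓ U₂ ≤ U₂) b = b at hb
  have hz : ∀ (V : Opens T) (i : V ≤ U₁ ⊓ U₂) (t : O.obj.obj (op V)), t * res O i (a * b) = 0 → t = 0 := by
    intro V i t ht
    rw [res, _root_.map_mul, ← mul_assoc] at ht
    exact (ha.2 V i).1 t ((hb.2 V i).1 _ ht)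
  refine ⟨U₁ ⊓ U₂, ⟨hx₁, hx₂⟩, a * b, mem_mul ha.1 hb.1, fun V i => ⟨hz V i, fun s hs => ?_⟩⟩
  refine exists_eq_mul_of_local _ s (fun W j t ht => hz W (j.trans i) t ?_) fun y hy => ?_
  · rwa [res, res, IdealSh.map_comp_apply] at ht
  · obtain ⟨W, j, hyW, hW⟩ := hs y hy
    refine ⟨W, j, hyW, ?_⟩
    have : Ideal.span (IdealSh.seed (fun W => {t | ∃ p ∈ J.sect W, ∃ q ∈ K.sect W, t = p * q}) W) ≤
        Ideal.span {res O (j.trans i) (a * b)} := by
      rw [Ideal.span_le]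
      rintro _ ⟨W', e, _, ⟨p, hp, q, hq, rfl⟩, rfl⟩
      obtain ⟨c, hc⟩ := (ha.2 W (j.trans i)).2 _ (J.map_mem e hp)
      obtain ⟨d, hd⟩ := (hb.2 W (j.trans i)).2 _ (K.map_mem e hq)
      rw [SetLike.mem_coe, Ideal.mem_span_singleton', _root_.map_mul, hc, hd, res, _root_.map_mul]
      exact ⟨c * d, mul_mul_mul_comm c d _ _⟩
    obtain ⟨t, ht⟩ := Ideal.mem_span_singleton'.1 (this hW)
    refine ⟨t, ?_⟩
    rw [res, res, IdealSh.map_comp_apply]
    exact ht.symm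

/-- Near every point the sheaf of rings is local: if the unit ideal is generated by a set, one of the elements is a
unit near the point. -/
def IsLocalSh (O : Sheaf (Opens.grothendieckTopology T) CommRingCat.{u}) : Prop :=
  ∀ (U : Opens T) (x : T), x ∈ U → ∀ S : Set (O.obj.obj (op U)), Ideal.span S = ⊤ →
    ∃ s ∈ S, ∃ (V : Opens T) (i : V ≤ U), x ∈ V ∧ IsUnit (res O i s)

theorem exists_gen_of_mul (hO : IsLocalSh O) {J K : IdealSh O} (h : (IdealSh.mul J K).IsInvertible) (x : T) :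
    ∃ (U : Opens T), x ∈ U ∧ ∃ g, IsGen J U g := by
  obtain ⟨U, hxU, g, hg, hgen⟩ := h x
  obtain ⟨V, i, hxV, hV⟩ := hg x hxU
  have hgV : IsGen (IdealSh.mul J K) V (res O i g) := IsGen.mono ⟨hg, hgen⟩ i
  change res O i g ∈ _ at hV
  generalize res O i g = g at hgV hV
  let S : Set (O.obj.obj (op V)) := {t | ∃ a ∈ J.sect V, ∃ b ∈ K.sect V, a * b = t * g}
  have hle : Ideal.span (IdealSh.seed (fun W => {t | ∃ p ∈ J.sect W, ∃ q ∈ K.sect W, t = p * q}) V) ≤
      Ideal.span S * Ideal.span {g} := by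
    rw [Ideal.span_le]
    rintro _ ⟨W', e, _, ⟨p, hp, q, hq, rfl⟩, rfl⟩
    rw [_root_.map_mul]
    obtain ⟨t, ht⟩ := (hgV.2 V le_rfl).2 _ (mem_mul (J.map_mem e hp) (K.map_mem e hq))
    rw [res, IdealSh.map_id_apply] at ht
    rw [ht]
    exact Ideal.mul_mem_mul (Ideal.subset_span ⟨_, J.map_mem e hp, _, K.map_mem e hq, ht⟩)
      (Ideal.mem_span_singleton_self g)
  obtain ⟨z, hz, hz'⟩ := Ideal.mem_mul_span_singleton.1 (hle hV)
  have hz1 : z - 1 = 0 := by
    refine (hgV.2 V le_rfl).1 _ ?_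
    rw [res, IdealSh.map_id_apply, sub_mul, one_mul, sub_eq_zero]
    exact hz'
  have htop : Ideal.span S = ⊤ := (Ideal.eq_top_iff_one _).2 (sub_eq_zero.1 hz1 ▸ hz)
  obtain ⟨t, ⟨a, ha, b, hb, hab⟩, W, j, hxW, hu⟩ := hO V x hxV S htop
  have hgW := hgV.mono j
  replace hab := congrArg (O.obj.map (homOfLE j).op) hab
  rw [_root_.map_mul, _root_.map_mul] at hab
  have haW := J.map_mem j ha
  have hbW := K.map_mem j hb
  generalize O.obj.map (homOfLE j).op a = a at hab haW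
  generalize O.obj.map (homOfLE j).op b = b at hab hbW
  change a * b = res O j t * res O j g at hab
  generalize res O j g = g at hgW hab
  generalize res O j t = t at hab hu
  obtain ⟨v, rfl⟩ := hu
  have key : g = a * (b * ↑v⁻¹) := by
    rw [← mul_assoc, hab, mul_comm (v : O.obj.obj (op W)) g, mul_assoc, Units.mul_inv, mul_one]
  refine ⟨W, hxW, a, haW, fun V' i' => ⟨fun r hr => (hgW.2 V' i').1 r ?_, fun s hs => ?_⟩⟩
  · rw [key, res, _root_.map_mul, ← mul_assoc]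
    exact (congrArg (· * _) hr).trans (zero_mul _)
  · obtain ⟨c, hc⟩ := (hgW.2 V' i').2 _ (mem_mul hs (K.map_mem i' hbW))
    refine ⟨c * res O i' (↑v⁻¹ : O.obj.obj (op W)), sub_eq_zero.1 ((hgW.2 V' i').1 _ ?_)⟩
    rw [sub_mul, sub_eq_zero]
    conv_lhs => rw [key]
    simp only [res, _root_.map_mul] at hc ⊢
    linear_combination (O.obj.map (homOfLE i').op a * O.obj.map (homOfLE i').op (↑v⁻¹ : O.obj.obj (op W))) * hc

theorem isInvertible_left_of_mul (hO : IsLocalSh O) {J K : IdealSh O} (h : (IdealSh.mul J K).IsInvertible) :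
    J.IsInvertible :=
  (isInvertible_iff J).2 (exists_gen_of_mul hO h)

theorem isInvertible_right_of_mul (hO : IsLocalSh O) {J K : IdealSh O} (h : (IdealSh.mul J K).IsInvertible) :
    K.IsInvertible :=
  isInvertible_left_of_mul hO (mul_comm_ideal J K ▸ h)

end Invertible

end FBlowLib
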