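import Groth.Agent.FBlowLib.DataAffine
import Groth.Agent.HilbPtsLib.Glue

/-!
# Global quasi-coherent data for open ideal sheaves on a level
-/

set_option autoImplicit false
set_option linter.style.haveILetI false

universe u

open CategoryTheory CategoryTheory.Limits AlgebraicGeometry TopologicalSpace Opposite FSch FBlow

noncomputable section

namespace FBlowLib

/-- Two ideal sheaves compare if they compare on the affine opens below the members of a cover. -/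
theorem ideal_le_of_loc {X : Scheme.{u}} {O : Sheaf (Opens.grothendieckTopology X.toTopCat) CommRingCat.{u}}
    {J K : IdealSh O}
    (hl : ∀ x : X, ∃ U : X.Opens, x ∈ U ∧ ∀ V : X.Opens, IsAffineOpen V → V ≤ U → J.sect V ≤ K.sect V) : J ≤ K := by
  intro W s hs
  refine K.mem_of_local fun x hx => ?_
  obtain ⟨U, hxU, hU⟩ := hl x
  obtain ⟨V, hV, hxV, hVle⟩ := Opens.isBasis_iff_nbhd.mp X.isBasis_affineOpens (show x ∈ W ⊓ U from ⟨hx, hxU⟩)
  exact ⟨V, hVle.trans inf_le_left, hxV, hU V hV (hVle.trans inf_le_right) (J.map_mem _ hs)⟩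

/-- Data agreeing on the affine opens inside the range of an open immersion have the same inverse image. -/
theorem comap_eq_of_agree {X Z : Scheme.{u}} (g : Z ⟶ X) [IsOpenImmersion g] {I K : X.IdealSheafData}
    (hag : ∀ D : X.affineOpens, (D.1 : Set X) ⊆ Set.range g → I.ideal D = K.ideal D) : I.comap g = K.comap g := by
  refine Scheme.IdealSheafData.ext (funext fun D => ?_)
  rw [Scheme.IdealSheafData.ideal_comap_of_isOpenImmersion, Scheme.IdealSheafData.ideal_comap_of_isOpenImmersion,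
    hag _ (by rintro _ ⟨z, -, rfl⟩; exact Set.mem_range_self z)]

/-- Conversely, equal inverse images along an open immersion give equal ideals inside its range. -/
theorem agree_of_comap_eq {X Z : Scheme.{u}} (g : Z ⟶ X) [IsOpenImmersion g] {I K : X.IdealSheafData}
    (e : I.comap g = K.comap g) (D : X.affineOpens) (hD : (D.1 : Set X) ⊆ Set.range g) : I.ideal D = K.ideal D := by
  have hD' : IsAffineOpen (g ⁻¹ᵁ D.1) := D.2.preimage_of_isOpenImmersion g (fun x hx => hD hx)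
  have e1 := congrArg (fun L : Z.IdealSheafData => L.ideal ⟨_, hD'⟩) e
  simp only [Scheme.IdealSheafData.ideal_comap_of_isOpenImmersion] at e1
  have hDe : (⟨g ''ᵁ (g ⁻¹ᵁ D.1), hD'.image_of_isOpenImmersion g⟩ : X.affineOpens) = D := Subtype.ext (SetLike.coe_injective (Set.image_preimage_eq_of_subset hD))
  have e2 := Ideal.comap_injective_of_surjective _
    (ConcreteCategory.bijective_of_isIso (g.appIso (g ⁻¹ᵁ D.1)).inv).2 e1
  exact hDe ▸ e2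

/-- Finite type of quasi-coherent data is local. -/
theorem idealFT_of_local {X : Scheme.{u}} {K : X.IdealSheafData}
    (hl : ∀ x : X, ∃ U : X.Opens, x ∈ U ∧ ∀ D : X.affineOpens, D.1 ≤ U → (K.ideal D).FG) : FSch.IdealFT K := by
  intro V
  have key : ∀ x : V.1, ∃ r : Γ(X, V.1), x.1 ∈ X.basicOpen r ∧ (K.ideal (X.affineBasicOpen r)).FG := fun x => by
    obtain ⟨U, hxU, hU⟩ := hl x.1
    obtain ⟨r, hr, hxr⟩ := V.2.exists_basicOpen_le (V := U) ⟨x.1, hxU⟩ x.2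
    exact ⟨r, hxr, hU _ hr⟩
  choose r hxr hfg using key
  have hspan : Ideal.span (Set.range r) = ⊤ := by
    rw [← V.2.self_le_iSup_basicOpen_iff]
    intro x hx
    exact Opens.mem_iSup.mpr ⟨⟨_, ⟨x, hx⟩, rfl⟩, hxr ⟨x, hx⟩⟩
  refine Ideal.fg_of_localizationSpan (Set.range r) hspan ?_
  rintro ⟨_, x, rfl⟩
  haveI : IsLocalization.Away (r x) Γ(X, X.basicOpen (r x)) := V.2.isLocalization_basicOpen (r x)
  let e := (IsLocalization.algEquiv (Submonoid.powers (r x)) Γ(X, X.basicOpen (r x))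
    (Localization.Away (r x))).toRingEquiv
  have h0 : ((K.ideal V).map (algebraMap Γ(X, V.1) Γ(X, X.basicOpen (r x)))).FG := by
    have := hfg x
    rw [← K.map_ideal_basicOpen V (r x)] at this
    exact this
  have h := Ideal.FG.map h0 (e.toRingHom : Γ(X, X.basicOpen (r x)) →+* Localization.Away (r x))
  rw [Ideal.map_map] at h
  convert h using 2
  ext y
  exact ((IsLocalization.algEquiv (Submonoid.powers (r x)) Γ(X, X.basicOpen (r x))
    (Localization.Away (r x))).commutes y).symm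

section

variable {𝔛 : Sys.{u}} (h : 𝔛.IsFormal)

/-- The affine open of a level over an affine open of the common space. -/
abbrev lvA {V : (𝔛.X 0).Opens} (hV : IsAffineOpen V) (n : ℕ) : (𝔛.X n).affineOpens :=
  ⟨𝔛.lvU h n V, FModLib.isAffineOpen_lvU h hV n⟩

/-- The projection of sections to a level, as a ring homomorphism. -/
abbrev lvPr (V : (𝔛.X 0).Opens) (n : ℕ) : (𝔛.Osh h).obj.obj (op V) →+* Γ(𝔛.X n, 𝔛.lvU h n V) :=
  (FModLib.oProj h V n).hom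

theorem lvPr_res {U V : (𝔛.X 0).Opens} (i : V ≤ U) (n : ℕ) (s : (𝔛.Osh h).obj.obj (op U)) :
    lvPr h V n ((𝔛.Osh h).obj.map (homOfLE i).op s) =
      (𝔛.X n).presheaf.map (homOfLE (lvU_mono 𝔛 h n i)).op (lvPr h U n s) := by
  change ((𝔛.Osh h).obj.map (homOfLE i).op ≫ (𝔛.OshProj h n).hom.app (op V)) s = _
  rw [(𝔛.OshProj h n).hom.naturality, CategoryTheory.comp_apply]
  rfl

theorem exists_lvA (n : ℕ) (W : (𝔛.X n).affineOpens) :
    ∃ (V : (𝔛.X 0).Opens) (hV : IsAffineOpen V), W = lvA h hV n := by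
  have := Sys.toX_isClosedImmersion 𝔛 h n
  refine ⟨𝔛.toX n ⁻¹ᵁ W.1, W.2.preimage (𝔛.toX n), Subtype.ext (SetLike.coe_injective (Set.ext fun z => ?_))⟩
  show z ∈ W.1 ↔ (𝔛.toX n).base (𝔛.gInv h n z) ∈ W.1
  rw [show (𝔛.toX n).base (𝔛.gInv h n z) = z from congr($(Sys.gInv_toX_base 𝔛 h n) z)]

theorem mem_ofLevel_affine {V : (𝔛.X 0).Opens} (hV : IsAffineOpen V) (n : ℕ) (𝒜 : (𝔛.X n).IdealSheafData)
    (s : (𝔛.Osh h).obj.obj (op V)) :
    s ∈ (ofLevel 𝔛 h n 𝒜).sect V ↔ lvPr h V n s ∈ 𝒜.ideal (lvA h hV n) :=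
  (mem_ofLevel_iff 𝔛 h n 𝒜 V s).trans (mem_ofData_affine_iff 𝒜 (lvA h hV n))

theorem sect_ofLevel {V : (𝔛.X 0).Opens} (hV : IsAffineOpen V) (n : ℕ) (𝒜 : (𝔛.X n).IdealSheafData) :
    (ofLevel 𝔛 h n 𝒜).sect V = (𝒜.ideal (lvA h hV n)).comap (lvPr h V n) :=
  Ideal.ext (mem_ofLevel_affine h hV n 𝒜)

theorem isCohOpen_ofLevel {n : ℕ} {𝒜 : (𝔛.X n).IdealSheafData} (h𝒜 : FSch.IdealFT 𝒜) :
    IsCohOpen 𝔛 h (ofLevel 𝔛 h n 𝒜) :=
  fun _ => ⟨⊤, trivial, n, 𝒜, h𝒜, fun _ _ => rfl⟩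

/-- `J` contains the kernel of the projection to the `n`-th level. -/
def KerLe (J : IdealSh (𝔛.Osh h)) (n : ℕ) : Prop := IdealSh.ker (𝔛.OshProj h n) ≤ J

theorem kerLe_ofLevel (n : ℕ) (𝒜 : (𝔛.X n).IdealSheafData) : KerLe h (ofLevel 𝔛 h n 𝒜) n := fun V s hs =>
  (mem_ofLevel_iff 𝔛 h n 𝒜 V s).2 (by rw [(IdealSh.mem_ker_iff _ _ _).1 hs]; exact zero_mem _)

variable {R : Type u} [CommRing R] {I : Ideal R} (p : 𝔛 ⟶ spf R I) (hp : IsAdicHom p) (hI : I.FG)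

include hp hI

theorem surjective_lvPr {V : (𝔛.X 0).Opens} (hV : IsAffineOpen V) (n : ℕ) : Function.Surjective (lvPr h V n) :=
  (ker_oProj h p hp hI hV n).2

theorem map_sect_ofLevel {V : (𝔛.X 0).Opens} (hV : IsAffineOpen V) (n : ℕ) (𝒜 : (𝔛.X n).IdealSheafData) :
    ((ofLevel 𝔛 h n 𝒜).sect V).map (lvPr h V n) = 𝒜.ideal (lvA h hV n) := by
  rw [sect_ofLevel h hV]
  exact Ideal.map_comap_of_surjective _ (surjective_lvPr h p hp hI hV n) _

theorem ker_sect {V : (𝔛.X 0).Opens} (hV : IsAffineOpen V) (n : ℕ) :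
    (IdealSh.ker (𝔛.OshProj h n)).sect V = (I ^ (n + 1)).map (pull h (toBase I p) (toBase_comm I p) V) :=
  (ker_oProj h p hp hI hV n).1

theorem kerLe_iff (J : IdealSh (𝔛.Osh h)) (n : ℕ) :
    KerLe h J n ↔ ∀ V : (𝔛.X 0).Opens, IsAffineOpen V →
      ∀ r ∈ I ^ (n + 1), pull h (toBase I p) (toBase_comm I p) V r ∈ J.sect V := by
  refine ⟨fun hk V hV r hr => hk V ?_, fun hk => ideal_le_of_loc fun x => ⟨⊤, trivial, fun V hV _ => ?_⟩⟩
  · rw [ker_sect h p hp hI hV]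
    exact Ideal.mem_map_of_mem _ hr
  · rw [ker_sect h p hp hI hV, Ideal.map_le_iff_le_comap]
    exact hk V hV

theorem KerLe.mono {J : IdealSh (𝔛.Osh h)} {n m : ℕ} (hk : KerLe h J n) (e : n ≤ m) : KerLe h J m :=
  (kerLe_iff h p hp hI J m).2 fun V hV r hr =>
    (kerLe_iff h p hp hI J n).1 hk V hV r (Ideal.pow_le_pow_right (by omega) hr)

theorem fg_sect_ofLevel {V : (𝔛.X 0).Opens} (hV : IsAffineOpen V) {n : ℕ} {𝒜 : (𝔛.X n).IdealSheafData}
    (h𝒜 : FSch.IdealFT 𝒜) : ((ofLevel 𝔛 h n 𝒜).sect V).FG := by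
  refine Ideal.fg_of_fg_map_of_fg_inf_ker_of_surjective (f := lvPr h V n) ?_ ?_ (surjective_lvPr h p hp hI hV n)
  · rw [map_sect_ofLevel h p hp hI hV]
    exact h𝒜 _
  · rw [inf_eq_right.2 (by rw [sect_ofLevel h hV]; exact Ideal.ker_le_comap _),
      show RingHom.ker (lvPr h V n) = _ from (ker_oProj h p hp hI hV n).1]
    exact (Ideal.FG.pow hI).map _

theorem ideal_eq_of_sect_eq {n : ℕ} {𝒜 ℬ : (𝔛.X n).IdealSheafData} {V : (𝔛.X 0).Opens} (hV : IsAffineOpen V)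
    (e : (ofLevel 𝔛 h n 𝒜).sect V = (ofLevel 𝔛 h n ℬ).sect V) :
    𝒜.ideal (lvA h hV n) = ℬ.ideal (lvA h hV n) := by
  rw [← map_sect_ofLevel h p hp hI hV, e, map_sect_ofLevel h p hp hI hV]

theorem ofLevel_injective (n : ℕ) : Function.Injective (ofLevel 𝔛 h n) := fun 𝒜 ℬ e =>
  Scheme.IdealSheafData.ext (funext fun W => by
    obtain ⟨V, hV, rfl⟩ := exists_lvA h n W
    exact ideal_eq_of_sect_eq h p hp hI hV (by rw [e]))

theorem ofLevel_succ (n : ℕ) (𝒜 : (𝔛.X n).IdealSheafData) :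
    ofLevel 𝔛 h (n + 1) (𝒜.map (𝔛.ι n)) = ofLevel 𝔛 h n 𝒜 := by
  have := (h n).1
  have key : ∀ V : (𝔛.X 0).Opens, IsAffineOpen V →
      (ofLevel 𝔛 h (n + 1) (𝒜.map (𝔛.ι n))).sect V = (ofLevel 𝔛 h n 𝒜).sect V := fun V hV => by
    ext s
    have hH : IsAffineOpen (𝔛.ι n ⁻¹ᵁ (lvA h hV (n + 1)).1) := (lvA h hV (n + 1)).2.preimage _
    rw [mem_ofLevel_affine h hV, mem_ofLevel_affine h hV, Scheme.IdealSheafData.ideal_map _ _ _ hH, Ideal.mem_comap]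
    have e2 : lvPr h V n s = (𝔛.X n).presheaf.map (homOfLE (le_of_eq (𝔛.lvU_succ h n V).symm)).op
        ((𝔛.ι n).app _ (lvPr h V (n + 1) s)) := by
      refine (FModLib.oProj_succ h V n s).symm.trans ?_
      rfl
    rw [e2]
    refine ⟨fun hm => res_mem_ofData 𝒜 (W := lvA h hV n) _ hm, fun hm => ?_⟩
    have hm' := res_mem_ofData 𝒜 (W := ⟨_, hH⟩) (le_of_eq (𝔛.lvU_succ h n V)) hm
    rw [sch_map_comp_apply] at hm'
    erw [IdealSh.map_id_apply (O := (𝔛.X n).sheaf)] at hm'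
    exact hm'
  exact ideal_le_antisymm (ideal_le_of_loc fun x => ⟨⊤, trivial, fun V hV _ => (key V hV).le⟩)
    (ideal_le_of_loc fun x => ⟨⊤, trivial, fun V hV _ => (key V hV).ge⟩)

theorem exists_raise {n : ℕ} {𝒜 : (𝔛.X n).IdealSheafData} (h𝒜 : FSch.IdealFT 𝒜) {M : ℕ} (e : n ≤ M) :
    ∃ ℬ : (𝔛.X M).IdealSheafData, FSch.IdealFT ℬ ∧ ofLevel 𝔛 h M ℬ = ofLevel 𝔛 h n 𝒜 := by
  induction M, e using Nat.le_induction with
  | base => exact ⟨𝒜, h𝒜, rfl⟩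
  | succ M _ ih =>
    obtain ⟨ℬ, hℬ, eℬ⟩ := ih
    refine ⟨ℬ.map (𝔛.ι M), fun W => ?_, (ofLevel_succ h p hp hI M ℬ).trans eℬ⟩
    obtain ⟨V, hV, rfl⟩ := exists_lvA h (M + 1) W
    rw [← map_sect_ofLevel h p hp hI hV, ofLevel_succ h p hp hI]
    exact (fg_sect_ofLevel h p hp hI hV hℬ).map _

/-- An ideal sheaf given at a fixed level near every point is given by global data at that level. -/
theorem exists_data_of_local {J : IdealSh (𝔛.Osh h)} (M : ℕ)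
    (hloc : ∀ x : 𝔛.X 0, ∃ U : (𝔛.X 0).Opens, x ∈ U ∧ ∃ 𝒜 : (𝔛.X M).IdealSheafData, FSch.IdealFT 𝒜 ∧
      ∀ V : (𝔛.X 0).Opens, V ≤ U → J.sect V = (ofLevel 𝔛 h M 𝒜).sect V) :
    ∃ 𝒜 : (𝔛.X M).IdealSheafData, FSch.IdealFT 𝒜 ∧ J = ofLevel 𝔛 h M 𝒜 := by
  choose U hxU 𝒜 hft heq using hloc
  have hag : ∀ (x y : 𝔛.X 0) (D : (𝔛.X M).affineOpens), D.1 ≤ 𝔛.lvU h M (U x) → D.1 ≤ 𝔛.lvU h M (U y) →
      (𝒜 x).ideal D = (𝒜 y).ideal D := fun x y D hx hy => by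
    obtain ⟨V, hV, rfl⟩ := exists_lvA h M D
    have hle : ∀ W : (𝔛.X 0).Opens, 𝔛.lvU h M V ≤ 𝔛.lvU h M W → V ≤ W := fun W hW v hv => by
      have h1 := hW (show (𝔛.toX M).base v ∈ 𝔛.lvU h M V by
        show 𝔛.gInv h M ((𝔛.toX M).base v) ∈ V
        rw [show 𝔛.gInv h M ((𝔛.toX M).base v) = v from congr($(Sys.toX_base_gInv 𝔛 h M) v)]
        exact hv)
      change 𝔛.gInv h M ((𝔛.toX M).base v) ∈ W at h1
      rwa [show 𝔛.gInv h M ((𝔛.toX M).base v) = v from congr($(Sys.toX_base_gInv 𝔛 h M) v)] at h1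
    exact ideal_eq_of_sect_eq h p hp hI hV ((heq x V (hle _ hx)).symm.trans (heq y V (hle _ hy)))
  have hcov : ∀ z : 𝔛.X M, z ∈ 𝔛.lvU h M (U (𝔛.gInv h M z)) := fun z => hxU _
  let 𝒰 : (𝔛.X M).OpenCover := Scheme.openCoverOfIsOpenCover (𝔛.X M) (fun x : 𝔛.X 0 => 𝔛.lvU h M (U x))
    (IsOpenCover.mk (Opens.ext (Set.eq_univ_of_forall fun z => Opens.mem_iSup.mpr ⟨_, hcov z⟩)))
  obtain ⟨ℬ, hℬ⟩ := HilbPts.exists_glue 𝒰 (fun x => (𝒜 x).comap (𝒰.f x)) fun x y => by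
    rw [← Scheme.IdealSheafData.comap_comp, ← Scheme.IdealSheafData.comap_comp, pullback.condition]
    refine comap_eq_of_agree _ fun D hD => hag x y D (fun z hz => ?_) (fun z hz => ?_)
    · obtain ⟨w, rfl⟩ := hD hz
      rw [← pullback.condition]
      exact ((pullback.fst (𝒰.f x) (𝒰.f y)) w).2
    · obtain ⟨w, rfl⟩ := hD hz
      exact ((pullback.snd (𝒰.f x) (𝒰.f y)) w).2
  have key : ∀ (x : 𝔛.X 0) (D : (𝔛.X M).affineOpens), D.1 ≤ 𝔛.lvU h M (U x) → ℬ.ideal D = (𝒜 x).ideal D :=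
    fun x D hD => agree_of_comap_eq (𝒰.f x) (hℬ x) D ((Scheme.Opens.range_ι _).symm.subset.trans' hD)
  refine ⟨ℬ, idealFT_of_local fun z => ⟨_, hcov z, fun D hD => by rw [key _ D hD]; exact hft _ D⟩, ?_⟩
  have key' : ∀ (x : 𝔛.X 0) (V : (𝔛.X 0).Opens), IsAffineOpen V → V ≤ U x →
      J.sect V = (ofLevel 𝔛 h M ℬ).sect V := fun x V hV hVU => by
    rw [heq x V hVU, sect_ofLevel h hV, sect_ofLevel h hV, key x _ (lvU_mono 𝔛 h M hVU)]
  exact ideal_le_antisymm (ideal_le_of_loc fun x => ⟨U x, hxU x, fun V hV hle => (key' x V hV hle).le⟩)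
    (ideal_le_of_loc fun x => ⟨U x, hxU x, fun V hV hle => (key' x V hV hle).ge⟩)

/-- A coherent open ideal on a quasi-compact space is given by global data at every large level. -/
theorem exists_level [CompactSpace (𝔛.X 0)] {J : IdealSh (𝔛.Osh h)} (hJ : IsCohOpen 𝔛 h J) :
    ∃ N : ℕ, ∀ M, N ≤ M → ∃ 𝒜 : (𝔛.X M).IdealSheafData, FSch.IdealFT 𝒜 ∧ J = ofLevel 𝔛 h M 𝒜 := by
  choose U hxU n 𝒜 hft heq using hJ
  obtain ⟨t, ht⟩ := isCompact_univ.elim_finite_subcover (fun x => (U x : Set (𝔛.X 0))) (fun x => (U x).isOpen)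
    fun x _ => Set.mem_iUnion.mpr ⟨x, hxU x⟩
  refine ⟨t.sup n, fun M hM => exists_data_of_local h p hp hI M fun y => ?_⟩
  obtain ⟨x, hxt, hyx⟩ := Set.mem_iUnion₂.mp (ht (Set.mem_univ y))
  obtain ⟨ℬ, hℬ, eℬ⟩ := exists_raise h p hp hI (hft x) ((Finset.le_sup hxt).trans hM)
  exact ⟨U x, hyx, ℬ, hℬ, fun V hV => (heq x V hV).trans (by rw [eℬ])⟩

end

end FBlowLib
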