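import Groth.Agent.FBlowLib.LevelData

/-!
# Inverse image of level data along adic morphisms
-/

set_option autoImplicit false
set_option linter.style.haveILetI false

universe u

open CategoryTheory CategoryTheory.Limits AlgebraicGeometry TopologicalSpace Opposite FSch FBlow

noncomputable section

namespace FBlowLib

theorem appLE_mem_ofData_comap {X Y : Scheme.{u}} (f : X ⟶ Y) (𝒜 : Y.IdealSheafData) {W : Y.Opens} {V : X.Opens}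
    (e : V ≤ f ⁻¹ᵁ W) {x : Γ(Y, W)} (hx : x ∈ (IdealSh.ofData 𝒜).sect W) :
    (f.appLE W V e) x ∈ (IdealSh.ofData (𝒜.comap f)).sect V := by
  intro y hy
  obtain ⟨W₀, i, hyW, hm⟩ := hx (f y) (e hy)
  obtain ⟨D, hD, hyD, hle⟩ := Opens.isBasis_iff_nbhd.mp X.isBasis_affineOpens
    (show y ∈ V ⊓ f ⁻¹ᵁ W₀.1 from ⟨hy, hyW⟩)
  refine ⟨⟨D, hD⟩, hle.trans inf_le_left, hyD, ?_⟩
  rw [Groth.Agent.S4666.ideal_comap_eq _ f W₀ ⟨D, hD⟩ (hle.trans inf_le_right)]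
  have e1 : X.presheaf.map (homOfLE (hle.trans inf_le_left)).op (f.appLE W V e x) =
      f.appLE W₀.1 D (hle.trans inf_le_right) (Y.presheaf.map (homOfLE i).op x) := by
    rw [← CategoryTheory.comp_apply, ← CategoryTheory.comp_apply, Scheme.Hom.appLE_map, Scheme.Hom.map_appLE]
  rw [e1]
  exact Ideal.mem_map_of_mem _ hm

variable {R : Type u} [CommRing R] {I : Ideal R} {𝔛 𝔜 : Sys.{u}} (h : 𝔛.IsFormal) (h𝔜 : 𝔜.IsFormal) (f : 𝔜 ⟶ 𝔛)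

/-- The image of sections in sections over a smaller open of the source. -/
def secPush {W : (𝔛.X 0).Opens} {V : (𝔜.X 0).Opens} (j : V ≤ (f : Hom 𝔜 𝔛).app 0 ⁻¹ᵁ W) :
    (𝔛.Osh h).obj.obj (op W) →+* (𝔜.Osh h𝔜).obj.obj (op V) :=
  ((𝔜.Osh h𝔜).obj.map (homOfLE j).op).hom.comp ((Hom.sharp f h𝔜 h).hom.app (op W)).hom

theorem lvU_le_preimage_of_le {W : (𝔛.X 0).Opens} {V : (𝔜.X 0).Opens} (j : V ≤ (f : Hom 𝔜 𝔛).app 0 ⁻¹ᵁ W) (n : ℕ) :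
    𝔜.lvU h𝔜 n V ≤ (f : Hom 𝔜 𝔛).app n ⁻¹ᵁ 𝔛.lvU h n W :=
  (lvU_mono 𝔜 h𝔜 n j).trans (Hom.lvU_preimage f h𝔜 h n W).ge

theorem lvPr_secPush {W : (𝔛.X 0).Opens} {V : (𝔜.X 0).Opens} (j : V ≤ (f : Hom 𝔜 𝔛).app 0 ⁻¹ᵁ W) (n : ℕ)
    (a : (𝔛.Osh h).obj.obj (op W)) :
    lvPr h𝔜 V n (secPush h h𝔜 f j a) =
      ((f : Hom 𝔜 𝔛).app n).appLE (𝔛.lvU h n W) (𝔜.lvU h𝔜 n V) (lvU_le_preimage_of_le h h𝔜 f j n) (lvPr h W n a) := by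
  show lvPr h𝔜 V n ((𝔜.Osh h𝔜).obj.map (homOfLE j).op _) = _
  rw [lvPr_res]
  erw [oProj_sharp f h𝔜 h n W a]
  rw [← CategoryTheory.comp_apply, Scheme.Hom.appLE_map]
  rfl

theorem secPush_mem_idealMap {J : IdealSh (𝔛.Osh h)} {W : (𝔛.X 0).Opens} {V : (𝔜.X 0).Opens}
    (j : V ≤ (f : Hom 𝔜 𝔛).app 0 ⁻¹ᵁ W) {a : (𝔛.Osh h).obj.obj (op W)} (ha : a ∈ J.sect W) :
    secPush h h𝔜 f j a ∈ (idealMap f h𝔜 h J).sect V :=
  IdealSh.image_mem_map _ _ J ha j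

/-- Inverse image of level data along an adic morphism is given by the inverse image data. -/
theorem idealMap_ofLevel (p : 𝔛 ⟶ spf R I) (hp : IsAdicHom p) (hI : I.FG) (hf : IsAdicHom f) (M : ℕ)
    (𝒜 : (𝔛.X M).IdealSheafData) :
    idealMap f h𝔜 h (ofLevel 𝔛 h M 𝒜) = ofLevel 𝔜 h𝔜 M (𝒜.comap ((f : Hom 𝔜 𝔛).app M)) := by
  refine ideal_le_antisymm (IdealSh.map_le fun W a ha V j => ?_) (ideal_le_of_loc fun y => ?_)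
  · refine (mem_ofLevel_iff 𝔜 h𝔜 M _ V _).2 ?_
    exact (lvPr_secPush h h𝔜 f j M a).symm ▸ appLE_mem_ofData_comap _ 𝒜 _ ((mem_ofLevel_iff 𝔛 h M 𝒜 W a).1 ha)
  obtain ⟨V₀, hV₀, hyV₀, -⟩ := Opens.isBasis_iff_nbhd.mp (𝔛.X 0).isBasis_affineOpens
    (show (f : Hom 𝔜 𝔛).app 0 y ∈ (⊤ : (𝔛.X 0).Opens) from trivial)
  refine ⟨(f : Hom 𝔜 𝔛).app 0 ⁻¹ᵁ V₀, hyV₀, fun V hV hle s hs => ?_⟩
  rw [mem_ofLevel_affine h𝔜 hV, Groth.Agent.S4666.ideal_comap_eq _ _ (lvA h hV₀ M) (lvA h𝔜 hV M)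
    (lvU_le_preimage_of_le h h𝔜 f hle M), ← map_sect_ofLevel h p hp hI hV₀ M 𝒜, Ideal.map_map] at hs
  have e : (((f : Hom 𝔜 𝔛).app M).appLE (𝔛.lvU h M V₀) (𝔜.lvU h𝔜 M V) (lvU_le_preimage_of_le h h𝔜 f hle M)).hom.comp
      (lvPr h V₀ M) = (lvPr h𝔜 V M).comp (secPush h h𝔜 f hle) :=
    RingHom.ext fun a => (lvPr_secPush h h𝔜 f hle M a).symm
  erw [e, ← Ideal.map_map] at hs
  have hfp : IsAdicHom (f ≫ p) := isAdicHom_comp hf hp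
  obtain ⟨hk, hsurj⟩ := ker_oProj h𝔜 (f ≫ p) hfp hI hV M
  obtain ⟨t, ht, e'⟩ := (Ideal.mem_map_iff_of_surjective _ hsurj).1 hs
  have hle' : ((ofLevel 𝔛 h M 𝒜).sect V₀).map (secPush h h𝔜 f hle) ≤
      (idealMap f h𝔜 h (ofLevel 𝔛 h M 𝒜)).sect V :=
    Ideal.map_le_iff_le_comap.2 fun a ha => secPush_mem_idealMap h h𝔜 f hle ha
  have hker : RingHom.ker (lvPr h𝔜 V M) ≤ (idealMap f h𝔜 h (ofLevel 𝔛 h M 𝒜)).sect V := by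
    rw [show RingHom.ker (lvPr h𝔜 V M) = _ from hk, Ideal.map_le_iff_le_comap]
    intro r hr
    have h1 := secPush_mem_idealMap h h𝔜 f hle
      ((kerLe_iff h p hp hI _ M).1 (kerLe_ofLevel h M 𝒜) V₀ hV₀ r hr)
    have e2 : secPush h h𝔜 f hle (pull h (toBase I p) (toBase_comm I p) V₀ r) =
        pull h𝔜 (toBase I (f ≫ p)) (toBase_comm I (f ≫ p)) V r := by
      show (𝔜.Osh h𝔜).obj.map (homOfLE hle).op ((Hom.sharp f h𝔜 h).hom.app (op V₀) _) = _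
      rw [pull_sharp h h𝔜 p f V₀ r]
      exact res_pull h𝔜 _ _ hle r
    refine Ideal.mem_comap.2 ?_
    rw [← e2]
    exact h1
  have : s = t + (s - t) := by abel
  rw [this]
  refine Ideal.add_mem _ (hle' ht) (hker ?_)
  rw [RingHom.mem_ker, map_sub, sub_eq_zero]
  exact e'.symm

end FBlowLib
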