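import Groth.Agent.FBlowLib.AdmSec
import Groth.Agent.AdicRingLib.Base
import Mathlib.RingTheory.Spectrum.Prime.Noetherian
import Mathlib.RingTheory.Spectrum.Prime.RingHom
import Mathlib.RingTheory.Spectrum.Prime.Topology
import Mathlib.Topology.NoetherianSpace

/-!
# The space of a formal scheme locally of finite type over a base ring is locally Noetherian
-/

set_option autoImplicit false
set_option linter.style.haveILetI false

universe u

open CategoryTheory CategoryTheory.Limits AlgebraicGeometry TopologicalSpace Opposite FSch FBlow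

noncomputable section

namespace FBlowLib

theorem noetherianSpace_of_quot {B : Type u} [CommRing B] (𝔫 : Ideal B) (h : 𝔫 ≤ nilradical B)
    [IsNoetherianRing (B ⧸ 𝔫)] : NoetherianSpace (PrimeSpectrum B) := by
  refine noetherianSpace_of_surjective (α := PrimeSpectrum (B ⧸ 𝔫)) (PrimeSpectrum.comap (Ideal.Quotient.mk 𝔫))
    (PrimeSpectrum.continuous_comap _) fun P => ?_
  have hP : P ∈ PrimeSpectrum.zeroLocus (𝔫 : Set B) := fun a ha => nilradical_le_prime P.asIdeal (h ha)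
  rw [← Ideal.mk_ker (I := 𝔫), ← range_comap_of_surjective _ _ Ideal.Quotient.mk_surjective] at hP
  exact hP

theorem exists_nilpotent_base {R : Type u} [CommRing R] {I : Ideal R} (hR : AdicRing.IsBase R I) :
    ∃ 𝔫 : Ideal R, IsNoetherianRing (R ⧸ 𝔫) ∧ ∀ r ∈ 𝔫, ∃ k : ℕ, r ^ k ∈ I := by
  rcases hR.2 with ⟨hN, -⟩ | ⟨hD, hV, hK, t, ht, rfl⟩
  · exact ⟨⊥, inferInstance, fun r hr => ⟨1, by simp [Ideal.mem_bot.1 hr]⟩⟩
  · haveI : ValuationRing R := ⟨⟩
    refine ⟨IsLocalRing.maximalIdeal R, ?_, fun r hr => ?_⟩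
    · letI := Ideal.Quotient.field (IsLocalRing.maximalIdeal R)
      infer_instance
    · show r ∈ (Ideal.span {t}).radical
      rw [Ideal.radical_eq_sInf, Submodule.mem_sInf]
      rintro P ⟨hle, hP⟩
      have hne : P ≠ ⊥ := fun e => ht (Ideal.mem_bot.1 (e ▸ hle (Ideal.mem_span_singleton_self t)))
      rw [IsLocalRing.eq_maximalIdeal ((Ring.krullDimLE_one_iff_of_noZeroDivisors.1 hK) P hne hP)]
      exact hr

variable {R : Type u} [CommRing R] {I : Ideal R} {𝔛 : Sys.{u}} (p : 𝔛 ⟶ spf R I)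

theorem noetherianSpace_affine (hR : AdicRing.IsBase R I)
    (hfp : LocallyOfFinitePresentation ((p : Hom 𝔛 (spf R I)).app 0)) {W : (𝔛.X 0).Opens} (hW : IsAffineOpen W) :
    NoetherianSpace (W : Set (𝔛.X 0)) := by
  have : IsAffine ((spf R I).X 0) := inferInstanceAs (IsAffine (Spec (CommRingCat.of _)))
  have h1 := (HasRingHomProperty.iff_appLE (P := @LocallyOfFiniteType)).1
      (inferInstance : LocallyOfFiniteType ((p : Hom 𝔛 (spf R I)).app 0))
      ⟨⊤, isAffineOpen_top _⟩ ⟨W, hW⟩ le_top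
  let φ : R →+* Γ(𝔛.X 0, W) := (((p : Hom 𝔛 (spf R I)).app 0).appLE ⊤ W le_top).hom.comp (spfEl I 0)
  have hφ : φ.FiniteType := h1.comp (RingHom.FiniteType.of_surjective _ ((ConcreteCategory.bijective_of_isIso
    (Scheme.ΓSpecIso (CommRingCat.of (R ⧸ I ^ (0 + 1)))).inv).2.comp Ideal.Quotient.mk_surjective))
  obtain ⟨𝔫, hN, hnil⟩ := exists_nilpotent_base hR
  have hle : 𝔫.map φ ≤ nilradical Γ(𝔛.X 0, W) := by
    rw [Ideal.map_le_iff_le_comap]
    intro r hr
    obtain ⟨k, hk⟩ := hnil r hr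
    refine ⟨k, ?_⟩
    rw [← map_pow]
    show (((p : Hom 𝔛 (spf R I)).app 0).appLE ⊤ W le_top).hom (spfEl I 0 (r ^ k)) = 0
    have h0 : spfEl I 0 (r ^ k) = 0 := by
      show (Scheme.ΓSpecIso (CommRingCat.of (R ⧸ I ^ (0 + 1)))).inv (Ideal.Quotient.mk _ (r ^ k)) = 0
      rw [Ideal.Quotient.eq_zero_iff_mem.2 (by rwa [zero_add, pow_one]), map_zero]
    rw [h0, map_zero]
  let ψ : R ⧸ 𝔫 →+* Γ(𝔛.X 0, W) ⧸ 𝔫.map φ := Ideal.quotientMap _ φ Ideal.le_comap_map
  have hψ : ψ.FiniteType := RingHom.FiniteType.of_comp_finiteType (f := Ideal.Quotient.mk 𝔫)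
    (by
      show (ψ.comp (Ideal.Quotient.mk 𝔫)).FiniteType
      rw [show ψ.comp (Ideal.Quotient.mk 𝔫) = (Ideal.Quotient.mk (𝔫.map φ)).comp φ from Ideal.quotientMap_comp_mk _]
      exact (RingHom.FiniteType.of_surjective _ Ideal.Quotient.mk_surjective).comp hφ)
  letI := ψ.toAlgebra
  haveI : Algebra.FiniteType (R ⧸ 𝔫) (Γ(𝔛.X 0, W) ⧸ 𝔫.map φ) := hψ
  haveI := Algebra.FiniteType.isNoetherianRing (R ⧸ 𝔫) (Γ(𝔛.X 0, W) ⧸ 𝔫.map φ)
  haveI := noetherianSpace_of_quot (B := Γ(𝔛.X 0, W)) _ hle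
  haveI : NoetherianSpace (Spec Γ(𝔛.X 0, W)) := this
  exact noetherianSpace_of_surjective (α := Spec Γ(𝔛.X 0, W)) (hW.isoSpec.inv.base) (Scheme.Hom.continuous _)
    hW.isoSpec.inv.surjective

theorem isCompact_of_subset (hR : AdicRing.IsBase R I)
    (hfp : LocallyOfFinitePresentation ((p : Hom 𝔛 (spf R I)).app 0)) {S Y : Set (𝔛.X 0)} (hY : IsCompact Y)
    (hSY : S ⊆ Y) : IsCompact S := by
  choose W hW hxW _ using fun x : 𝔛.X 0 => exists_isAffineOpen_mem_and_subset (x := x) (U := ⊤) trivial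
  obtain ⟨t, ht⟩ := hY.elim_finite_subcover (fun x => (W x : Set (𝔛.X 0))) (fun x => (W x).isOpen)
    fun x _ => Set.mem_iUnion.mpr ⟨x, hxW x⟩
  have e : S = ⋃ x ∈ t, (S ∩ (W x : Set (𝔛.X 0))) := by
    refine Set.Subset.antisymm (fun y hy => ?_) (Set.iUnion₂_subset fun x _ => Set.inter_subset_left)
    obtain ⟨x, hxt, hx⟩ := Set.mem_iUnion₂.mp (ht (hSY hy))
    exact Set.mem_iUnion₂.mpr ⟨x, hxt, hy, hx⟩
  rw [e]
  refine t.isCompact_biUnion fun x _ => ?_
  haveI := noetherianSpace_affine p hR hfp (hW x)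
  have hc := NoetherianSpace.isCompact ((Subtype.val : ((W x : Set (𝔛.X 0))) → 𝔛.X 0) ⁻¹' S)
  have := hc.image continuous_subtype_val
  rwa [Set.image_preimage_eq_inter_range, Subtype.range_coe] at this

end FBlowLib
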