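import Groth.Agent.FBlowLib.Gen
import Groth.Agent.FBlowLib.Div

/-!
# Non-zero-divisors on formal spectra
-/

set_option autoImplicit false
set_option linter.style.haveILetI false

universe u

open CategoryTheory CategoryTheory.Limits AlgebraicGeometry TopologicalSpace Opposite FSch FBlow

noncomputable section

namespace FBlowLib

variable {𝔛 : Sys.{u}} (h : 𝔛.IsFormal) {C : Type u} [CommRing C] (q : ∀ n, 𝔛.X n ⟶ Spec (CommRingCat.of C))
  (hq : ∀ n, 𝔛.ι n ≫ q (n + 1) = q n)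

/-- The levels are the spectra of the quotients of `C` by the powers of `J`. -/
structure IsSpfLike (J : Ideal C) : Prop where
  aff : ∀ n, IsAffine (𝔛.X n)
  surj : ∀ n, Function.Surjective (pullLvl q n ⊤)
  ker : ∀ n, RingHom.ker (pullLvl q n ⊤) = J ^ (n + 1)

/-- The projection of sections to a level, as sections of the level. -/
abbrev lvP (W : (𝔛.X 0).Opens) (n : ℕ) : (𝔛.Osh h).obj.obj (op W) →+* Γ(𝔛.X n, 𝔛.lvU h n W) :=
  (FModLib.oProj h W n).hom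

theorem lvP_pull (n : ℕ) (W : (𝔛.X 0).Opens) (a : C) :
    lvP h W n (pull h q hq W a) = pullLvl q n (𝔛.lvU h n W) a := oProj_pull h q hq n W a

theorem oProj_eq_zero_of_le {W : (𝔛.X 0).Opens} {m n : ℕ} (hnm : n ≤ m) {b : (𝔛.Osh h).obj.obj (op W)}
    (hb : FModLib.oProj h W m b = 0) : FModLib.oProj h W n b = 0 := by
  induction hnm with
  | refl => exact hb
  | step _ ih =>
    refine ih ?_
    rw [← FModLib.oProj_succ h W _ b, hb, map_zero]

include hq in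
theorem lvU_preimage_basicOpen (s : C) (n : ℕ) :
    𝔛.lvU h n (q 0 ⁻¹ᵁ (Spec (CommRingCat.of C)).basicOpen ((Scheme.ΓSpecIso (CommRingCat.of C)).inv s)) =
      (𝔛.X n).basicOpen (pullLvl q n ⊤ s) := by
  rw [← lvU_p 𝔛 h q hq n, Scheme.preimage_basicOpen]
  refine congrArg (𝔛.X n).basicOpen ?_
  rw [Scheme.Hom.app_eq_appLE]
  rfl

variable {J : Ideal C} (hS : IsSpfLike q J) {c : C} (hc : ∀ x : C, x * c = 0 → x = 0)
  {N : ℕ} (hN : J ^ N ≤ Ideal.span {c})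

include hS hc hN in
theorem pull_nzd_basic (s : C) (t : (𝔛.Osh h).obj.obj (op (q 0 ⁻¹ᵁ (Spec (CommRingCat.of C)).basicOpen
      ((Scheme.ΓSpecIso (CommRingCat.of C)).inv s))))
    (ht : t * pull h q hq _ c = 0) : t = 0 := by
  generalize hD : q 0 ⁻¹ᵁ (Spec (CommRingCat.of C)).basicOpen ((Scheme.ΓSpecIso (CommRingCat.of C)).inv s) = D at t ht
  have hl : ∀ n, 𝔛.lvU h n D = (𝔛.X n).basicOpen (pullLvl q n ⊤ s) := fun n =>
    hD ▸ lvU_preimage_basicOpen h q hq s n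
  refine FModLib.oSec_ext h D fun n => ?_
  rw [map_zero]
  show lvP h D n t = 0
  set m := n + N
  have := hS.aff m
  have := hS.aff n
  have hu : IsUnit (pullLvl q n (𝔛.lvU h n D) s) := by
    have e := pullLvl_map q n (le_top : 𝔛.lvU h n D ≤ ⊤) s
    rw [← e]
    refine RingedSpace.isUnit_of_isUnit_germ (𝔛.X n).toLocallyRingedSpace.toRingedSpace _ _ fun y hy => ?_
    refine ((𝔛.X n).mem_basicOpen _ y hy).1 ?_
    rw [Scheme.basicOpen_res]
    exact ⟨hy, (hl n).le hy⟩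
  have inst := (isAffineOpen_top (𝔛.X m)).isLocalization_of_eq_basicOpen (pullLvl q m ⊤ s)
    (homOfLE (le_top : 𝔛.lvU h m D ≤ ⊤)) (hl m)
  letI := ((𝔛.X m).presheaf.map (homOfLE (le_top : 𝔛.lvU h m D ≤ ⊤)).op).hom.toAlgebra
  let tm : Γ(𝔛.X m, 𝔛.lvU h m D) := lvP h D m t
  obtain ⟨⟨y', ⟨_, k, rfl⟩⟩, hy⟩ := IsLocalization.surj (Submonoid.powers (pullLvl q m ⊤ s)) tm
  obtain ⟨y, rfl⟩ := hS.surj m y'
  have halg : ∀ a : C, algebraMap Γ(𝔛.X m, ⊤) Γ(𝔛.X m, 𝔛.lvU h m D) (pullLvl q m ⊤ a) =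
      pullLvl q m (𝔛.lvU h m D) a := fun a => pullLvl_map q m le_top a
  replace hy : lvP h D m t * pullLvl q m (𝔛.lvU h m D) s ^ k = pullLvl q m (𝔛.lvU h m D) y := by
    refine Eq.trans ?_ (halg y)
    rw [← halg, ← map_pow]
    exact hy
  have h0 : algebraMap Γ(𝔛.X m, ⊤) Γ(𝔛.X m, 𝔛.lvU h m D) (pullLvl q m ⊤ (y * c)) = 0 := by
    rw [halg, map_mul, ← hy, mul_right_comm, ← lvP_pull h q hq m D c, ← map_mul, ht, map_zero, zero_mul]
  obtain ⟨⟨_, j, rfl⟩, hj⟩ :=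
    (IsLocalization.map_eq_zero_iff (Submonoid.powers (pullLvl q m ⊤ s)) _ _).1 h0
  change pullLvl q m ⊤ s ^ j * pullLvl q m ⊤ (y * c) = 0 at hj
  rw [← map_pow, ← map_mul, ← RingHom.mem_ker, hS.ker m] at hj
  have hJ : J ^ (m + 1) ≤ Ideal.span {c} * J ^ (n + 1) := by
    rw [show m + 1 = N + (n + 1) by omega, pow_add]
    exact Ideal.mul_mono_left hN
  obtain ⟨z, hz, hzc⟩ := Ideal.mem_span_singleton_mul.1 (hJ hj)
  have hmem : s ^ j * y ∈ J ^ (n + 1) := by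
    have : (s ^ j * y - z) * c = 0 := by rw [sub_mul, sub_eq_zero, mul_assoc, mul_comm z c, hzc]
    rwa [sub_eq_zero.1 (hc _ this)]
  have hlow : lvP h D n (t * pull h q hq D s ^ (k + j) - pull h q hq D (s ^ j * y)) = 0 := by
    refine oProj_eq_zero_of_le h (Nat.le_add_right n N) ?_
    show lvP h D m _ = 0
    rw [map_sub, map_mul, map_pow, lvP_pull, lvP_pull, map_mul, map_pow, pow_add, ← mul_assoc, hy,
      mul_comm, sub_self]
  have hzero : pullLvl q n (𝔛.lvU h n D) (s ^ j * y) = 0 := by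
    have : pullLvl q n ⊤ (s ^ j * y) = 0 := by rw [← RingHom.mem_ker, hS.ker n]; exact hmem
    rw [← pullLvl_map q n (le_top : 𝔛.lvU h n D ≤ ⊤), this, map_zero]
  rw [map_sub, map_mul, map_pow, lvP_pull, lvP_pull, hzero, sub_zero] at hlow
  exact (hu.pow _).mul_left_eq_zero.1 hlow

include hS hc hN in
theorem pull_nzd (V : (𝔛.X 0).Opens) (t : (𝔛.Osh h).obj.obj (op V))
    (ht : t * pull h q hq V c = 0) : t = 0 := by
  have := hS.aff 0
  have key : ∀ y ∈ V, ∃ s : C, y ∈ q 0 ⁻¹ᵁ (Spec (CommRingCat.of C)).basicOpen ((Scheme.ΓSpecIso (CommRingCat.of C)).inv s) ∧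
      q 0 ⁻¹ᵁ (Spec (CommRingCat.of C)).basicOpen ((Scheme.ΓSpecIso (CommRingCat.of C)).inv s) ≤ V := by
    intro y hy
    obtain ⟨f, hfV, hyf⟩ := (isAffineOpen_top (𝔛.X 0)).exists_basicOpen_le (⟨y, hy⟩ : V) trivial
    obtain ⟨s, rfl⟩ := hS.surj 0 f
    have e := (lvU_zero h _).symm.trans (lvU_preimage_basicOpen h q hq s 0)
    exact ⟨s, e.ge hyf, e.le.trans hfV⟩
  choose s hys hsV using key
  refine TopCat.Sheaf.eq_of_locally_eq' (𝔛.Osh h) (fun y : V => q 0 ⁻¹ᵁ (Spec (CommRingCat.of C)).basicOpen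
      ((Scheme.ΓSpecIso (CommRingCat.of C)).inv (s y.1 y.2))) V
    (fun y => homOfLE (hsV y.1 y.2)) (fun y hy => Opens.mem_iSup.mpr ⟨⟨y, hy⟩, hys y hy⟩) t 0 fun y => ?_
  rw [map_zero]
  refine pull_nzd_basic h q hq hS hc hN (s y.1 y.2) _ ?_
  have := congrArg ((𝔛.Osh h).obj.map (homOfLE (hsV y.1 y.2)).op) ht
  rw [map_mul, map_zero] at this
  exact (congrArg (_ * ·) (res_pull h q hq (hsV y.1 y.2) c).symm).trans this

include hS hc hN in
/-- An ideal of `C` equal to `c C` gives an invertible ideal of the formal spectrum. -/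
theorem isGen_pull {𝔞 : Ideal C} (h𝔞 : 𝔞 = Ideal.span {c}) :
    IsGen (schIdealMap 𝔛 h q hq (IdealSh.ofData (idealSpec C 𝔞))) ⊤ (pull h q hq ⊤ c) := by
  refine isGen_of_le _ (pull_mem_schIdealMap h q hq (h𝔞 ▸ Ideal.mem_span_singleton_self c) ⊤)
    (fun V i t ht => pull_nzd h q hq hS hc hN V t ?_) (schIdealMap_le h q hq fun a ha W => ?_)
  · rwa [res_pull] at ht
  · obtain ⟨d, rfl⟩ := Ideal.mem_span_singleton'.1 (h𝔞 ▸ ha)
    refine mem_divSh_of_eq _ fun W' i j => ⟨pull h q hq W' d, ?_⟩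
    rw [res_pull, res_pull, map_mul]


theorem isSpfLike_spf (A : Type u) [CommRing A] (J : Ideal A) :
    IsSpfLike (𝔛 := spf A J) (spfToSpec A J) J := by
  have e : ∀ n, pullLvl (spfToSpec A J) n ⊤ = spfEl J n := fun n => RingHom.ext fun r => by
    have h1 : (spfToSpec A J n).appLE ⊤ ⊤ le_top = (spfToSpec A J n).app ⊤ :=
      (Scheme.Hom.app_eq_appLE (spfToSpec A J n)).symm
    show (spfToSpec A J n).appLE ⊤ ⊤ le_top ((Scheme.ΓSpecIso (CommRingCat.of A)).inv r) = _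
    rw [h1]
    exact congr($((Scheme.ΓSpecIso_inv_naturality (CommRingCat.ofHom (Ideal.Quotient.mk (J ^ (n + 1))))).symm) r)
  have hb := fun n => ConcreteCategory.bijective_of_isIso (Scheme.ΓSpecIso (CommRingCat.of (A ⧸ J ^ (n + 1)))).inv
  refine ⟨fun n => inferInstanceAs (IsAffine (Spec (CommRingCat.of (A ⧸ J ^ (n + 1))))),
    fun n => e n ▸ (hb n).2.comp Ideal.Quotient.mk_surjective, fun n => ?_⟩
  rw [e, spfEl]
  exact (RingHom.ker_comp_of_injective (Ideal.Quotient.mk (J ^ (n + 1))) (hb n).1).trans Ideal.mk_ker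

end FBlowLib
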