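import Groth.Agent.FBlowLib.LevelMul

/-!
# Locally finite products of coherent open ideals
-/

set_option autoImplicit false
set_option linter.style.haveILetI false

universe u

open CategoryTheory CategoryTheory.Limits AlgebraicGeometry TopologicalSpace Opposite FSch FBlow

noncomputable section

namespace FBlowLib

section

variable {T : TopCat.{u}} {O : Sheaf (Opens.grothendieckTopology T) CommRingCat.{u}} {ι : Type u}

/-- The product of finitely many ideal sheaves. -/
def prodFin (F : Finset ι) (J : ι → IdealSh O) : IdealSh O :=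
  IdealSh.gen fun W => {t | ∃ a : ι → O.obj.obj (op W), (∀ i ∈ F, a i ∈ (J i).sect W) ∧ t = ∏ i ∈ F, a i}

theorem prod_mem_prodFin {F : Finset ι} {J : ι → IdealSh O} {W : Opens T} (a : ι → O.obj.obj (op W))
    (ha : ∀ i ∈ F, a i ∈ (J i).sect W) : ∏ i ∈ F, a i ∈ (prodFin F J).sect W :=
  IdealSh.subset_gen _ W ⟨a, ha, rfl⟩

theorem mul_le_sect {J K L : IdealSh O} (h : IdealSh.mul J K ≤ L) {W : Opens T} {a b : O.obj.obj (op W)}
    (ha : a ∈ J.sect W) (hb : b ∈ K.sect W) : a * b ∈ L.sect W :=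
  h W (mem_mul ha hb)

theorem prodFin_empty (J : ι → IdealSh O) : prodFin (∅ : Finset ι) J = IdealSh.top O := by
  refine ideal_le_antisymm (fun _ _ _ => trivial) fun W s _ => ?_
  have h1 : (1 : O.obj.obj (op W)) ∈ (prodFin (∅ : Finset ι) J).sect W := by
    have := prod_mem_prodFin (F := (∅ : Finset ι)) (J := J) (fun _ => (1 : O.obj.obj (op W))) (by simp)
    simpa using this
  simpa using Ideal.mul_mem_left _ s h1

theorem gen_sect (J : IdealSh O) : IdealSh.gen (fun W => (J.sect W : Set (O.obj.obj (op W)))) = J :=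
  ideal_le_antisymm (IdealSh.gen_le fun _ => Set.Subset.rfl) fun W _ hs => IdealSh.subset_gen _ W hs

theorem prodFin_insert [DecidableEq ι] {F : Finset ι} {i : ι} (hi : i ∉ F) (J : ι → IdealSh O) :
    prodFin (insert i F) J = IdealSh.mul (J i) (prodFin F J) := by
  refine ideal_le_antisymm (IdealSh.gen_le ?_) ?_
  · rintro W _ ⟨a, ha, rfl⟩
    rw [Finset.prod_insert hi]
    exact mem_mul (ha i (Finset.mem_insert_self i F))
      (prod_mem_prodFin a fun j hj => ha j (Finset.mem_insert_of_mem hj))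
  · conv_lhs => rw [← gen_sect (J i)]
    refine gen_mul_gen_le fun V p hp q hq => ?_
    obtain ⟨W₁, j₁, a, ha, rfl⟩ := hp
    obtain ⟨W₂, j₂, _, ⟨b, hb, rfl⟩, rfl⟩ := hq
    rw [map_prod]
    let c : ι → O.obj.obj (op V) := fun j => if j = i then O.obj.map (homOfLE j₁).op a else O.obj.map (homOfLE j₂).op (b j)
    have h1 := prod_mem_prodFin (F := insert i F) (J := J) c fun j hj => by
      by_cases e : j = i
      · subst e
        simp only [c, if_pos rfl]
        exact (J j).map_mem j₁ ha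
      · simp only [c, if_neg e]
        exact (J j).map_mem j₂ (hb j ((Finset.mem_insert.1 hj).resolve_left e))
    rw [Finset.prod_insert hi] at h1
    have e1 : c i = O.obj.map (homOfLE j₁).op a := if_pos rfl
    have e2 : ∏ j ∈ F, c j = ∏ j ∈ F, O.obj.map (homOfLE j₂).op (b j) :=
      Finset.prod_congr rfl fun j hj => if_neg (fun e : j = i => hi (e ▸ hj))
    rw [e1, e2] at h1
    exact h1

theorem prodFin_sect_eq {F F' : Finset ι} (hFF' : F ⊆ F') (J : ι → IdealSh O) {A : Opens T}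
    (htop : ∀ i ∈ F', i ∉ F → ∀ W ≤ A, (J i).sect W = ⊤) {W : Opens T} (hW : W ≤ A) :
    (prodFin F' J).sect W = (prodFin F J).sect W := by
  classical
  refine le_antisymm (fun s hs => (prodFin F J).mem_of_local fun x hx => ?_)
    (fun s hs => (prodFin F' J).mem_of_local fun x hx => ?_)
  · obtain ⟨V, i, hxV, hV⟩ := hs x hx
    refine ⟨V, i, hxV, Ideal.span_le.2 ?_ hV⟩
    rintro _ ⟨W', j, _, ⟨a, ha, rfl⟩, rfl⟩
    rw [← Finset.prod_sdiff hFF', map_mul]
    exact Ideal.mul_mem_left _ _ ((prodFin F J).map_mem j (prod_mem_prodFin a fun k hk => ha k (hFF' hk)))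
  · obtain ⟨V, i, hxV, hV⟩ := hs x hx
    refine ⟨V, i, hxV, Ideal.span_le.2 ?_ hV⟩
    rintro _ ⟨W', j, _, ⟨a, ha, rfl⟩, rfl⟩
    let c : ι → O.obj.obj (op V) := fun k => if k ∈ F then O.obj.map (homOfLE j).op (a k) else 1
    have h1 := prod_mem_prodFin (F := F') (J := J) c fun k hk => by
      by_cases e : k ∈ F
      · simp only [c, if_pos e]
        exact (J k).map_mem j (ha k e)
      · rw [htop k hk e V (i.trans hW)]
        trivial
    have e1 : ∏ k ∈ F', c k = O.obj.map (homOfLE j).op (∏ k ∈ F, a k) := by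
      rw [map_prod, ← Finset.prod_subset hFF' (fun k _ hk => if_neg hk)]
      exact Finset.prod_congr rfl fun k hk => if_pos hk
    rwa [e1] at h1

end

variable {R : Type u} [CommRing R] {I : Ideal R} {𝔛 : Sys.{u}} (h : 𝔛.IsFormal) (p : 𝔛 ⟶ spf R I)
  (hp : IsAdicHom p) (hI : I.FG)

theorem isCohOpen_top : IsCohOpen 𝔛 h (IdealSh.top (𝔛.Osh h)) := by
  refine fun _ => ⟨⊤, trivial, 0, ⊤, fun U => ?_, fun V _ => ?_⟩
  · rw [Scheme.IdealSheafData.ideal_top]
    exact ⟨{1}, by simp⟩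
  · refine Eq.symm ((Ideal.eq_top_iff_one _).2 ?_)
    rw [mem_ofLevel_iff, map_one]
    intro z hz
    obtain ⟨D, hD, hzD, hDle⟩ := Opens.isBasis_iff_nbhd.mp (𝔛.X 0).isBasis_affineOpens hz
    exact ⟨⟨D, hD⟩, hDle, hzD, by rw [Scheme.IdealSheafData.ideal_top]; trivial⟩

include hp hI

theorem isCohOpen_prodFin {ι : Type u} (F : Finset ι) (J : ι → IdealSh (𝔛.Osh h))
    (hJ : ∀ i, IsCohOpen 𝔛 h (J i)) : IsCohOpen 𝔛 h (prodFin F J) := by
  classical
  induction F using Finset.induction_on with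
  | empty => rw [prodFin_empty]; exact isCohOpen_top h
  | insert i F hi ih => rw [prodFin_insert hi]; exact isCohOpen_mul h p hp hI (hJ i) ih

/-- The product of a family which is locally trivial outside finite sets. -/
theorem exists_locFinProd {ι : Type u} (V : ι → (𝔛.X 0).Opens) (hV : (⨆ i, V i) = ⊤) (F : ι → Finset ι)
    (J : ι → IdealSh (𝔛.Osh h)) (hJ : ∀ i, IsCohOpen 𝔛 h (J i))
    (htop : ∀ j i, i ∉ F j → ∀ W ≤ V j, (J i).sect W = ⊤) :
    ∃ P : IdealSh (𝔛.Osh h), IsCohOpen 𝔛 h P ∧ ∀ j, ∀ W ≤ V j, P.sect W = (prodFin (F j) J).sect W := by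
  classical
  let P : IdealSh (𝔛.Osh h) := IdealSh.gen fun W => {s | ∃ j, W ≤ V j ∧ s ∈ (prodFin (F j) J).sect W}
  have hagree : ∀ j k, ∀ W ≤ V j ⊓ V k, (prodFin (F j) J).sect W = (prodFin (F k) J).sect W := fun j k W hW =>
    (prodFin_sect_eq (Finset.subset_union_left : F j ⊆ F j ∪ F k) J (fun i _ hi W' hW' => htop j i hi W' hW')
      (hW.trans inf_le_left)).symm.trans
    (prodFin_sect_eq (Finset.subset_union_right : F k ⊆ F j ∪ F k) J (fun i _ hi W' hW' => htop k i hi W' hW')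
      (hW.trans inf_le_right))
  have heq : ∀ j, ∀ W ≤ V j, P.sect W = (prodFin (F j) J).sect W := fun j W hW => by
    refine le_antisymm (fun s hs => (prodFin (F j) J).mem_of_local fun x hx => ?_)
      fun s hs => IdealSh.subset_gen _ W ⟨j, hW, hs⟩
    obtain ⟨U, i, hxU, hU⟩ := hs x hx
    refine ⟨U, i, hxU, Ideal.span_le.2 ?_ hU⟩
    rintro _ ⟨W', e, a, ⟨k, hk, ha⟩, rfl⟩
    rw [SetLike.mem_coe, hagree j k U (le_inf (i.trans hW) (e.trans hk))]
    exact (prodFin (F k) J).map_mem e ha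
  refine ⟨P, fun x => ?_, heq⟩
  obtain ⟨j, hj⟩ := Opens.mem_iSup.mp (hV.ge (show x ∈ (⊤ : (𝔛.X 0).Opens) from trivial))
  obtain ⟨U, hxU, n, 𝒜, h𝒜, eU⟩ := isCohOpen_prodFin h p hp hI (F j) J hJ x
  exact ⟨U ⊓ V j, ⟨hxU, hj⟩, n, 𝒜, h𝒜, fun W hW =>
    (heq j W (hW.trans inf_le_right)).trans (eU W (hW.trans inf_le_left))⟩

end FBlowLib
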