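import Groth.Agent.FBlowLib.Div

/-!
# The ideal sheaf of sections locally in the span of given sections
-/

set_option autoImplicit false

universe u

open CategoryTheory TopologicalSpace Opposite FBlow

noncomputable section

namespace FBlowLib

variable {T : TopCat.{u}} {O : Sheaf (Opens.grothendieckTopology T) CommRingCat.{u}}
  {U : Opens T} (S : Set (O.obj.obj (op U)))

theorem res_mem_span {W W' : Opens T} (k : W' ≤ W) (j : W ≤ U) (j' : W' ≤ U) {s : O.obj.obj (op W)}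
    (hs : s ∈ Ideal.span (res O j '' S)) : res O k s ∈ Ideal.span (res O j' '' S) := by
  have := Ideal.mem_map_of_mem (O.obj.map (homOfLE k).op).hom hs
  rw [Ideal.map_span, Set.image_image] at this
  refine Ideal.span_mono ?_ this
  rintro _ ⟨a, ha, rfl⟩
  exact ⟨a, ha, (IdealSh.map_comp_apply j k a).symm⟩

/-- The sections lying, near every point of `U`, in the span of `S` (and arbitrary outside). -/
def spanSh : IdealSh O where
  sect V :=
    { carrier := {s | ∀ y ∈ V, y ∈ U → ∃ (W : Opens T) (i : W ≤ V) (j : W ≤ U), y ∈ W ∧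
        res O i s ∈ Ideal.span (res O j '' S)}
      add_mem' := fun {a b} ha hb y hy hyU => by
        obtain ⟨W₁, i₁, j₁, hy₁, h₁⟩ := ha y hy hyU
        obtain ⟨W₂, i₂, j₂, hy₂, h₂⟩ := hb y hy hyU
        refine ⟨W₁ ⊓ W₂, inf_le_left.trans i₁, inf_le_left.trans j₁, ⟨hy₁, hy₂⟩, ?_⟩
        rw [res, map_add]
        refine Ideal.add_mem _ ?_ ?_
        · rw [← IdealSh.map_comp_apply i₁ inf_le_left]
          exact res_mem_span S inf_le_left j₁ _ h₁
        · rw [← IdealSh.map_comp_apply i₂ inf_le_right]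
          exact res_mem_span S inf_le_right j₂ _ h₂
      zero_mem' := fun y hy hyU => ⟨V ⊓ U, inf_le_left, inf_le_right, ⟨hy, hyU⟩, by
        rw [res, map_zero]; exact Ideal.zero_mem _⟩
      smul_mem' := fun c {a} ha y hy hyU => by
        obtain ⟨W, i, j, hyW, h⟩ := ha y hy hyU
        exact ⟨W, i, j, hyW, by rw [smul_eq_mul, res, map_mul]; exact Ideal.mul_mem_left _ _ h⟩ }
  map_mem {V V'} i s hs y hy hyU := by
    obtain ⟨W, k, j, hyW, h⟩ := hs y (i hy) hyU
    refine ⟨W ⊓ V', inf_le_right, inf_le_left.trans j, ⟨hyW, hy⟩, ?_⟩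
    have := res_mem_span S (inf_le_left : W ⊓ V' ≤ W) j (inf_le_left.trans j) h
    rw [res, res, IdealSh.map_comp_apply] at this
    rw [res, IdealSh.map_comp_apply]
    exact this
  mem_of_local {V s} hs y hy hyU := by
    obtain ⟨V', i, hyV', hs'⟩ := hs y hy
    obtain ⟨W, k, j, hyW, h⟩ := hs' y hyV' hyU
    refine ⟨W, k.trans i, j, hyW, ?_⟩
    rw [res, IdealSh.map_comp_apply] at h
    exact h

theorem mem_spanSh {V : Opens T} (i : V ≤ U) {a : O.obj.obj (op U)} (ha : a ∈ S) :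
    res O i a ∈ (spanSh S).sect V := fun y hy _ =>
  ⟨V, le_rfl, i, hy, by rw [res, IdealSh.map_id_apply]; exact Ideal.subset_span ⟨a, ha, rfl⟩⟩

theorem spanSh_le_divSh (g : O.obj.obj (op U)) (h : ∀ a ∈ S, ∃ t, a = t * g) : spanSh S ≤ divSh g := by
  intro V s hs y hy hyU
  obtain ⟨W, i, j, hyW, hspan⟩ := hs y hy hyU
  refine ⟨W, i, j, hyW, ?_⟩
  have : Ideal.span (res O j '' S) ≤ Ideal.span {res O j g} := by
    rw [Ideal.span_le]
    rintro _ ⟨a, ha, rfl⟩
    obtain ⟨t, rfl⟩ := h a ha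
    show O.obj.map (homOfLE j).op (t * g) ∈ _
    rw [map_mul]
    exact Ideal.mem_span_singleton'.2 ⟨_, rfl⟩
  obtain ⟨t, ht⟩ := Ideal.mem_span_singleton'.1 (this hspan)
  exact ⟨t, ht.symm⟩

theorem le_spanSh_of_isGen {J : IdealSh O} {g : O.obj.obj (op U)} (hg : IsGen J U g) : J ≤ spanSh {g} := by
  intro V s hs y hy hyU
  obtain ⟨t, ht⟩ := (hg.2 (V ⊓ U) inf_le_right).2 _ (J.map_mem (inf_le_left : V ⊓ U ≤ V) hs)
  refine ⟨V ⊓ U, inf_le_left, inf_le_right, ⟨hy, hyU⟩, ?_⟩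
  rw [res, ht]
  exact Ideal.mul_mem_left _ _ (Ideal.subset_span ⟨g, rfl, rfl⟩)

section Map

variable {T' : TopCat.{u}} {O' : Sheaf (Opens.grothendieckTopology T') CommRingCat.{u}} (g : T' ⟶ T)
  (φ : O ⟶ (TopCat.Sheaf.pushforward CommRingCat.{u} g).obj O')

theorem map_spanSh_le {J : IdealSh O} (h : J ≤ spanSh S) :
    IdealSh.map g φ J ≤ spanSh (U := (Opens.map g).obj U) (img g φ U '' S) := by
  refine (map_le_iff g φ).2 fun V a ha y hy hyU => ?_
  obtain ⟨W, i, j, hyW, hspan⟩ := h V ha (g y) hy hyU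
  refine ⟨(Opens.map g).obj W, (Opens.map g).monotone i, (Opens.map g).monotone j, hyW, ?_⟩
  have e : img g φ W (res O i a) ∈ Ideal.span (img g φ W '' (res O j '' S)) := by
    have := Ideal.mem_map_of_mem (φ.hom.app (op W)).hom hspan
    rw [Ideal.map_span] at this
    exact this
  rw [img_res] at e
  refine Ideal.span_mono ?_ e
  rintro _ ⟨_, ⟨b, hb, rfl⟩, rfl⟩
  exact ⟨img g φ U b, ⟨b, hb, rfl⟩, (img_res g φ j b).symm⟩

end Map

end FBlowLib
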