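import Groth.Agent.FBlowLib.SpfAdic
import Groth.Agent.FBlowLib.AdjoinChart
import Groth.Agent.FBlowLib.Aff
import Groth.Agent.FBlowLib.Span

/-!
# A local chart retraction: non-zero-divisors stay so on a blowing-up
-/

set_option autoImplicit false
set_option linter.style.haveILetI false

universe u

open CategoryTheory CategoryTheory.Limits AlgebraicGeometry TopologicalSpace Opposite FSch FBlow

noncomputable section

namespace FBlowLib

theorem isAdicHom_comp {𝔛 𝔜 ℨ : Sys.{u}} {f : 𝔛 ⟶ 𝔜} {g : 𝔜 ⟶ ℨ} (hf : IsAdicHom f) (hg : IsAdicHom g) :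
    IsAdicHom (f ≫ g) :=
  fun n => (hf n).paste_vert (hg n)

theorem isAdicHom_of_comp {𝔛 𝔜 ℨ : Sys.{u}} {f : 𝔛 ⟶ 𝔜} {g : 𝔜 ⟶ ℨ} (hfg : IsAdicHom (f ≫ g))
    (hg : IsAdicHom g) : IsAdicHom f :=
  fun n => IsPullback.of_bot (hfg n) ((f : Hom 𝔛 𝔜).comm n).symm (hg n)

theorem toSpecOf_comp {𝔛 𝔜 : Sys.{u}} {R : Type u} [CommRing R] {I : Ideal R} (f : 𝔛 ⟶ 𝔜) (p : 𝔜 ⟶ spf R I)
    (n : ℕ) : (f : Hom 𝔛 𝔜).app n ≫ toBase I p n = toSpecOf (f ≫ p) n :=
  (Category.assoc _ _ _).symm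

/-- Among generators of an invertible ideal one generates it near each point. -/
theorem exists_gen_mem {T : TopCat.{u}} {O : Sheaf (Opens.grothendieckTopology T) CommRingCat.{u}}
    (hO : IsLocalSh O) {J : IdealSh O} (hJ : J.IsInvertible) {U : Opens T} (S : Set (O.obj.obj (op U)))
    (hS : J ≤ spanSh S) (hmem : ∀ a ∈ S, a ∈ J.sect U) {x : T} (hx : x ∈ U) :
    ∃ a ∈ S, ∃ (W : Opens T) (i : W ≤ U), x ∈ W ∧ IsGen J W (res O i a) := by
  rw [isInvertible_iff] at hJ
  obtain ⟨U₀, hx₀, e, he⟩ := hJ x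
  obtain ⟨W, i₀, j, hxW, hW⟩ := hS U₀ he.1 x hx₀ hx
  replace he := he.mono i₀
  generalize res O i₀ e = e at he hW
  let T' : Set (O.obj.obj (op W)) := {t | ∃ a ∈ S, res O j a = t * e}
  have hle : Ideal.span (res O j '' S) ≤ Ideal.span T' * Ideal.span {e} := by
    rw [Ideal.span_le]
    rintro _ ⟨a, ha, rfl⟩
    obtain ⟨t, ht⟩ := (he.2 W le_rfl).2 _ (J.map_mem j (hmem a ha))
    rw [res, IdealSh.map_id_apply] at ht
    rw [SetLike.mem_coe, show res O j a = t * e from ht]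
    exact Ideal.mul_mem_mul (Ideal.subset_span (s := T') ⟨a, ha, ht⟩) (Ideal.mem_span_singleton_self e)
  obtain ⟨z, hz, hz'⟩ := Ideal.mem_mul_span_singleton.1 (hle hW)
  have hz1 : z - 1 = 0 := by
    refine (he.2 W le_rfl).1 _ ?_
    rw [res, IdealSh.map_id_apply, sub_mul, one_mul, sub_eq_zero]
    exact hz'
  obtain ⟨t, ⟨a, ha, hat⟩, W', k, hxW', hu⟩ :=
    hO W x hxW T' ((Ideal.eq_top_iff_one _).2 (sub_eq_zero.1 hz1 ▸ hz))
  have heW := he.mono k
  have hae : res O (k.trans j) a = res O k t * res O k e := by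
    have := congrArg (O.obj.map (homOfLE k).op) hat
    rw [_root_.map_mul, res, IdealSh.map_comp_apply] at this
    exact this
  refine ⟨a, ha, W', k.trans j, hxW', J.map_mem _ (hmem a ha), fun V l => ⟨fun s hs => ?_, fun s hs => ?_⟩⟩
  · rw [hae, res, _root_.map_mul, mul_left_comm] at hs
    exact (heW.2 V l).1 s ((IsUnit.mul_right_eq_zero (hu.map (O.obj.map (homOfLE l).op).hom)).1 hs)
  · obtain ⟨c, hc⟩ := (heW.2 V l).2 s hs
    obtain ⟨w, hw⟩ := hu.map (O.obj.map (homOfLE l).op).hom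
    refine ⟨c * ↑w⁻¹, ?_⟩
    rw [hc, hae]
    show c * O.obj.map (homOfLE l).op (res O k e) =
      c * ↑w⁻¹ * O.obj.map (homOfLE l).op (res O k t * res O k e)
    rw [_root_.map_mul, mul_assoc, ← mul_assoc (↑w⁻¹ : O.obj.obj (op V))]
    have : (↑w⁻¹ : O.obj.obj (op V)) * O.obj.map (homOfLE l).op (res O k t) = 1 :=
      (congrArg (_ * ·) hw.symm).trans (Units.inv_mul w)
    rw [this, one_mul]

variable {R : Type u} [CommRing R] {I : Ideal R}

section Chart

variable {𝔛' : Sys.{u}} (h' : 𝔛'.IsFormal) (p' : 𝔛' ⟶ spf R I)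
  {U : (𝔛'.X 0).Opens} (hU : IsAffineOpen U) {C : Type u} [CommRing C] (φ : (𝔛'.Osh h').obj.obj (op U) →+* C)

/-- The map of the base ring to the chart. -/
abbrev baseHom : R →+* C := φ.comp (pull h' (toBase I p') (toBase_comm I p') U)

variable (hI : I.FG) (hp' : IsAdicHom p') {J : Ideal C} (hJ : I.map (baseHom h' p' φ) = J)

include hp' hI hU hJ in
/-- The formal spectrum of a ring over the sections of an affine open, over the open. -/
theorem exists_chartHom (hC : (spf C J).IsFormal) :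
    ∃ (z : spf C J ⟶ 𝔛') (hz : ⊤ ≤ (z : Hom (spf C J) 𝔛').app 0 ⁻¹ᵁ U), IsAdicHom z ∧
      ∀ a, secMap h' hC z hz a = pull hC (toSpecOf (𝟙 (spf C J))) (toSpecOf_comm _) ⊤ (φ a) := by
  let ψ := (pull hC (toSpecOf (𝟙 (spf C J))) (toSpecOf_comm _) ⊤).comp φ
  have hψ : ∀ n a, FModLib.oProj h' U n a = 0 → topLvl hC n (ψ a) = 0 := by
    intro n a ha
    refine topLvl_pull_pow hC (𝟙 _) n ?_
    rw [← hJ, baseHom, ← Ideal.map_map, ← Ideal.map_pow, ← Ideal.map_pow]
    refine Ideal.mem_map_of_mem φ ?_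
    rw [← (ker_oProj h' p' hp' hI hU n).1]
    exact RingHom.mem_ker.2 ha
  let z := fromAff h' hU hC ψ (fun n => (ker_oProj h' p' hp' hI hU n).2) hψ
  have hz : ⊤ ≤ (z : Hom (spf C J) 𝔛').app 0 ⁻¹ᵁ U := fun y hy =>
    (lvU_zero h' U).le (top_le_fromAff h' hU hC ψ _ hψ 0 hy)
  have hsec : ∀ a, secMap h' hC z hz a = ψ a := fun a => secMap_fromAff h' hU hC ψ _ hψ hz a
  refine ⟨z, hz, ?_, hsec⟩
  have hle : I ≤ J.comap (baseHom h' p' φ) := Ideal.map_le_iff_le_comap.1 hJ.le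
  have e : z ≫ p' = spfMap J I (baseHom h' p' φ) hle := by
    rw [← Category.id_comp (spfMap J I (baseHom h' p' φ) hle)]
    refine homSpf_ext hC fun r => ?_
    rw [pull_spfMap hC _ hle]
    refine Eq.trans ?_ (hsec (pull h' (toBase I p') (toBase_comm I p') U r))
    refine Eq.symm ((congrArg (res _ hz) (sharp_pull z hC h' (toBase I p') (toBase_comm I p') (toSpecOf (z ≫ p'))
      (toSpecOf_comm _) (toSpecOf_comp z p') U r)).trans ?_)
    exact res_pull hC _ _ hz r
  exact isAdicHom_of_comp (e ▸ isAdicHom_spfMap J I _ hle hJ) hp'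

end Chart

section Alg

variable {A : Type u} [CommRing A] (S : Set A) (k₀ : A)

/-- The fractions with denominator `k₀` and numerators in `S`. -/
def fracs : Set (Localization.Away k₀) :=
  {x | ∃ k ∈ S, x * algebraMap A (Localization.Away k₀) k₀ = algebraMap A (Localization.Away k₀) k}

theorem nzd_adjoin_den (x : ↥(Algebra.adjoin A (fracs S k₀)))
    (hx : x * algebraMap A ↥(Algebra.adjoin A (fracs S k₀)) k₀ = 0) : x = 0 :=
  Subtype.ext ((IsLocalization.Away.algebraMap_isUnit k₀).mul_left_eq_zero.1 (congrArg Subtype.val hx :))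

theorem nzd_adjoin (g : A) (hg : ∀ t : A, t * g = 0 → t = 0) (x : ↥(Algebra.adjoin A (fracs S k₀)))
    (hx : x * algebraMap A ↥(Algebra.adjoin A (fracs S k₀)) g = 0) : x = 0 := by
  obtain ⟨⟨a, s⟩, e⟩ := IsLocalization.surj (Submonoid.powers k₀) (x : Localization.Away k₀)
  have hx' : (x : Localization.Away k₀) * algebraMap A _ g = 0 := congrArg Subtype.val hx
  have h0 : algebraMap A (Localization.Away k₀) (a * g) = 0 := by
    rw [_root_.map_mul, ← e, mul_right_comm, hx', zero_mul]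
  obtain ⟨m, hm⟩ := (IsLocalization.map_eq_zero_iff (Submonoid.powers k₀) _ _).1 h0
  have ha : (m : A) * a = 0 := hg _ (by rw [mul_assoc]; exact hm)
  have hu := IsLocalization.map_units (Localization.Away k₀) s
  refine Subtype.ext (hu.mul_left_eq_zero.1 ?_)
  rw [e, (IsLocalization.map_eq_zero_iff (Submonoid.powers k₀) _ _).2 ⟨m, ha⟩]

theorem mem_span_den {k : A} (hk : k ∈ S) :
    algebraMap A ↥(Algebra.adjoin A (fracs S k₀)) k ∈
      Ideal.span {algebraMap A ↥(Algebra.adjoin A (fracs S k₀)) k₀} := by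
  obtain ⟨w, hw⟩ := (IsLocalization.Away.algebraMap_isUnit (S := Localization.Away k₀) k₀).exists_left_inv
  have hx : (algebraMap A (Localization.Away k₀) k * w) ∈ fracs S k₀ := ⟨k, hk, by rw [mul_assoc, hw, mul_one]⟩
  exact Ideal.mem_span_singleton'.2 ⟨⟨_, Algebra.subset_adjoin hx⟩, Subtype.ext (by
    show algebraMap A (Localization.Away k₀) k * w * algebraMap A _ k₀ = algebraMap A _ k
    rw [mul_assoc, hw, mul_one])⟩

end Alg

end FBlowLib
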