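import Groth.Agent.FBlowLib.Units

/-!
# Functoriality of inverse image ideals along morphisms of formal systems
-/

set_option autoImplicit false

universe u

open CategoryTheory CategoryTheory.Limits AlgebraicGeometry TopologicalSpace Opposite FSch FBlow

noncomputable section

namespace FBlowLib

section

variable {𝔛 𝔜 : Sys.{u}} (f : 𝔛 ⟶ 𝔜) (h𝔛 : 𝔛.IsFormal) (h𝔜 : 𝔜.IsFormal)

theorem oProj_sharp (n : ℕ) (W : (𝔜.X 0).Opens) (b : (𝔜.Osh h𝔜).obj.obj (op W)) :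
    FModLib.oProj h𝔛 ((f : Hom 𝔛 𝔜).app 0 ⁻¹ᵁ W) n ((Hom.sharp f h𝔛 h𝔜).hom.app (op W) b) =
      ((f : Hom 𝔛 𝔜).app n).appLE (𝔜.lvU h𝔜 n W) (𝔛.lvU h𝔛 n ((f : Hom 𝔛 𝔜).app 0 ⁻¹ᵁ W))
        (Hom.lvU_preimage f h𝔛 h𝔜 n W).ge (FModLib.oProj h𝔜 W n b) :=
  by
  have h := Hom.sharp_proj f h𝔛 h𝔜 n
  have h2 := congrArg (fun t => t.hom.app (op W)) h
  exact congr($h2 b)

theorem oProj_schSharp {Y : Scheme.{u}} (p : ∀ n, 𝔛.X n ⟶ Y) (hp : ∀ n, 𝔛.ι n ≫ p (n + 1) = p n)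
    (n : ℕ) (W : Y.Opens) (b : Γ(Y, W)) :
    FModLib.oProj h𝔛 (p 0 ⁻¹ᵁ W) n ((schSharp 𝔛 h𝔛 p hp).hom.app (op W) b) =
      (p n).appLE W (𝔛.lvU h𝔛 n (p 0 ⁻¹ᵁ W)) (lvU_p 𝔛 h𝔛 p hp n W).ge b :=
  by
  have h := schSharp_proj 𝔛 h𝔛 p hp n
  have h2 := congrArg (fun t => t.hom.app (op W)) h
  exact congr($h2 b)

end

section

variable {𝔛 𝔜 ℨ : Sys.{u}} (f : 𝔛 ⟶ 𝔜) (g : 𝔜 ⟶ ℨ) (h𝔛 : 𝔛.IsFormal) (h𝔜 : 𝔜.IsFormal) (hℨ : ℨ.IsFormal)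

/-- The composite of two morphisms of systems, with the space map displayed. -/
theorem idealMap_idealMap (J : IdealSh (ℨ.Osh hℨ)) :
    idealMap f h𝔛 h𝔜 (idealMap g h𝔜 hℨ J) = idealMap (f ≫ g) h𝔛 hℨ J := by
  refine map_map ((g : Hom 𝔜 ℨ).app 0).base (Hom.sharp g h𝔜 hℨ) ((f : Hom 𝔛 𝔜).app 0).base
    (Hom.sharp f h𝔛 h𝔜) (Hom.sharp (f ≫ g) h𝔛 hℨ) (fun W a => FModLib.oSec_ext h𝔛 _ fun n => ?_) J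
  refine (oProj_sharp (f ≫ g) h𝔛 hℨ n W a).trans ?_
  refine Eq.trans ?_ (oProj_sharp f h𝔛 h𝔜 n ((g : Hom 𝔜 ℨ).app 0 ⁻¹ᵁ W)
    ((Hom.sharp g h𝔜 hℨ).hom.app (op W) a)).symm
  refine Eq.trans ?_ (congrArg (((f : Hom 𝔛 𝔜).app n).appLE _ _ _) (oProj_sharp g h𝔜 hℨ n W a)).symm
  exact congr($((Scheme.Hom.appLE_comp_appLE ((f : Hom 𝔛 𝔜).app n) ((g : Hom 𝔜 ℨ).app n) _ _ _ _ _).symm) _)

theorem sharp_schSharp {Y : Scheme.{u}} (p : ∀ n, ℨ.X n ⟶ Y) (hp : ∀ n, ℨ.ι n ≫ p (n + 1) = p n)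
    (g : 𝔜 ⟶ ℨ) (hq : ∀ n, 𝔜.ι n ≫ (g : Hom 𝔜 ℨ).app (n + 1) ≫ p (n + 1) = (g : Hom 𝔜 ℨ).app n ≫ p n)
    (W : Y.Opens) (a : Γ(Y, W)) :
    (Hom.sharp g h𝔜 hℨ).hom.app (op (p 0 ⁻¹ᵁ W)) ((schSharp ℨ hℨ p hp).hom.app (op W) a) =
      (schSharp 𝔜 h𝔜 (fun n => (g : Hom 𝔜 ℨ).app n ≫ p n) hq).hom.app (op W) a := by
  refine FModLib.oSec_ext h𝔜 ((g : Hom 𝔜 ℨ).app 0 ⁻¹ᵁ (p 0 ⁻¹ᵁ W)) fun n => ?_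
  rw [oProj_sharp g h𝔜 hℨ n (p 0 ⁻¹ᵁ W)]
  erw [oProj_schSharp hℨ p hp n W a]
  refine Eq.trans ?_ (oProj_schSharp h𝔜 (fun n => (g : Hom 𝔜 ℨ).app n ≫ p n) hq n W a).symm
  rw [← CategoryTheory.comp_apply, Scheme.Hom.appLE_comp_appLE]
  rfl

theorem idealMap_schIdealMap {Y : Scheme.{u}} (p : ∀ n, ℨ.X n ⟶ Y) (hp : ∀ n, ℨ.ι n ≫ p (n + 1) = p n)
    (g : 𝔜 ⟶ ℨ) (q : ∀ n, 𝔜.X n ⟶ Y) (hq : ∀ n, 𝔜.ι n ≫ q (n + 1) = q n)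
    (hgq : ∀ n, (g : Hom 𝔜 ℨ).app n ≫ p n = q n) (K : IdealSh Y.sheaf) :
    idealMap g h𝔜 hℨ (schIdealMap ℨ hℨ p hp K) = schIdealMap 𝔜 h𝔜 q hq K := by
  obtain rfl : q = fun n => (g : Hom 𝔜 ℨ).app n ≫ p n := (funext hgq).symm
  unfold schIdealMap idealMap
  refine (map_map (T := Y.carrier) (p 0).base (schSharp ℨ hℨ p hp) ((g : Hom 𝔜 ℨ).app 0).base
    (Hom.sharp g h𝔜 hℨ) (schSharp 𝔜 h𝔜 (fun n => (g : Hom 𝔜 ℨ).app n ≫ p n) hq) ?_ K :)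
  intro W a
  exact (sharp_schSharp h𝔜 hℨ p hp g hq W a).symm

end

end FBlowLib
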