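import Groth.Agent.FBlowLib.Nzd
import Groth.Agent.FBlowLib.HomSpf
import Groth.Agent.FComplLib.Basic

/-!
# Adic morphisms of formal spectra; global elements
-/

set_option autoImplicit false

universe u

open CategoryTheory CategoryTheory.Limits AlgebraicGeometry TopologicalSpace Opposite FSch FComplLib

noncomputable section

namespace FBlowLib

theorem isAdicHom_spfMap {A B : Type u} [CommRing A] [CommRing B] (I : Ideal A) (K : Ideal B) (φ : B →+* A)
    (hle : K ≤ I.comap φ) (hK : K.map φ = I) : IsAdicHom (spfMap I K φ hle) := by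
  intro n
  have := (spf_isFormal I n).1
  have := (spf_isFormal K n).1
  refine isPullback_of_isClosedImmersion _ _ _ _ ((spfMap I K φ hle : FSch.Hom _ _).comm n).symm ?_
  rw [spf_ι, spfMap_app]
  erw [ker_specMap, BlowUpLib.comap_specIdeal, spf_ι, ker_specMap]
  subst hK
  rw [ker_qmap, ker_qmap]
  refine congrArg BlowUpLib.specIdeal ?_
  rw [Ideal.map_map]
  refine Eq.trans ?_ (congrArg (Ideal.map _) (Ideal.map_pow φ K (n + 1)))
  rw [Ideal.map_map]
  rfl

theorem topLvl_pull_pow {𝔜 : Sys.{u}} (h : 𝔜.IsFormal) {A : Type u} [CommRing A] {K : Ideal A}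
    (g : 𝔜 ⟶ spf A K) (n : ℕ) {a : A} (ha : a ∈ K ^ (n + 1)) :
    topLvl h n (pull h (toSpecOf g) (toSpecOf_comm g) ⊤ a) = 0 := by
  rw [topLvl_pull]
  refine (comp_specMap_top (Ideal.Quotient.mk (K ^ (n + 1))) _ ⊤ a).trans ?_
  rw [Ideal.Quotient.eq_zero_iff_mem.mpr ha]
  exact (congrArg _ (map_zero (Scheme.ΓSpecIso (CommRingCat.of (A ⧸ K ^ (n + 1)))).inv.hom)).trans (map_zero _)

theorem toSpecOf_id (A : Type u) [CommRing A] (J : Ideal A) :
    toSpecOf (𝟙 (spf A J)) = spfToSpec A J := funext fun _ => Category.id_comp _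

theorem isSpfLike_id (A : Type u) [CommRing A] (J : Ideal A) :
    IsSpfLike (𝔛 := spf A J) (toSpecOf (𝟙 (spf A J))) J := by
  rw [toSpecOf_id]
  exact isSpfLike_spf A J

end FBlowLib
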