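import Groth.Agent.FBlowLib.Ideal
import Groth.Agent.FModLib.AffLevels

/-!
# The structure sheaf of a formal system is a sheaf of local rings
-/

set_option autoImplicit false

universe u

open CategoryTheory CategoryTheory.Limits AlgebraicGeometry TopologicalSpace Opposite FSch

noncomputable section

namespace FBlowLib

variable {𝔛 : Sys.{u}} (h : 𝔛.IsFormal)

theorem lvU_zero (U : (𝔛.X 0).Opens) : 𝔛.lvU h 0 U = U := by
  show (Opens.map (𝔛.gInv h 0)).obj U = U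
  rw [FModLib.gInv_zero_aff]
  rfl

theorem oProj_toX (k : ℕ) (V : (𝔛.X 0).Opens) (g : (𝔛.Osh h).obj.obj (op V)) :
    (𝔛.toX k).appLE (𝔛.lvU h k V) (𝔛.lvU h 0 V) (FModLib.lvU_le_toX h k V) (FModLib.oProj h V k g) =
      FModLib.oProj h V 0 g := by
  induction k with
  | zero =>
    show ((𝟙 (𝔛.X 0) : 𝔛.X 0 ⟶ 𝔛.X 0).appLE _ _ _) _ = _
    exact congr($((Category.id_comp _).trans ((congrArg (𝔛.X 0).presheaf.map (Subsingleton.elim _ (𝟙 _))).trans
      ((𝔛.X 0).presheaf.map_id _))) (FModLib.oProj h V 0 g))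
  | succ k ih =>
    refine Eq.trans ?_ ih
    refine Eq.trans ?_ (congrArg ((𝔛.toX k).appLE _ _ (FModLib.lvU_le_toX h k V)) (FModLib.oProj_succ h V k g))
    exact congr($((Scheme.Hom.appLE_comp_appLE (𝔛.toX k) (𝔛.ι k) _ _ _ (𝔛.lvU_le h k V)
      (FModLib.lvU_le_toX h k V)).symm) (FModLib.oProj h V (k + 1) g))

theorem oProj_res {U V : (𝔛.X 0).Opens} (i : V ≤ U) (k : ℕ) (s : (𝔛.Osh h).obj.obj (op U)) :
    FModLib.oProj h V k (res (𝔛.Osh h) i s) =
      (𝔛.X k).presheaf.map (homOfLE ((Opens.map (𝔛.gInv h k)).monotone i)).op (FModLib.oProj h U k s) :=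
  congr($((𝔛.OshProj h k).hom.naturality (homOfLE i).op) s)

theorem isUnit_of_isUnit_oProj {U : (𝔛.X 0).Opens} (b : (𝔛.Osh h).obj.obj (op U))
    (hU : IsAffineOpen U) (hb : ∀ n, IsUnit (FModLib.oProj h U n b)) : IsUnit b := by
  choose w hw using fun n => isUnit_iff_exists_inv.1 (hb n)
  have hw' : ∀ n, (𝔛.levelMap h n).hom.app (op U) (w (n + 1)) = w n := fun n => by
    have := congrArg ((𝔛.levelMap h n).hom.app (op U)) (hw (n + 1))
    rw [_root_.map_mul, map_one, FModLib.oProj_succ h U n b] at this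
    exact (hb n).mul_left_cancel (this.trans (hw n).symm)
  obtain ⟨c, hc⟩ := (FModLib.toLim_bijective h U hU).2 ⟨w, hw'⟩
  refine isUnit_iff_exists_inv.2 ⟨c, FModLib.oSec_ext h U fun n => ?_⟩
  rw [_root_.map_mul, map_one]
  have e : FModLib.oProj h U n c = w n := congrArg (fun x => x.1 n) hc
  rw [e]
  exact hw n

theorem exists_isUnit_res {U : (𝔛.X 0).Opens} (s : (𝔛.Osh h).obj.obj (op U)) {x : 𝔛.X 0}
    (hx : x ∈ (𝔛.X 0).basicOpen (FModLib.oProj h U 0 s)) :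
    ∃ (V : (𝔛.X 0).Opens) (i : V ≤ U), IsAffineOpen V ∧ x ∈ V ∧ IsUnit (res (𝔛.Osh h) i s) := by
  have hBU : (𝔛.X 0).basicOpen (FModLib.oProj h U 0 s) ≤ U := ((𝔛.X 0).basicOpen_le _).trans (lvU_zero h U).le
  obtain ⟨V, hV, hxV, hVB⟩ := Opens.isBasis_iff_nbhd.mp (𝔛.X 0).isBasis_affineOpens hx
  refine ⟨V, hVB.trans hBU, hV, hxV, isUnit_of_isUnit_oProj h _ hV fun n => ?_⟩
  rw [oProj_res]
  refine RingedSpace.isUnit_of_isUnit_germ (𝔛.X n).toLocallyRingedSpace.toRingedSpace _ _ fun y hy => ?_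
  refine ((𝔛.X n).mem_basicOpen _ y hy).1 ?_
  rw [Scheme.basicOpen_res]
  refine ⟨hy, ?_⟩
  have e : (𝔛.toX n) ((𝔛.gInv h n) y) = y := congr($(Sys.gInv_toX_base 𝔛 h n) y)
  have hz : (𝔛.gInv h n) y ∈ (𝔛.X 0).basicOpen (FModLib.oProj h U 0 s) := hVB hy
  rw [← oProj_toX h n U s, Scheme.basicOpen_appLE] at hz
  exact e ▸ hz.2

theorem isLocalSh_Osh : IsLocalSh (𝔛.Osh h) := by
  intro U x hx S hS
  by_contra hne
  simp only [not_exists, not_and] at hne
  have hx0 : x ∈ 𝔛.lvU h 0 U := (lvU_zero h U).ge hx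
  let χ : (𝔛.Osh h).obj.obj (op U) →+* (𝔛.X 0).presheaf.stalk x :=
    (((𝔛.X 0).presheaf.germ (𝔛.lvU h 0 U) x hx0).hom).comp (FModLib.oProj h U 0).hom
  have hle : Ideal.span S ≤ (IsLocalRing.maximalIdeal ((𝔛.X 0).presheaf.stalk x)).comap χ := by
    rw [Ideal.span_le]
    intro s hs
    by_contra hsm
    have hu : IsUnit (χ s) := by
      rw [SetLike.mem_coe, Ideal.mem_comap, IsLocalRing.mem_maximalIdeal] at hsm
      exact not_not.1 hsm
    obtain ⟨V, i, -, hxV, hV⟩ := exists_isUnit_res h s (((𝔛.X 0).mem_basicOpen _ x hx0).2 hu)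
    exact hne s hs V i hxV hV
  rw [hS, top_le_iff, Ideal.eq_top_iff_one, Ideal.mem_comap, map_one] at hle
  exact (IsLocalRing.maximalIdeal.isMaximal ((𝔛.X 0).presheaf.stalk x)).ne_top ((Ideal.eq_top_iff_one _).2 hle)

end FBlowLib
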